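import Groth.Agent.GenFree.ReducedMain
import Mathlib.LinearAlgebra.Matrix.ToLin
import Mathlib.LinearAlgebra.FreeModule.Basic
import Mathlib.RingTheory.Noetherian.Basic
import Mathlib.RingTheory.Flat.FaithfullyFlat.Algebra

/-!
# Independence of finitely many elements in the fibres spreads out
-/

set_option autoImplicit false
set_option linter.style.haveILetI false
set_option backward.isDefEq.respectTransparency false

universe u

open TensorProduct

namespace Groth.Agent.RG.Pure

theorem injective_lTensor_field_ext {R X Y : Type u} [CommRing R] [AddCommGroup X] [Module R X] [AddCommGroup Y]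
    [Module R Y] (u : X →ₗ[R] Y) (κ K : Type u) [Field κ] [Field K] [Algebra R κ] [Algebra R K] [Algebra κ K]
    [IsScalarTower R κ K] : Function.Injective (u.lTensor K) ↔ Function.Injective (u.lTensor κ) := by
  let v : κ ⊗[R] X →ₗ[κ] κ ⊗[R] Y := AlgebraTensorModule.lTensor κ κ u
  let eX := AlgebraTensorModule.cancelBaseChange R κ K K X
  let eY := AlgebraTensorModule.cancelBaseChange R κ K K Y
  have key : ∀ z, eY (v.lTensor K z) = u.lTensor K (eX z) := by
    intro z
    induction z using TensorProduct.induction_on with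
    | zero => simp
    | tmul k w =>
      induction w using TensorProduct.induction_on with
      | zero => simp
      | tmul l x => simp [eX, eY, v]
      | add a b ha hb => simp only [tmul_add, map_add, ha, hb]
    | add a b ha hb => simp only [map_add, ha, hb]
  have h1 : Function.Injective (u.lTensor K) ↔ Function.Injective (v.lTensor K) := by
    refine ⟨fun h a b hab => eX.injective (h (by rw [← key, ← key, hab])), fun h a b hab => ?_⟩
    obtain ⟨a, rfl⟩ := eX.surjective a
    obtain ⟨b, rfl⟩ := eX.surjective b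
    rw [← key, ← key] at hab
    rw [h (eY.injective hab)]
  rw [h1]
  refine ⟨fun h a b hab => ?_, fun h => Module.Flat.lTensor_preserves_injective_linearMap v h⟩
  have h2 : v.lTensor K ((1 : K) ⊗ₜ[κ] a) = v.lTensor K ((1 : K) ⊗ₜ[κ] b) := by
    simp only [LinearMap.lTensor_tmul]
    exact congrArg (fun w => (1 : K) ⊗ₜ[κ] w) hab
  exact Module.FaithfullyFlat.tensorProduct_mk_injective (A := κ) (B := K) _ (h h2)

theorem injective_lTensor_baseChange {R R' X Y : Type u} [CommRing R] [CommRing R'] [Algebra R R'] [AddCommGroup X]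
    [Module R X] [AddCommGroup Y] [Module R Y] (u : X →ₗ[R] Y) (K : Type u) [Field K] [Algebra R K] [Algebra R' K]
    [IsScalarTower R R' K] : Function.Injective ((u.baseChange R').lTensor K) ↔ Function.Injective (u.lTensor K) := by
  let eX := AlgebraTensorModule.cancelBaseChange R R' K K X
  let eY := AlgebraTensorModule.cancelBaseChange R R' K K Y
  have key : ∀ z, eY ((u.baseChange R').lTensor K z) = u.lTensor K (eX z) := by
    intro z
    induction z using TensorProduct.induction_on with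
    | zero => simp
    | tmul k w =>
      induction w using TensorProduct.induction_on with
      | zero => simp
      | tmul l x => simp [eX, eY]
      | add a b ha hb => simp only [tmul_add, map_add, ha, hb]
    | add a b ha hb => simp only [map_add, ha, hb]
  refine ⟨fun h a b hab => ?_, fun h a b hab => eX.injective (h (by rw [← key, ← key, hab]))⟩
  obtain ⟨a, rfl⟩ := eX.surjective a
  obtain ⟨b, rfl⟩ := eX.surjective b
  rw [← key, ← key] at hab
  rw [h (eY.injective hab)]

/-- independence in a fibre of a free module is a minor condition -/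
theorem injective_lTensor_iff_det {R F : Type u} [CommRing R] [AddCommGroup F] [Module R F] [Module.Free R F] {k : ℕ}
    (u : (Fin k → R) →ₗ[R] F) (t : Ideal R) [t.IsPrime] :
    Function.Injective (u.lTensor t.ResidueField) ↔
      ∃ φ : F →ₗ[R] (Fin k → R), (LinearMap.toMatrix' (φ ∘ₗ u)).det ∉ t := by
  classical
  let K := t.ResidueField
  let π := algebraMap R K
  let eK : K ⊗[R] (Fin k → R) ≃ₗ[K] (Fin k → K) := TensorProduct.piScalarRight R K K (Fin k)
  have heK : ∀ (c : Fin k → R), eK ((1 : K) ⊗ₜ c) = fun i => π (c i) := fun c => by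
    funext i
    simp [eK, π, Algebra.smul_def]
  constructor
  · intro hinj
    let uK : (Fin k → K) →ₗ[K] K ⊗[R] F := (AlgebraTensorModule.lTensor K K u) ∘ₗ eK.symm.toLinearMap
    have huK : LinearMap.ker uK = ⊥ :=
      LinearMap.ker_eq_bot.2 fun a b hab => eK.symm.injective (hinj hab)
    obtain ⟨ψ, hψ⟩ := LinearMap.exists_leftInverse_of_injective uK huK
    let ℬ := Module.Free.chooseBasis R F
    let T := Finset.univ.biUnion fun j : Fin k => (ℬ.repr (u (Pi.single j 1))).support
    have hlift : ∀ z : K, ∃ s : R, s ∉ t ∧ ∃ r : R, π s * z = π r := by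
      intro z
      obtain ⟨a, rfl⟩ := IsLocalRing.residue_surjective z
      obtain ⟨r, s, rfl⟩ := IsLocalization.exists_mk'_eq t.primeCompl a
      refine ⟨s, s.2, r, ?_⟩
      change IsLocalRing.residue _ (algebraMap R (Localization.AtPrime t) (s : R)) * IsLocalRing.residue _ _ =
        IsLocalRing.residue _ (algebraMap R (Localization.AtPrime t) r)
      rw [← map_mul, IsLocalization.mk'_spec']
    choose s hs r hr using fun (x : T × Fin k) => hlift (ψ ((1 : K) ⊗ₜ[R] ℬ x.1.1) x.2)
    let c : R := ∏ x : T × Fin k, s x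
    have hc : c ∉ t := fun h => by
      obtain ⟨x, -, hx⟩ := (‹t.IsPrime›).prod_mem_iff.1 h
      exact hs x hx
    let φ : F →ₗ[R] (Fin k → R) := ℬ.constr R fun i =>
      if h : i ∈ T then fun m => (∏ x ∈ (Finset.univ : Finset (T × Fin k)).erase (⟨i, h⟩, m), s x) * r (⟨i, h⟩, m)
      else 0
    have hφ : ∀ i ∈ T, ∀ m, π (φ (ℬ i) m) = π c * ψ ((1 : K) ⊗ₜ[R] ℬ i) m := by
      intro i hi m
      have h1 : c = (∏ x ∈ (Finset.univ : Finset (T × Fin k)).erase (⟨i, hi⟩, m), s x) * s (⟨i, hi⟩, m) :=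
        (Finset.prod_erase_mul _ _ (Finset.mem_univ _)).symm
      rw [show φ (ℬ i) m = (∏ x ∈ (Finset.univ : Finset (T × Fin k)).erase (⟨i, hi⟩, m), s x) * r (⟨i, hi⟩, m) by
        simp [φ, hi], h1, map_mul, map_mul, mul_assoc, hr]
    refine ⟨φ, fun hdet => ?_⟩
    have hM : (LinearMap.toMatrix' (φ ∘ₗ u)).map π = Matrix.diagonal fun _ => π c := by
      ext m j
      rw [Matrix.map_apply, LinearMap.toMatrix'_apply, LinearMap.comp_apply]
      have h0 : (fun j' => if j' = j then (1 : R) else 0) = Pi.single j 1 := by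
        funext j'; simp [Pi.single_apply]
      have h1 : u (Pi.single j 1) = ∑ i ∈ T, ℬ.repr (u (Pi.single j 1)) i • ℬ i := by
        conv_lhs => rw [← ℬ.linearCombination_repr (u (Pi.single j 1))]
        rw [Finsupp.linearCombination_apply, Finsupp.sum_of_support_subset _ (Finset.subset_biUnion_of_mem
          (fun j : Fin k => (ℬ.repr (u (Pi.single j 1))).support) (Finset.mem_univ j))]
        simp
      have h2 : ψ ((1 : K) ⊗ₜ[R] u (Pi.single j 1)) m = (Pi.single j (1 : K) : Fin k → K) m := by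
        have h4 : eK.symm (Pi.single j (1 : K)) = (1 : K) ⊗ₜ[R] (Pi.single j 1) := by
          rw [LinearEquiv.symm_apply_eq, heK]
          funext i
          by_cases h : i = j <;> simp [h, π]
        have h3 := congrFun (LinearMap.congr_fun hψ (Pi.single j (1 : K))) m
        rw [LinearMap.id_apply, LinearMap.comp_apply] at h3
        rw [← h3]
        simp [uK, h4]
      rw [h1, map_sum, Finset.sum_apply, map_sum]
      have h5 : ∀ i ∈ T, π ((φ (ℬ.repr (u (Pi.single j 1)) i • ℬ i)) m) =
          π c * ψ ((1 : K) ⊗ₜ[R] (ℬ.repr (u (Pi.single j 1)) i • ℬ i)) m := by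
        intro i hi
        rw [map_smul, Pi.smul_apply, smul_eq_mul, map_mul, hφ i hi, tmul_smul, ← algebraMap_smul K, map_smul,
          Pi.smul_apply, smul_eq_mul]
        ring
      rw [Finset.sum_congr rfl h5, ← Finset.mul_sum, ← Finset.sum_apply, ← map_sum, ← tmul_sum, ← h1, h2]
      by_cases hmj : m = j
      · subst hmj; simp
      · simp [hmj, Matrix.diagonal_apply_ne]
    have h6 : π (LinearMap.toMatrix' (φ ∘ₗ u)).det = π c ^ k := by
      rw [RingHom.map_det, RingHom.mapMatrix_apply, hM, Matrix.det_diagonal, Finset.prod_const, Finset.card_univ,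
        Fintype.card_fin]
    rw [Ideal.algebraMap_residueField_eq_zero.2 hdet] at h6
    exact hc (Ideal.algebraMap_residueField_eq_zero.1 (eq_zero_of_pow_eq_zero h6.symm))
  · rintro ⟨φ, hdet⟩
    let M := LinearMap.toMatrix' (φ ∘ₗ u)
    let d := M.det
    let χ : (Fin k → R) →ₗ[R] (Fin k → R) := Matrix.toLin' M.adjugate
    have hχ : ∀ c, χ (φ (u c)) = d • c := by
      intro c
      have h1 : φ (u c) = M.mulVec c := by
        rw [← Matrix.toLin'_apply, Matrix.toLin'_toMatrix']; rfl
      rw [h1, Matrix.toLin'_apply, Matrix.mulVec_mulVec, Matrix.adjugate_mul, Matrix.smul_mulVec, Matrix.one_mulVec]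
    rw [injective_iff_map_eq_zero]
    intro z hz
    have h1 : (χ ∘ₗ φ).lTensor K (u.lTensor K z) = π d • z := by
      rw [← LinearMap.lTensor_comp_apply]
      clear hz
      induction z using TensorProduct.induction_on with
      | zero => simp
      | tmul a c =>
        simp only [LinearMap.lTensor_tmul, LinearMap.comp_apply, hχ]
        rw [tmul_smul, ← algebraMap_smul K d]
      | add a b ha hb => rw [map_add, ha, hb, smul_add]
    rw [hz, map_zero] at h1
    exact (smul_eq_zero.1 h1.symm).resolve_left fun h => hdet (Ideal.algebraMap_residueField_eq_zero.1 h)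

attribute [local instance] Algebra.TensorProduct.rightAlgebra in
/-- independence in the fibres at all generisations of `p` spreads to a neighbourhood of `p` -/
theorem exists_nhd_indep {R₁ S₁ M₁ A : Type u} [CommRing R₁] [IsNoetherianRing R₁] [CommRing S₁] [Algebra R₁ S₁]
    [Algebra.FiniteType R₁ S₁] [AddCommGroup M₁] [Module S₁ M₁] [Module R₁ M₁] [IsScalarTower R₁ S₁ M₁]
    [Module.Finite S₁ M₁] [CommRing A] [Algebra R₁ A] (p : Ideal A) [p.IsPrime] {k : ℕ}
    (u : (Fin k → R₁) →ₗ[R₁] M₁)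
    (h : ∀ (t : Ideal A) [t.IsPrime], t ≤ p → Function.Injective (u.lTensor t.ResidueField)) :
    ∃ g ∉ p, ∀ (t : Ideal A) [t.IsPrime], g ∉ t → Function.Injective (u.lTensor t.ResidueField) := by
  classical
  have h1p : (1 : A) ∉ p := fun h => (‹p.IsPrime›).ne_top ((Ideal.eq_top_iff_one p).2 h)
  suffices key : ∀ J : Ideal R₁, ∃ g ∉ p, ∀ (t : Ideal A) [t.IsPrime], g ∉ t → J.map (algebraMap R₁ A) ≤ t →
      Function.Injective (u.lTensor t.ResidueField) by
    obtain ⟨g, hg, hg'⟩ := key ⊥
    exact ⟨g, hg, fun t _ ht => hg' t ht (by simp)⟩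
  intro J
  induction J using WellFoundedGT.induction with
  | ind P ih =>
  by_cases htop : P = ⊤
  · exact ⟨1, h1p, fun t ht _ hle => absurd (top_le_iff.1 (by rwa [htop, Ideal.map_top] at hle)) ht.ne_top⟩
  by_cases hP : P.IsPrime
  swap
  · obtain ⟨a, ha, b, hb, hab⟩ := (Ideal.not_isPrime_iff.1 hP).resolve_left htop
    obtain ⟨g₁, hg₁, h₁⟩ := ih (P ⊔ Ideal.span {a}) (lt_of_le_of_ne le_sup_left fun he => ha (he ▸ Ideal.mem_sup_right (Ideal.mem_span_singleton_self a)))
    obtain ⟨g₂, hg₂, h₂⟩ := ih (P ⊔ Ideal.span {b}) (lt_of_le_of_ne le_sup_left fun he => hb (he ▸ Ideal.mem_sup_right (Ideal.mem_span_singleton_self b)))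
    refine ⟨g₁ * g₂, (‹p.IsPrime›).mul_notMem hg₁ hg₂, fun t ht hgt hle => ?_⟩
    have habt : algebraMap R₁ A (a * b) ∈ t := hle (Ideal.mem_map_of_mem _ hab)
    rw [map_mul] at habt
    have hsup : ∀ x, algebraMap R₁ A x ∈ t → (P ⊔ Ideal.span {x}).map (algebraMap R₁ A) ≤ t := fun x hx => by
      rw [Ideal.map_sup, Ideal.map_span, Set.image_singleton]
      exact sup_le hle ((Ideal.span_singleton_le_iff_mem t).2 hx)
    rcases ht.mem_or_mem habt with hx | hx
    · exact h₁ t (fun hm => hgt (t.mul_mem_right _ hm)) (hsup a hx)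
    · exact h₂ t (fun hm => hgt (t.mul_mem_left _ hm)) (hsup b hx)
  haveI := hP
  let Rb := R₁ ⧸ P
  let Sb := Rb ⊗[R₁] S₁
  let Mb := Sb ⊗[S₁] M₁
  obtain ⟨f, -, hf0, hfree, -, -, -⟩ :=
    GenFree.generic_freeness_reduced (R := Rb) (S := Sb) (M := Mb) (a := 1) one_ne_zero
  let L := Localization.Away f
  haveI : Module.Free L (L ⊗[R₁] M₁) :=
    haveI := hfree
    Module.Free.of_equiv (((LocalizedModule.equivTensorProduct (Submonoid.powers f) Mb).trans
      (AlgebraTensorModule.congr (LinearEquiv.refl L L) (Algebra.IsPushout.cancelBaseChange R₁ Rb S₁ Sb M₁))).trans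
      (AlgebraTensorModule.cancelBaseChange R₁ Rb L L M₁))
  let uL := u.baseChange L
  let eL : (Fin k → L) ≃ₗ[L] L ⊗[R₁] (Fin k → R₁) := (TensorProduct.piScalarRight R₁ L L (Fin k)).symm
  let v : (Fin k → L) →ₗ[L] L ⊗[R₁] M₁ := uL ∘ₗ eL.toLinearMap
  obtain ⟨f₀, rfl⟩ := Ideal.Quotient.mk_surjective f
  have hf₀ : f₀ ∉ P := fun h => hf0 (Ideal.Quotient.eq_zero_iff_mem.2 h)
  obtain ⟨g₀, hg₀, h₀⟩ := ih (P ⊔ Ideal.span {f₀})
    (lt_of_le_of_ne le_sup_left fun he => hf₀ (he ▸ Ideal.mem_sup_right (Ideal.mem_span_singleton_self f₀)))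
  -- at a prime over `P` avoiding `f₀`
  have hgood : ∀ (t : Ideal A) [t.IsPrime], P.map (algebraMap R₁ A) ≤ t → algebraMap R₁ A f₀ ∉ t →
      ∃ (ρ : L →+* t.ResidueField), ρ.comp (algebraMap R₁ L) = algebraMap R₁ t.ResidueField ∧
      (Function.Injective (u.lTensor t.ResidueField) ↔
        ∃ φ : L ⊗[R₁] M₁ →ₗ[L] (Fin k → L), ρ (LinearMap.toMatrix' (φ ∘ₗ v)).det ≠ 0) := by
    intro t _ hle hft
    let K := t.ResidueField
    let ρb : Rb →+* K := Ideal.Quotient.lift P (algebraMap R₁ K) fun a ha => by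
      rw [IsScalarTower.algebraMap_apply R₁ A K]
      exact Ideal.algebraMap_residueField_eq_zero.2 (hle (Ideal.mem_map_of_mem _ ha))
    have hu : IsUnit (ρb (Ideal.Quotient.mk P f₀)) := isUnit_iff_ne_zero.2 fun h0 => hft (by
      rw [Ideal.Quotient.lift_mk, IsScalarTower.algebraMap_apply R₁ A K] at h0
      exact Ideal.algebraMap_residueField_eq_zero.1 h0)
    let ρ : L →+* K := IsLocalization.Away.lift (Ideal.Quotient.mk P f₀) hu
    have hρ : ρ.comp (algebraMap R₁ L) = algebraMap R₁ K := by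
      ext a
      rw [RingHom.comp_apply, IsScalarTower.algebraMap_apply R₁ Rb L, IsLocalization.Away.lift_eq]
      rfl
    refine ⟨ρ, hρ, ?_⟩
    letI : Algebra L K := ρ.toAlgebra
    haveI : IsScalarTower R₁ L K := IsScalarTower.of_algebraMap_eq' hρ.symm
    let τ : Ideal L := RingHom.ker ρ
    haveI : τ.IsPrime := RingHom.ker_isPrime ρ
    letI : Algebra τ.ResidueField K := (Ideal.ResidueField.lift τ ρ le_rfl fun x hx =>
      (isUnit_iff_ne_zero.2 fun h0 => hx (RingHom.mem_ker.2 h0))).toAlgebra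
    haveI : IsScalarTower L τ.ResidueField K := IsScalarTower.of_algebraMap_eq fun x =>
      (Ideal.ResidueField.lift_algebraMap τ ρ _ _ x).symm
    rw [← injective_lTensor_baseChange (R' := L) u K]
    have h2 : Function.Injective ((u.baseChange L).lTensor K) ↔ Function.Injective (v.lTensor K) := by
      rw [show v.lTensor K = ((u.baseChange L).lTensor K) ∘ₗ (eL.toLinearMap.lTensor K) from LinearMap.lTensor_comp _ _ _,
        LinearMap.coe_comp]
      exact (Function.Injective.of_comp_iff' _ (eL.lTensor K).bijective).symm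
    rw [h2, injective_lTensor_field_ext v τ.ResidueField K, injective_lTensor_iff_det]
    rfl
  have hsplit : ∀ (t : Ideal A) [t.IsPrime], g₀ ∉ t → P.map (algebraMap R₁ A) ≤ t → algebraMap R₁ A f₀ ∈ t →
      Function.Injective (u.lTensor t.ResidueField) := by
    intro t _ hg hle hf
    refine h₀ t hg ?_
    rw [Ideal.map_sup, Ideal.map_span, Set.image_singleton]
    exact sup_le hle ((Ideal.span_singleton_le_iff_mem t).2 hf)
  by_cases hex : ∃ φ : L ⊗[R₁] M₁ →ₗ[L] (Fin k → L), (LinearMap.toMatrix' (φ ∘ₗ v)).det ≠ 0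
  · obtain ⟨φ, hφ⟩ := hex
    obtain ⟨d, ⟨_, n, rfl⟩, hd⟩ := IsLocalization.exists_mk'_eq (Submonoid.powers (Ideal.Quotient.mk P f₀))
      (LinearMap.toMatrix' (φ ∘ₗ v)).det
    obtain ⟨d₀, rfl⟩ := Ideal.Quotient.mk_surjective d
    have hd₀ : d₀ ∉ P := fun h => hφ (by
      rw [← hd, Ideal.Quotient.eq_zero_iff_mem.2 h, IsLocalization.mk'_zero])
    obtain ⟨g₁, hg₁, h₁⟩ := ih (P ⊔ Ideal.span {d₀})
      (lt_of_le_of_ne le_sup_left fun he => hd₀ (he ▸ Ideal.mem_sup_right (Ideal.mem_span_singleton_self d₀)))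
    refine ⟨g₀ * g₁, (‹p.IsPrime›).mul_notMem hg₀ hg₁, fun t _ hgt hle => ?_⟩
    by_cases hft : algebraMap R₁ A f₀ ∈ t
    · exact hsplit t (fun hm => hgt (t.mul_mem_right _ hm)) hle hft
    by_cases hdt : algebraMap R₁ A d₀ ∈ t
    · refine h₁ t (fun hm => hgt (t.mul_mem_left _ hm)) ?_
      rw [Ideal.map_sup, Ideal.map_span, Set.image_singleton]
      exact sup_le hle ((Ideal.span_singleton_le_iff_mem t).2 hdt)
    obtain ⟨ρ, hρ, hiff⟩ := hgood t hle hft
    refine hiff.2 ⟨φ, fun h0 => hdt ?_⟩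
    have h3 := congrArg ρ (IsLocalization.mk'_spec L (Ideal.Quotient.mk P d₀)
      (⟨_, n, rfl⟩ : Submonoid.powers (Ideal.Quotient.mk P f₀)))
    rw [map_mul, hd, h0, zero_mul, show algebraMap Rb L (Ideal.Quotient.mk P d₀) = algebraMap R₁ L d₀ from
      (IsScalarTower.algebraMap_apply R₁ Rb L d₀).symm,
      ← RingHom.comp_apply, hρ, IsScalarTower.algebraMap_apply R₁ A t.ResidueField] at h3
    exact Ideal.algebraMap_residueField_eq_zero.1 h3.symm
  · push Not at hex
    -- then no generisation of `p` lies over `D(f₀) ∩ V(P)`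
    obtain ⟨c, hc, n, hcn⟩ : ∃ c ∉ p, ∃ n : ℕ, c * algebraMap R₁ A f₀ ^ n ∈ P.map (algebraMap R₁ A) := by
      by_contra hcon
      push Not at hcon
      obtain ⟨t, ht, hPt, hdis⟩ := Ideal.exists_le_prime_disjoint (P.map (algebraMap R₁ A))
        (p.primeCompl ⊔ Submonoid.powers (algebraMap R₁ A f₀)) (by
          rw [Set.disjoint_left]
          intro x hx hxS
          obtain ⟨c, hc, y, ⟨n, rfl⟩, rfl⟩ := Submonoid.mem_sup.1 hxS
          exact hcon c hc n hx)
      haveI := ht
      have htp : t ≤ p := fun x hx => by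
        by_contra hxp
        exact Set.disjoint_left.1 hdis hx (Submonoid.mem_sup_left hxp)
      have hft : algebraMap R₁ A f₀ ∉ t := fun hf =>
        Set.disjoint_left.1 hdis hf (Submonoid.mem_sup_right (Submonoid.mem_powers _))
      obtain ⟨ρ, -, hiff⟩ := hgood t hPt hft
      obtain ⟨φ, hφ⟩ := hiff.1 (h t htp)
      exact hφ (by rw [hex φ, map_zero])
    refine ⟨g₀ * c, (‹p.IsPrime›).mul_notMem hg₀ hc, fun t ht hgt hle => ?_⟩
    refine hsplit t (fun hm => hgt (t.mul_mem_right _ hm)) hle ?_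
    refine ht.mem_of_pow_mem n ?_
    exact (ht.mem_or_mem (hle hcn)).resolve_left fun hm => hgt (t.mul_mem_left _ hm)

end Groth.Agent.RG.Pure
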