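import Groth.Agent.RG.Pure.Descent
import Groth.Agent.RG.Pure.Spread
import Groth.Agent.RG.Socle
import Groth.Agent.FlatSpread.Model
import Groth.Agent.Kaplansky.Local
import Mathlib.RingTheory.Polynomial.Basic

/-!
# Pure flat finitely presented modules are projective
-/

set_option autoImplicit false
set_option linter.style.haveILetI false
set_option backward.isDefEq.respectTransparency false

universe u

open TensorProduct

namespace Groth.Agent.RG.Pure

variable {A B : Type u} [CommRing A] [CommRing B] [Algebra A B]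

/-- the countable spanning family of a finite module over a finite type algebra -/
theorem isCountablyGenerated_of_finiteType [Algebra.FiniteType A B] (N : Type u) [AddCommGroup N] [Module B N]
    [Module A N] [IsScalarTower A B N] [Module.Finite B N] : CAlg.IsCountablyGenerated A N := by
  classical
  obtain ⟨n, π, hπ⟩ := Algebra.FiniteType.iff_quotient_mvPolynomial''.1 (inferInstance : Algebra.FiniteType A B)
  obtain ⟨r, ψ, hψ⟩ := Module.Finite.exists_fin' B N
  let f : (Fin n →₀ ℕ) × Fin r → N := fun mk => ψ (Pi.single mk.2 (π (MvPolynomial.monomial mk.1 1)))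
  refine ⟨Set.range f, Set.countable_range f, eq_top_iff.2 fun x _ => ?_⟩
  obtain ⟨v, rfl⟩ := hψ x
  rw [← Finset.univ_sum_single v, map_sum]
  refine sum_mem fun i _ => ?_
  obtain ⟨P, hP⟩ := hπ (v i)
  rw [← hP]
  clear hP
  induction P using MvPolynomial.induction_on' with
  | monomial m a =>
    rw [show MvPolynomial.monomial m a = a • MvPolynomial.monomial m (1 : A) by
      rw [MvPolynomial.smul_monomial, smul_eq_mul, mul_one], map_smul, Pi.single_smul, LinearMap.map_smul_of_tower]
    exact Submodule.smul_mem _ _ (Submodule.subset_span ⟨(m, i), rfl⟩)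
  | add P Q hP hQ => rw [map_add, Pi.single_add, map_add]; exact add_mem hP hQ

theorem injective_lTensor_conj {L X X' Y Y' : Type u} [CommRing L] [AddCommGroup X] [Module L X] [AddCommGroup X']
    [Module L X'] [AddCommGroup Y] [Module L Y] [AddCommGroup Y'] [Module L Y'] (e₁ : Y ≃ₗ[L] Y') (f : X →ₗ[L] Y)
    (e₂ : X' ≃ₗ[L] X) (K : Type u) [AddCommGroup K] [Module L K] :
    Function.Injective ((e₁.toLinearMap ∘ₗ f ∘ₗ e₂.toLinearMap).lTensor K) ↔ Function.Injective (f.lTensor K) := by
  rw [LinearMap.lTensor_comp, LinearMap.lTensor_comp, LinearMap.coe_comp, LinearMap.coe_comp]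
  exact ((e₁.lTensor K).injective.of_comp_iff _).trans (Function.Injective.of_comp_iff' _ (e₂.lTensor K).bijective)

/-- independence in the fibre at `p` persists at generisations -/
theorem injective_of_generisation {N : Type u} [AddCommGroup N] [Module A N] (p : Ideal A) [p.IsPrime]
    [Module.Projective (Localization.AtPrime p) (LocalizedModule p.primeCompl N)] {k : ℕ} (n : Fin k → N)
    (hn : Function.Injective ((Fintype.linearCombination A n).lTensor p.ResidueField)) :
    ∀ (t : Ideal A) [t.IsPrime], t ≤ p → Function.Injective ((Fintype.linearCombination A n).lTensor t.ResidueField) := by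
  classical
  let u := Fintype.linearCombination A n
  let L := Localization.AtPrime p
  let Np := LocalizedModule p.primeCompl N
  -- generisations of `p`
  obtain ⟨j, hj⟩ := Module.projective_def'.1 (inferInstance : Module.Projective L Np)
  let eN : L ⊗[A] N ≃ₗ[L] Np := (LocalizedModule.equivTensorProduct p.primeCompl N).symm
  let eL : (Fin k → L) ≃ₗ[L] L ⊗[A] (Fin k → A) := (TensorProduct.piScalarRight A L L (Fin k)).symm
  let v : (Fin k → L) →ₗ[L] (Np →₀ L) := j ∘ₗ eN.toLinearMap ∘ₗ (u.baseChange L) ∘ₗ eL.toLinearMap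
  have hv : ∀ (K : Type u) [Field K] [Algebra A K] [Algebra L K] [IsScalarTower A L K],
      Function.Injective (v.lTensor K) ↔ Function.Injective (u.lTensor K) := by
    intro K _ _ _ _
    rw [← injective_lTensor_baseChange (R' := L) u K]
    have hjs : Function.Injective (j.lTensor K) := by
      refine Function.LeftInverse.injective (g := (Finsupp.linearCombination L (id : Np → Np)).lTensor K) fun z => ?_
      rw [← LinearMap.lTensor_comp_apply, hj, LinearMap.lTensor_id, LinearMap.id_apply]
    rw [show v.lTensor K = (j.lTensor K) ∘ₗ ((eN.toLinearMap ∘ₗ (u.baseChange L) ∘ₗ eL.toLinearMap).lTensor K) from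
      LinearMap.lTensor_comp _ _ _, LinearMap.coe_comp, hjs.of_comp_iff]
    exact injective_lTensor_conj eN _ eL K
  have hgen : ∀ (t : Ideal A) [t.IsPrime], t ≤ p → Function.Injective (u.lTensor t.ResidueField) := by
    intro t _ htp
    let m := IsLocalRing.maximalIdeal L
    have hcom : m.comap (algebraMap A L) = p := IsLocalization.AtPrime.comap_maximalIdeal L p
    letI : Algebra p.ResidueField m.ResidueField := (Ideal.ResidueField.map p m (algebraMap A L) hcom.symm).toAlgebra
    haveI : IsScalarTower A p.ResidueField m.ResidueField := IsScalarTower.of_algebraMap_eq fun a => by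
      rw [RingHom.algebraMap_toAlgebra, Ideal.ResidueField.map_algebraMap, ← IsScalarTower.algebraMap_apply]
    have h1 : Function.Injective (v.lTensor m.ResidueField) := by
      rw [hv, injective_lTensor_field_ext u p.ResidueField m.ResidueField]
      exact hn
    obtain ⟨φ, hφ⟩ := (injective_lTensor_iff_det v m).1 h1
    let t₁ : Ideal L := t.map (algebraMap A L)
    have hd : Disjoint (p.primeCompl : Set A) (t : Set A) := by
      rw [Set.disjoint_left]
      exact fun x hx hxt => hx (htp hxt)
    haveI : t₁.IsPrime := IsLocalization.isPrime_of_isPrime_disjoint p.primeCompl L t inferInstance hd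
    have hcom₁ : t₁.comap (algebraMap A L) = t := IsLocalization.comap_map_of_isPrime_disjoint p.primeCompl L inferInstance hd
    have h2 : Function.Injective (v.lTensor t₁.ResidueField) :=
      (injective_lTensor_iff_det v t₁).2 ⟨φ, fun h => hφ (IsLocalRing.le_maximalIdeal (Ideal.IsPrime.ne_top inferInstance) h)⟩
    letI : Algebra t.ResidueField t₁.ResidueField := (Ideal.ResidueField.map t t₁ (algebraMap A L) hcom₁.symm).toAlgebra
    haveI : IsScalarTower A t.ResidueField t₁.ResidueField := IsScalarTower.of_algebraMap_eq fun a => by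
      rw [RingHom.algebraMap_toAlgebra, Ideal.ResidueField.map_algebraMap, ← IsScalarTower.algebraMap_apply]
    rw [hv, injective_lTensor_field_ext u t.ResidueField t₁.ResidueField] at h2
    exact h2
  exact hgen

attribute [local instance] Algebra.TensorProduct.rightAlgebra in
/-- independence in the fibres spreads out, given the elements over a noetherian ring of coefficients -/
theorem exists_nhd_indep_coeff {R₀ R₁ S₀ M₀ N : Type u} [CommRing R₀] [CommRing R₁] [IsNoetherianRing R₁]
    [Algebra R₀ R₁] [CommRing S₀] [Algebra R₀ S₀] [Algebra.FiniteType R₀ S₀] [AddCommGroup M₀] [Module S₀ M₀]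
    [Module R₀ M₀] [IsScalarTower R₀ S₀ M₀] [Module.Finite S₀ M₀] [Algebra R₀ A] [Algebra R₁ A] [IsScalarTower R₀ R₁ A]
    [AddCommGroup N] [Module A N] (p : Ideal A) [p.IsPrime] (e₀ : A ⊗[R₀] M₀ ≃ₗ[A] N) {k : ℕ} (n : Fin k → N)
    (y : Fin k → R₁ ⊗[R₀] M₀)
    (hy : ∀ i, e₀ ((IsScalarTower.toAlgHom R₀ R₁ A).toLinearMap.rTensor M₀ (y i)) = n i)
    (hgen : ∀ (t : Ideal A) [t.IsPrime], t ≤ p →
      Function.Injective ((Fintype.linearCombination A n).lTensor t.ResidueField)) :
    ∃ g ∉ p, ∀ (t : Ideal A) [t.IsPrime], g ∉ t →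
      Function.Injective ((Fintype.linearCombination A n).lTensor t.ResidueField) := by
  classical
  let u := Fintype.linearCombination A n
  let S₁ := R₁ ⊗[R₀] S₀
  let M₁ := S₁ ⊗[S₀] M₀
  let eM : M₁ ≃ₗ[R₁] R₁ ⊗[R₀] M₀ := Algebra.IsPushout.cancelBaseChange R₀ R₁ S₀ S₁ M₀
  let u₁ := Fintype.linearCombination R₁ fun i => eM.symm (y i)
  let e₁ : A ⊗[R₁] M₁ ≃ₗ[A] N :=
    ((AlgebraTensorModule.congr (LinearEquiv.refl A A) eM).trans
      (AlgebraTensorModule.cancelBaseChange R₀ R₁ A A M₀)).trans e₀
  have he₁ : ∀ i, e₁ ((1 : A) ⊗ₜ[R₁] eM.symm (y i)) = n i := fun i => by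
    rw [← hy i]
    simp only [e₁, LinearEquiv.trans_apply, AlgebraTensorModule.congr_tmul, LinearEquiv.refl_apply,
      LinearEquiv.apply_symm_apply]
    congr 1
    generalize y i = w
    induction w using TensorProduct.induction_on with
    | zero => simp
    | tmul a m =>
      rw [AlgebraTensorModule.cancelBaseChange_tmul, LinearMap.rTensor_tmul, Algebra.smul_def, mul_one]
      rfl
    | add a b ha hb => rw [tmul_add, map_add, map_add, ha, hb]
  let ek : (Fin k → A) ≃ₗ[A] A ⊗[R₁] (Fin k → R₁) := (TensorProduct.piScalarRight R₁ A A (Fin k)).symm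
  have hu : u = e₁.toLinearMap ∘ₗ (u₁.baseChange A) ∘ₗ ek.toLinearMap := by
    refine LinearMap.pi_ext' fun i => LinearMap.ext_ring ?_
    have h1 : ek (Pi.single i (1 : A)) = (1 : A) ⊗ₜ[R₁] (Pi.single i (1 : R₁)) := by
      rw [LinearEquiv.symm_apply_eq]
      funext j
      rw [TensorProduct.piScalarRight_apply, TensorProduct.piScalarRightHom_tmul]
      by_cases h : j = i
      · subst h; simp
      · simp [h]
    simp only [LinearMap.comp_apply, LinearMap.single_apply, LinearEquiv.coe_coe, h1, LinearMap.baseChange_tmul, u, u₁,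
      Fintype.linearCombination_apply_single, one_smul, he₁]
  have hiff : ∀ (t : Ideal A) [t.IsPrime],
      Function.Injective (u.lTensor t.ResidueField) ↔ Function.Injective (u₁.lTensor t.ResidueField) := by
    intro t _
    rw [← injective_lTensor_baseChange (R' := A) u₁ t.ResidueField, hu]
    exact injective_lTensor_conj e₁ _ ek _
  haveI : Algebra.FiniteType R₁ S₁ := inferInstance
  haveI : Module.Finite S₁ M₁ := inferInstance
  obtain ⟨g, hg, h'⟩ := exists_nhd_indep (S₁ := S₁) p u₁ fun t _ ht => (hiff t).1 (hgen t ht)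
  exact ⟨g, hg, fun t _ ht => (hiff t).2 (h' t ht)⟩

/-- independence in the fibres spreads out for modules with a model over a noetherian ring -/
theorem exists_nhd_indep_model {R₀ S₀ M₀ N : Type u} [CommRing R₀] [IsNoetherianRing R₀] [CommRing S₀] [Algebra R₀ S₀]
    [Algebra.FiniteType R₀ S₀] [AddCommGroup M₀] [Module S₀ M₀] [Module R₀ M₀] [IsScalarTower R₀ S₀ M₀]
    [Module.Finite S₀ M₀] [Algebra R₀ A] [AddCommGroup N] [Module A N] (p : Ideal A) [p.IsPrime]
    (e₀ : A ⊗[R₀] M₀ ≃ₗ[A] N) {k : ℕ} (n : Fin k → N)
    (hgen : ∀ (t : Ideal A) [t.IsPrime], t ≤ p →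
      Function.Injective ((Fintype.linearCombination A n).lTensor t.ResidueField)) :
    ∃ g ∉ p, ∀ (t : Ideal A) [t.IsPrime], g ∉ t →
      Function.Injective ((Fintype.linearCombination A n).lTensor t.ResidueField) := by
  classical
  choose S hS using fun i : Fin k => TensorProduct.exists_finset (e₀.symm (n i))
  let a : MvPolynomial (Σ i : Fin k, S i) R₀ →ₐ[R₀] A := MvPolynomial.aeval fun x => x.2.1.1
  letI : Algebra (MvPolynomial (Σ i : Fin k, S i) R₀) A := a.toRingHom.toAlgebra
  haveI : IsScalarTower R₀ (MvPolynomial (Σ i : Fin k, S i) R₀) A :=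
    IsScalarTower.of_algebraMap_eq fun x => (a.commutes x).symm
  refine exists_nhd_indep_coeff (R₁ := MvPolynomial (Σ i : Fin k, S i) R₀) (S₀ := S₀) p e₀ n
    (fun i => ∑ x : S i, (MvPolynomial.X (R := R₀) (⟨i, x⟩ : Σ i : Fin k, S i)) ⊗ₜ[R₀] x.1.2) (fun i => ?_) hgen
  rw [← LinearEquiv.eq_symm_apply, map_sum]
  refine Eq.trans ?_ (hS i).symm
  refine Eq.trans ?_ (Finset.sum_coe_sort (S i) fun x => x.1 ⊗ₜ[R₀] x.2)
  refine Finset.sum_congr rfl fun x _ => ?_
  change a _ ⊗ₜ[R₀] _ = _
  simp [a]

attribute [local instance] Algebra.TensorProduct.rightAlgebra in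
/-- independence in the fibre at a prime where the module is projective spreads out -/
theorem exists_nhd_linearCombination [Algebra.FinitePresentation A B] (N : Type u) [AddCommGroup N] [Module B N]
    [Module A N] [IsScalarTower A B N] [Module.FinitePresentation B N] [Module.Flat A N] (p : Ideal A) [p.IsPrime]
    [Module.Projective (Localization.AtPrime p) (LocalizedModule p.primeCompl N)] {k : ℕ} (n : Fin k → N)
    (hn : Function.Injective ((Fintype.linearCombination A n).lTensor p.ResidueField)) :
    ∃ g ∉ p, ∀ (t : Ideal A) [t.IsPrime], g ∉ t →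
      Function.Injective ((Fintype.linearCombination A n).lTensor t.ResidueField) := by
  classical
  let u := Fintype.linearCombination A n
  have hgen := injective_of_generisation p n hn
  -- a model
  obtain ⟨R₀, _, _, S₀, _, _, _, _, _, _, M₀, _, _, _, _, _, _, f, hft, hS₀, hM₀, -, hpush, hbc⟩ :=
    FlatSpread.exists_model_module A B N
  haveI : Algebra.IsPushout R₀ A S₀ B := hpush
  let e₀ : A ⊗[R₀] M₀ ≃ₗ[A] N :=
    (Algebra.IsPushout.cancelBaseChange R₀ A S₀ B M₀).symm.trans (hbc.equiv.restrictScalars A)
  haveI : IsNoetherianRing R₀ := Algebra.FiniteType.isNoetherianRing ℤ R₀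
  exact exists_nhd_indep_model (S₀ := S₀) p e₀ n hgen

/-- near `p`, finitely many elements are combinations of elements independent in every fibre -/
theorem exists_local_content [Algebra.FinitePresentation A B] (N : Type u) [AddCommGroup N] [Module B N] [Module A N]
    [IsScalarTower A B N] [Module.FinitePresentation B N] [Module.Flat A N] (p : Ideal A) [p.IsPrime]
    [Module.Projective (Localization.AtPrime p) (LocalizedModule p.primeCompl N)] {r : ℕ} (x : Fin r → N) :
    ∃ (g : A) (k : ℕ) (v : Fin k → Fin r → A) (n : Fin k → N), g ∉ p ∧ (∀ i, g • x i = ∑ j, v j i • n j) ∧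
      ∀ (t : Ideal A) [t.IsPrime], g ∉ t → Function.Injective ((Fintype.linearCombination A n).lTensor t.ResidueField) := by
  classical
  let L := Localization.AtPrime p
  let Np := LocalizedModule p.primeCompl N
  let ι := LocalizedModule.mkLinearMap p.primeCompl N
  have hc : CAlg.IsCountablyGenerated L Np := by
    obtain ⟨s, hs, hspan⟩ := isCountablyGenerated_of_finiteType (A := A) (B := B) N
    exact ⟨ι '' s, hs.image ι, span_eq_top_of_isLocalizedModule L p.primeCompl ι hspan⟩
  haveI : Module.Free L Np := Kaplansky.free_of_countablyGenerated hc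
  let ℬ := Module.Free.chooseBasis L Np
  let T := Finset.univ.biUnion fun i : Fin r => (ℬ.repr (ι (x i))).support
  let e := T.equivFin
  choose m s hms using fun j : Fin T.card => exists_mk (ℬ (e.symm j).1)
  have hms' : ∀ j, ι (m j) = algebraMap A L (s j : A) • ℬ (e.symm j).1 := fun j => by
    rw [algebraMap_smul, hms, LocalizedModule.smul'_mk, ← Submonoid.smul_def, LocalizedModule.mk_cancel]
    rfl
  have hcoef : ∀ (j : Fin T.card) (i : Fin r), ∃ (a : A) (c : p.primeCompl),
      ℬ.repr (ι (x i)) (e.symm j).1 = IsLocalization.mk' L a c * algebraMap A L (s j : A) := fun j i => by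
    obtain ⟨u, hu⟩ := (IsLocalization.map_units L (s j)).exists_left_inv
    obtain ⟨a, c, hac⟩ := IsLocalization.exists_mk'_eq p.primeCompl (ℬ.repr (ι (x i)) (e.symm j).1 * u)
    exact ⟨a, c, by rw [hac, mul_assoc, hu, mul_one]⟩
  choose a c hac using hcoef
  let C : p.primeCompl := ∏ ji : Fin T.card × Fin r, c ji.1 ji.2
  let v : Fin T.card → Fin r → A := fun j i =>
    a j i * (∏ ji ∈ (Finset.univ : Finset (Fin T.card × Fin r)).erase (j, i), c ji.1 ji.2 : p.primeCompl)
  have hv : ∀ j i, algebraMap A L (v j i) * algebraMap A L (s j : A) =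
      algebraMap A L (C : A) * ℬ.repr (ι (x i)) (e.symm j).1 := fun j i => by
    rw [hac, ← mul_assoc]
    congr 1
    have hC : (C : A) = (c j i : A) *
        ((∏ ji ∈ (Finset.univ : Finset (Fin T.card × Fin r)).erase (j, i), c ji.1 ji.2 : p.primeCompl) : A) := by
      rw [← Submonoid.coe_mul]
      exact congrArg Subtype.val (Finset.mul_prod_erase _ (fun ji : Fin T.card × Fin r => c ji.1 ji.2) (Finset.mem_univ (j, i))).symm
    rw [hC, map_mul, map_mul, mul_right_comm, IsLocalization.mk'_spec']
  have heq : ∀ i, ι ((C : A) • x i) = ι (∑ j, v j i • m j) := fun i => by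
    rw [map_smul, map_sum]
    conv_lhs => rw [← ℬ.linearCombination_repr (ι (x i)), Finsupp.linearCombination_apply,
      Finsupp.sum_of_support_subset _ (Finset.subset_biUnion_of_mem
        (fun i : Fin r => (ℬ.repr (ι (x i))).support) (Finset.mem_univ i)) _ (by simp)]
    rw [← Finset.sum_coe_sort, ← e.symm.sum_comp, Finset.smul_sum]
    refine Finset.sum_congr rfl fun j _ => ?_
    rw [map_smul, hms', ← algebraMap_smul L (C : A), ← algebraMap_smul L (v j i), smul_smul, smul_smul, hv]
  choose d hd using fun i => (IsLocalizedModule.eq_iff_exists p.primeCompl ι).1 (heq i)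
  let D : p.primeCompl := ∏ i, d i
  have hD : ∀ i, (D : A) • (C : A) • x i = (D : A) • ∑ j, v j i • m j := fun i => by
    rw [show D = (∏ i' ∈ Finset.univ.erase i, d i') * d i from
      (Finset.prod_erase_mul _ _ (Finset.mem_univ i)).symm, Submonoid.coe_mul, mul_smul, mul_smul]
    exact congrArg _ (hd i)
  -- independence in the closed fibre
  have hind : Function.Injective ((Fintype.linearCombination A m).lTensor p.ResidueField) := by
    let u := Fintype.linearCombination A m
    let mL := IsLocalRing.maximalIdeal L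
    have hcom : mL.comap (algebraMap A L) = p := IsLocalization.AtPrime.comap_maximalIdeal L p
    letI : Algebra p.ResidueField mL.ResidueField := (Ideal.ResidueField.map p mL (algebraMap A L) hcom.symm).toAlgebra
    haveI : IsScalarTower A p.ResidueField mL.ResidueField := IsScalarTower.of_algebraMap_eq fun a => by
      rw [RingHom.algebraMap_toAlgebra, Ideal.ResidueField.map_algebraMap, ← IsScalarTower.algebraMap_apply]
    rw [← injective_lTensor_field_ext u p.ResidueField mL.ResidueField,
      ← injective_lTensor_baseChange (R' := L) u mL.ResidueField]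
    let eN : L ⊗[A] N ≃ₗ[L] Np := (LocalizedModule.equivTensorProduct p.primeCompl N).symm
    let eL : (Fin T.card → L) ≃ₗ[L] L ⊗[A] (Fin T.card → A) := (TensorProduct.piScalarRight A L L (Fin T.card)).symm
    let w : (Fin T.card → L) →ₗ[L] Np := eN.toLinearMap ∘ₗ (u.baseChange L) ∘ₗ eL.toLinearMap
    have hw : Function.Injective (w.lTensor mL.ResidueField) := by
      refine (injective_lTensor_iff_det w mL).2
        ⟨LinearMap.pi fun j => ℬ.coord (e.symm j).1, ?_⟩
      have hm1 : ∀ j, w (Pi.single j 1) = ι (m j) := fun j => by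
        have h1 : eL (Pi.single j (1 : L)) = (1 : L) ⊗ₜ[A] (Pi.single j (1 : A)) := by
          rw [LinearEquiv.symm_apply_eq]
          funext i
          rw [TensorProduct.piScalarRight_apply, TensorProduct.piScalarRightHom_tmul]
          by_cases h : i = j
          · subst h; simp
          · simp [h]
        simp only [w, LinearMap.comp_apply, LinearEquiv.coe_coe, h1, LinearMap.baseChange_tmul, u,
          Fintype.linearCombination_apply_single, one_smul]
        rw [LinearEquiv.symm_apply_eq]
        change (1 : L) ⊗ₜ[A] m j = LocalizedModule.equivTensorProduct _ N (LocalizedModule.mk (m j) 1)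
        rw [LocalizedModule.equivTensorProduct_apply_mk, Localization.mk_one]
      have hM : LinearMap.toMatrix' ((LinearMap.pi fun j => ℬ.coord (e.symm j).1) ∘ₗ w) =
          Matrix.diagonal fun j => algebraMap A L (s j : A) := by
        ext i j
        rw [LinearMap.toMatrix'_apply, LinearMap.comp_apply, hm1, hms', map_smul, Pi.smul_apply, LinearMap.pi_apply,
          Module.Basis.coord_apply, Module.Basis.repr_self, Finsupp.single_apply, Matrix.diagonal_apply]
        by_cases h : i = j
        · subst h; simp
        · rw [if_neg h, if_neg, smul_zero]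
          exact fun h' => h (e.symm.injective (Subtype.ext h')).symm
      rw [hM, Matrix.det_diagonal]
      intro h
      obtain ⟨j, -, hj⟩ := (inferInstance : mL.IsPrime).prod_mem_iff.1 h
      exact (IsLocalRing.mem_maximalIdeal _).1 hj (IsLocalization.map_units L (s j))
    exact (injective_lTensor_conj eN _ eL _).1 hw
  obtain ⟨g₀, hg₀, hg₀'⟩ := exists_nhd_linearCombination (B := B) N p m hind
  refine ⟨g₀ * ((D : A) * C), T.card, fun j i => g₀ * (D : A) * v j i, m,
    (‹p.IsPrime›).mul_notMem hg₀ ((‹p.IsPrime›).mul_notMem D.2 C.2), fun i => ?_,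
    fun t _ ht => hg₀' t fun h => ht (t.mul_mem_right _ h)⟩
  rw [mul_smul, mul_smul, hD, Finset.smul_sum, Finset.smul_sum]
  refine Finset.sum_congr rfl fun j _ => ?_
  simp only [v, mul_smul]

/-- elements independent in the fibres over `D(g)` detect content there -/
theorem exists_pow_smul_mem {N : Type u} [AddCommGroup N] [Module A N] [Module.Flat A N] {r k : ℕ} {x : Fin r → N}
    {g : A} {v : Fin k → Fin r → A} {n : Fin k → N} (hx : ∀ i, g • x i = ∑ j, v j i • n j)
    (hind : ∀ (t : Ideal A) [t.IsPrime], g ∉ t →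
      Function.Injective ((Fintype.linearCombination A n).lTensor t.ResidueField))
    {V' : Submodule A (Fin r → A)} {c : A} (h : c • res V' x = 0) (j : Fin k) :
    ∃ M : ℕ, (g ^ M * c) • v j ∈ V' := by
  classical
  let L := Localization.Away g
  let Q := (Fin r → A) ⧸ V'
  let u := Fintype.linearCombination A n
  let uL : L ⊗[A] (Fin k → A) →ₗ[L] L ⊗[A] N := u.baseChange L
  have hinj : Function.Injective (uL.rTensor (L ⊗[A] Q)) := by
    refine rTensor_injective_of_fibres (L := L) uL (fun τ _ => ?_) _
    let t := τ.comap (algebraMap A L)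
    have ht : g ∉ t := fun hm => (‹τ.IsPrime›).ne_top
      (Ideal.eq_top_of_isUnit_mem τ hm (IsLocalization.map_units L (⟨g, Submonoid.mem_powers g⟩ : Submonoid.powers g)))
    letI : Algebra t.ResidueField τ.ResidueField := (Ideal.ResidueField.map t τ (algebraMap A L) rfl).toAlgebra
    haveI : IsScalarTower A t.ResidueField τ.ResidueField := IsScalarTower.of_algebraMap_eq fun a => by
      rw [RingHom.algebraMap_toAlgebra, Ideal.ResidueField.map_algebraMap, ← IsScalarTower.algebraMap_apply]
    rw [injective_lTensor_baseChange (R' := L) u τ.ResidueField, injective_lTensor_field_ext u t.ResidueField τ.ResidueField]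
    exact hind t ht
  -- the vector `∑ eⱼ ⊗ v̄ⱼ`
  let z : (Fin k → A) ⊗[A] Q := ∑ j, Pi.single j 1 ⊗ₜ[A] (c • V'.mkQ (v j))
  have hz : u.rTensor Q z = 0 := by
    have h1 : ∑ j, n j ⊗ₜ[A] (c • V'.mkQ (v j)) = g • c • res V' x := by
      rw [smul_comm, res, Finset.smul_sum]
      have h2 : ∀ i, g • (x i ⊗ₜ[A] V'.mkQ (Pi.single i 1)) = ∑ j, n j ⊗ₜ[A] (v j i • V'.mkQ (Pi.single i 1)) :=
        fun i => by
          rw [smul_tmul', hx, sum_tmul]
          exact Finset.sum_congr rfl fun j _ => smul_tmul _ _ _
      simp only [h2]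
      rw [Finset.sum_comm, Finset.smul_sum]
      refine Finset.sum_congr rfl fun j _ => ?_
      rw [← tmul_sum, ← tmul_smul]
      congr 2
      simp only [← map_smul, ← map_sum]
      congr 1
      funext i
      simp [Finset.sum_apply, Pi.single_apply]
    rw [map_sum]
    simp only [LinearMap.rTensor_tmul, u, Fintype.linearCombination_apply_single, one_smul]
    rw [h1, h, smul_zero]
  let jz : (Fin k → A) ⊗[A] Q →ₗ[A] (L ⊗[A] (Fin k → A)) ⊗[L] (L ⊗[A] Q) :=
    TensorProduct.lift (LinearMap.mk₂ A (fun a q => ((1 : L) ⊗ₜ[A] a) ⊗ₜ[L] ((1 : L) ⊗ₜ[A] q))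
      (fun a b q => by simp [tmul_add, add_tmul])
      (fun a b q => by simp only [tmul_smul]; rw [← smul_tmul'])
      (fun a p q => by simp [tmul_add])
      (fun a b q => by simp only [tmul_smul]))
  let kz : (N ⊗[A] Q) →ₗ[A] (L ⊗[A] N) ⊗[L] (L ⊗[A] Q) :=
    TensorProduct.lift (LinearMap.mk₂ A (fun a q => ((1 : L) ⊗ₜ[A] a) ⊗ₜ[L] ((1 : L) ⊗ₜ[A] q))
      (fun a b q => by simp [tmul_add, add_tmul])
      (fun a b q => by simp only [tmul_smul]; rw [← smul_tmul'])
      (fun a p q => by simp [tmul_add])
      (fun a b q => by simp only [tmul_smul]))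
  have hnat : ∀ w, uL.rTensor _ (jz w) = kz (u.rTensor Q w) := fun w => by
    induction w using TensorProduct.induction_on with
    | zero => simp
    | tmul a q => simp [jz, kz, uL]
    | add a b ha hb => simp only [map_add, ha, hb]
  have h3 : jz z = 0 := hinj (by rw [hnat, hz, map_zero, map_zero])
  let π : L ⊗[A] (Fin k → A) →ₗ[L] L := (LinearMap.proj j) ∘ₗ (TensorProduct.piScalarRight A L L (Fin k)).toLinearMap
  have h4 : (1 : L) ⊗ₜ[A] (c • V'.mkQ (v j)) = 0 := by
    have := congrArg ((TensorProduct.lid L (L ⊗[A] Q)) ∘ (π.rTensor (L ⊗[A] Q))) h3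
    simp only [Function.comp_apply, z, map_sum, map_zero] at this
    rw [Finset.sum_eq_single j (fun i _ hij => ?_) (fun hm => absurd (Finset.mem_univ j) hm)] at this
    · simp [jz, π, -LinearEquiv.map_eq_zero_iff, -EmbeddingLike.map_eq_zero_iff] at this
      rw [← algebraMap_smul L c, map_smul, TensorProduct.lid_tmul, one_smul, algebraMap_smul] at this
      simpa using this
    · simp [jz, π, Ne.symm hij]
  haveI : IsLocalizedModule (Submonoid.powers g) (TensorProduct.mk A L Q 1) :=
    (isLocalizedModule_iff_isBaseChange (Submonoid.powers g) L _).2 (TensorProduct.isBaseChange A Q L)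
  obtain ⟨⟨_, M, rfl⟩, hM⟩ := (IsLocalizedModule.eq_zero_iff (Submonoid.powers g) (TensorProduct.mk A L Q 1)).1 h4
  refine ⟨M, ?_⟩
  rw [mul_smul, ← Submodule.Quotient.mk_eq_zero]
  rw [Submonoid.smul_def] at hM
  exact hM

/-- contents exist globally when the module is projective at every prime -/
theorem ctn_of_projective_localized [Algebra.FinitePresentation A B] (N : Type u) [AddCommGroup N] [Module B N]
    [Module A N] [IsScalarTower A B N] [Module.FinitePresentation B N] [Module.Flat A N]
    (hproj : ∀ (p : Ideal A) [p.IsPrime],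
      Module.Projective (Localization.AtPrime p) (LocalizedModule p.primeCompl N)) : Ctn A N := by
  classical
  intro r x
  choose g k v n hg hx hind using fun p : PrimeSpectrum A =>
    (haveI := hproj p.asIdeal; exists_local_content (B := B) N p.asIdeal x)
  obtain ⟨P, hP⟩ := isCompact_univ.elim_finite_subcover
    (fun p => (PrimeSpectrum.basicOpen (g p) : Set (PrimeSpectrum A))) (fun p => (PrimeSpectrum.basicOpen (g p)).isOpen)
    (fun p _ => Set.mem_iUnion.2 ⟨p, hg p⟩)
  let W : PrimeSpectrum A → Submodule A (Fin r → A) := fun p => Submodule.span A (Set.range (v p))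
  have hres : ∀ (p : PrimeSpectrum A), g p • res (W p) x = 0 := fun p => by
    have h1 : res (W p) (fun i => g p • x i) = g p • res (W p) x := by
      simp [res, Finset.smul_sum, smul_tmul']
    rw [← h1]
    refine res_eq_zero_of_span ?_
    have : (fun i => g p • x i) = ∑ j, fun i => v p j i • n p j := funext fun i => by rw [Finset.sum_apply, hx]
    rw [this]
    exact sum_mem fun j _ => Submodule.subset_span ⟨_, Submodule.subset_span ⟨j, rfl⟩, n p j, rfl⟩
  choose M hM using fun (p : PrimeSpectrum A) (j : Fin (k p)) (p' : PrimeSpectrum A) =>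
    exists_pow_smul_mem (hx p) (hind p) (hres p') j
  let M₀ : ℕ := P.sup fun p => Finset.univ.sup fun j : Fin (k p) => P.sup (M p j)
  let V : Submodule A (Fin r → A) := P.sup fun p => Submodule.span A (Set.range fun j => g p ^ M₀ • v p j)
  have hVfg : V.FG := Submodule.fg_finset_sup _ _ fun p _ => Submodule.fg_span (Set.finite_range _)
  -- membership is local
  have hloc : ∀ (V' : Submodule A (Fin r → A)) (a : Fin r → A),
      (∀ p ∈ P, ∃ N' : ℕ, g p ^ N' • a ∈ V') → a ∈ V' := by
    intro V' a h
    let I : Ideal A := V'.colon {a}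
    have hI : I = ⊤ := by
      by_contra hne
      obtain ⟨Q, hQ, hIQ⟩ := Ideal.exists_le_maximal I hne
      obtain ⟨p, hp, hQp⟩ := Set.mem_iUnion₂.1 (hP (Set.mem_univ (⟨Q, hQ.isPrime⟩ : PrimeSpectrum A)))
      obtain ⟨N', hN'⟩ := h p hp
      exact hQp (hQ.isPrime.mem_of_pow_mem N' (hIQ (Submodule.mem_colon_singleton.2 hN')))
    have := Submodule.mem_colon_singleton.1 ((Ideal.eq_top_iff_one I).1 hI)
    rwa [one_smul] at this
  refine ⟨V, hVfg, fun V' => ⟨fun h0 => ?_, fun hle => res_mono hle ?_⟩⟩
  · refine fun a ha => hloc V' a fun p' hp' => ?_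
    have hW : ∀ b ∈ W p', ∃ N' : ℕ, g p' ^ N' • b ∈ V' := by
      intro b hb
      induction hb using Submodule.span_induction with
      | mem b hb =>
        obtain ⟨j, rfl⟩ := hb
        obtain ⟨N', hN'⟩ := exists_pow_smul_mem (hx p') (hind p') (c := 1) (V' := V') (by rw [one_smul, h0]) j
        exact ⟨N', by rwa [mul_one] at hN'⟩
      | zero => exact ⟨0, by simp⟩
      | add a b _ _ ha hb =>
        obtain ⟨i, hi⟩ := ha
        obtain ⟨l, hl⟩ := hb
        refine ⟨i + l, ?_⟩
        rw [smul_add]
        refine add_mem ?_ ?_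
        · rw [pow_add, mul_comm, mul_smul]; exact V'.smul_mem _ hi
        · rw [pow_add, mul_smul]; exact V'.smul_mem _ hl
      | smul c a _ ha =>
        obtain ⟨i, hi⟩ := ha
        exact ⟨i, by rw [smul_comm]; exact V'.smul_mem _ hi⟩
    have hsub : V ≤ (W p').comap (LinearMap.lsmul A (Fin r → A) (g p')) := by
      refine Finset.sup_le fun p hp => Submodule.span_le.2 ?_
      rintro _ ⟨j, rfl⟩
      have hle : M p j p' ≤ M₀ := (Finset.le_sup (f := M p j) hp').trans
        ((Finset.le_sup (f := fun j : Fin (k p) => P.sup (M p j)) (Finset.mem_univ j)).trans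
          (Finset.le_sup (f := fun p => Finset.univ.sup fun j : Fin (k p) => P.sup (M p j)) hp))
      change g p' • g p ^ M₀ • v p j ∈ W p'
      rw [← Nat.sub_add_cancel hle, pow_add, mul_smul, smul_comm (g p'), smul_smul (g p'), mul_comm (g p')]
      exact (W p').smul_mem _ (hM p j p')
    obtain ⟨N', hN'⟩ := hW _ (hsub ha)
    change g p' ^ N' • g p' • a ∈ V' at hN'
    exact ⟨N' + 1, by rwa [pow_succ, mul_smul]⟩
  · let I : Ideal A := LinearMap.ker (LinearMap.toSpanSingleton A _ (res V x))
    have hI : I = ⊤ := by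
      by_contra hne
      obtain ⟨Q, hQ, hIQ⟩ := Ideal.exists_le_maximal I hne
      obtain ⟨p, hp, hQp⟩ := Set.mem_iUnion₂.1 (hP (Set.mem_univ (⟨Q, hQ.isPrime⟩ : PrimeSpectrum A)))
      refine hQp (hQ.isPrime.mem_of_pow_mem (M₀ + 1) (hIQ ?_))
      change g p ^ (M₀ + 1) • res V x = 0
      have h1 : res V (fun i => g p ^ (M₀ + 1) • x i) = g p ^ (M₀ + 1) • res V x := by
        simp [res, Finset.smul_sum, smul_tmul']
      rw [← h1]
      refine res_eq_zero_of_span ?_
      have : (fun i => g p ^ (M₀ + 1) • x i) = ∑ j, fun i => (g p ^ M₀ • v p j) i • n p j := funext fun i => by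
        rw [Finset.sum_apply, pow_succ, mul_smul, hx, Finset.smul_sum]
        exact Finset.sum_congr rfl fun j _ => by rw [Pi.smul_apply, smul_assoc]
      rw [this]
      exact sum_mem fun j _ => Submodule.subset_span
        ⟨_, Finset.le_sup (f := fun p => Submodule.span A (Set.range fun j => g p ^ M₀ • v p j)) hp
          (Submodule.subset_span ⟨j, rfl⟩), n p j, rfl⟩
    have := (Ideal.eq_top_iff_one I).1 hI
    simpa [I] using this

/-- pure flat finitely presented modules are projective -/
theorem projective_of_pure [Algebra.FinitePresentation A B] (N : Type u) [AddCommGroup N] [Module B N] [Module A N]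
    [IsScalarTower A B N] [Module.FinitePresentation B N] [Module.Flat A N] (hpure : FlatCA.IsPure A B N) :
    Module.Projective A N := by
  have hproj : ∀ (p : Ideal A) [p.IsPrime],
      Module.Projective (Localization.AtPrime p) (LocalizedModule p.primeCompl N) := fun p _ =>
    projective_localized N p (fun q _ _ =>
      InjFibre.flat_localized q.primeCompl (LocalizedModule.mkLinearMap q.primeCompl N)) (hpure p)
  refine (Groth.Agent.S0584.result A N).2
    ⟨inferInstance, isMittagLeffler_of_ctn (ctn_of_projective_localized (B := B) N hproj), PUnit, fun _ => ⊤, ?_, fun _ => ?_⟩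
  · convert (DirectSum.isInternal_submodule_iff_iSupIndep_and_iSup_eq_top (fun _ : PUnit => (⊤ : Submodule A N))).2
      ⟨iSupIndep_subsingleton _, iSup_const⟩
  · obtain ⟨s, hs, hspan⟩ := isCountablyGenerated_of_finiteType (A := A) (B := B) N
    refine ⟨Subtype.val ⁻¹' s, hs.preimage Subtype.val_injective, ?_⟩
    apply Submodule.map_injective_of_injective (⊤ : Submodule A N).injective_subtype
    rw [Submodule.map_span, Submodule.map_subtype_top, show ((⊤ : Submodule A N).subtype : _ → N) = Subtype.val from rfl,
      Set.image_preimage_eq_of_subset (by simp)]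
    exact hspan

end Groth.Agent.RG.Pure
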