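import Groth.Prelude.Def_FlatCA
import Mathlib.AlgebraicGeometry.Geometrically.Integral
import Mathlib.RingTheory.Flat.Stability

/-!
# Geometrically integral fibres: universal purity
-/

set_option autoImplicit false
set_option linter.style.haveILetI false
set_option backward.isDefEq.respectTransparency false

universe u

open TensorProduct AlgebraicGeometry CategoryTheory

namespace Groth.Agent.RG.Pure

attribute [local instance] Algebra.TensorProduct.rightAlgebra

variable {A B : Type u} [CommRing A] [CommRing B] [Algebra A B]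

theorem isDomain_baseChange_field (h : FlatCA.GeomIntegralFibres A B) (K : Type u) [Field K] [Algebra A K] :
    IsDomain (B ⊗[A] K) := by
  have h1 := h.geometrically_isIntegral (Spec.map (CommRingCat.ofHom (algebraMap A K))) _ _
    (isPullback_SpecMap_of_isPushout _ _ _ _ (CommRingCat.isPushout_tensorProduct A B K))
  exact (affine_isIntegral_iff _).1 h1

theorem isDomain_fiber_baseChange (h : FlatCA.GeomIntegralFibres A B) (A' B' : Type u) [CommRing A'] [CommRing B']
    [Algebra A A'] [Algebra B B'] [Algebra A' B'] [Algebra A B'] [IsScalarTower A B B'] [IsScalarTower A A' B']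
    [Algebra.IsPushout A B A' B'] (t' : Ideal A') [t'.IsPrime] : IsDomain (t'.Fiber B') := by
  haveI h2 : Algebra.IsPushout A A' B B' := Algebra.IsPushout.symm inferInstance
  let e : A' ⊗[A] B ≃ₐ[A'] B' := Algebra.IsPushout.equiv A A' B B'
  letI : Algebra A t'.ResidueField := inferInstance
  let E : t'.Fiber B' ≃+* B ⊗[A] t'.ResidueField :=
    ((Algebra.TensorProduct.congr (AlgEquiv.refl (R := A') (A₁ := t'.ResidueField)) e.symm).toRingEquiv.trans
      (Algebra.TensorProduct.cancelBaseChange A A' A' t'.ResidueField B).toRingEquiv).trans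
      (Algebra.TensorProduct.comm A t'.ResidueField B).toRingEquiv
  haveI := isDomain_baseChange_field h t'.ResidueField
  exact E.injective.isDomain E.toRingHom

theorem isUnivPure_of_geomIntegral [Module.Flat A B] (h : FlatCA.GeomIntegralFibres A B) :
    FlatCA.IsUnivPure A B B := by
  intro p _ A' B' N' _ _ _ _ _ _ _ _ _ _ _ _ _ _ f t' t _ _ P _
  rintro ⟨hpo, hbc, hle, -, hP, hass, hno⟩
  haveI := hpo
  haveI : Module.Flat A' B' := Module.Flat.isBaseChange A A' B B'
    (Algebra.IsPushout.symm hpo).out
  haveI := isDomain_fiber_baseChange h A' B' t'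
  haveI := isDomain_fiber_baseChange h A' B' t
  obtain ⟨Q₀⟩ : Nonempty (PrimeSpectrum (t.Fiber B')) := inferInstance
  let Q : Ideal B' := Q₀.asIdeal.comap Algebra.TensorProduct.includeRight.toRingHom
  haveI : Q.IsPrime := Ideal.IsPrime.comap _
  haveI hQt : Q.LiesOver t := ⟨by
    rw [Ideal.over_def Q₀.asIdeal t, Ideal.under_def, Ideal.under_def, Ideal.comap_comap]
    exact congrArg (fun g => Ideal.comap g Q₀.asIdeal) (RingHom.ext fun r =>
      (Algebra.TensorProduct.includeRight.commutes r).symm)⟩
  obtain ⟨Q', hQ'le, hQ', hQ't⟩ : ∃ Q' ≤ Q, Q'.IsPrime ∧ Q'.LiesOver t' :=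
    Ideal.exists_ideal_le_liesOver_of_le Q hle
  haveI := hQ'
  haveI := hQ't
  refine hno Q (fun x hx => hQ'le ?_) hQt
  -- the associated point is the generic point of the fibre
  let φ : t'.Fiber B' →ₐ[A'] Q'.ResidueField := Algebra.TensorProduct.lift
    (Ideal.ResidueField.mapₐ t' Q' (Algebra.ofId A' B') hQ't.over)
    (IsScalarTower.toAlgHom A' B' Q'.ResidueField) (fun _ _ => Commute.all _ _)
  let e : B' ≃ₗ[B'] N' := (AlgebraTensorModule.rid B B' B').symm ≪≫ₗ hbc.equiv
  let E : FlatCA.fiberMod t' B' N' ≃ₗ[t'.Fiber B'] t'.Fiber B' :=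
    (AlgebraTensorModule.congr (LinearEquiv.refl (t'.Fiber B') (t'.Fiber B')) e.symm) ≪≫ₗ
      (AlgebraTensorModule.rid B' (t'.Fiber B') (t'.Fiber B'))
  rw [LinearEquiv.AssociatedPrimes.eq E] at hass
  have hbot : FlatCA.fiberIdeal t' P ≤ ⊥ := by
    obtain ⟨hprime, m, hm⟩ := hass
    intro z hz
    rw [hm] at hz
    obtain ⟨k, hk⟩ := hz
    rcases eq_or_ne m 0 with rfl | hm0
    · refine absurd ?_ hprime.ne_top
      rw [hm, Ideal.radical_eq_top, Ideal.eq_top_iff_one]
      simp [Submodule.mem_colon_singleton]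
    · rw [Submodule.mem_colon_singleton, Submodule.mem_bot, smul_eq_mul, mul_eq_zero] at hk
      simpa using eq_zero_of_pow_eq_zero (hk.resolve_right hm0)
  have h0 : Algebra.TensorProduct.includeRight (R := A') (A := t'.ResidueField) (B := B') x = 0 :=
    hbot (Ideal.mem_map_of_mem _ hx)
  rw [← Ideal.algebraMap_residueField_eq_zero]
  have := congrArg φ h0
  simpa [φ] using this

end Groth.Agent.RG.Pure
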