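import Groth.Agent.RG.Pure.Fibre
import Groth.Agent.RG.Fibres
import Groth.Agent.RG.Eft
import Groth.Agent.InjFibre.Loc
import Mathlib.LinearAlgebra.TensorProduct.Quotient

/-!
# Associated points of nearby fibres lie below associated points of the special fibre
-/

set_option autoImplicit false
set_option linter.style.haveILetI false
set_option backward.isDefEq.respectTransparency false

universe u

open TensorProduct

namespace Groth.Agent.RG.Pure

variable {R S N : Type u} [CommRing R] [CommRing S] [Algebra R S] [AddCommGroup N] [Module S N] [Module R N]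
  [IsScalarTower R S N]

theorem exists_vector_of_assAt {p : Ideal R} [p.IsPrime] {σ : Ideal S} (hσ : σ.IsPrime)
    (h : AssAt R N p.ResidueField σ) :
    ∃ n : N, (∀ t ∉ σ, t • n ∉ p • (⊤ : Submodule R N)) ∧
      ∀ s ∈ σ, ∃ (k : ℕ) (c : R), c ∉ p ∧ c • s ^ k • n ∈ p • (⊤ : Submodule R N) := by
  obtain ⟨y, hy⟩ := h
  obtain ⟨c, hc, n, hn⟩ := exists_smul_eq_one_tmul_mod p y
  have hu : IsUnit (algebraMap R p.ResidueField c) :=
    isUnit_iff_ne_zero.2 fun h => hc (Ideal.algebraMap_residueField_eq_zero.1 h)
  have hiff : ∀ s : S, act R p.ResidueField s y = 0 ↔ (1 : p.ResidueField) ⊗ₜ[R] (s • n) = 0 := fun s => by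
    rw [← act_tmul, ← hn, ← algebraMap_smul p.ResidueField c y, map_smul, hu.smul_eq_zero]
  refine ⟨n, fun t ht htn => ht ((hy t).2 ⟨1, ?_⟩), fun s hs => ?_⟩
  · rw [pow_one, hiff]
    exact (one_tmul_eq_zero_iff p _).2 ⟨1, fun h1 => (‹p.IsPrime›).ne_top ((Ideal.eq_top_iff_one p).2 h1),
      by rwa [one_smul]⟩
  · obtain ⟨k, hk⟩ := (hy s).1 hs
    obtain ⟨c', hc', h⟩ := (one_tmul_eq_zero_iff p _).1 ((hiff _).1 hk)
    exact ⟨k, c', hc', h⟩

variable (R S N) in
/-- below `Q` over `p`, the points associated in nearby fibres lie below those of the fibre at `p` -/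
theorem exists_assPts_above [Algebra.FiniteType R S] [Module.Finite S N] (p p' : Ideal R) [p.IsPrime] [p'.IsPrime]
    (Q : Ideal S) [Q.IsPrime] (hQp : Q.comap (algebraMap R S) = p)
    [Module.Flat R (LocalizedModule Q.primeCompl N)] (σ : Ideal S) (hσ : σ ∈ assPts R S N p') (hσQ : σ ≤ Q) :
    ∃ τ ∈ assPts R S N p, σ ≤ τ ∧ τ ≤ Q := by
  classical
  haveI hσp := (isPrime_of_mem_assPts R S N hσ).1
  have hσp' := (isPrime_of_mem_assPts R S N hσ).2
  by_contra hcon
  push Not at hcon
  -- an element of `σ` avoiding the points below `Q`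
  have hfin : {τ : Ideal S | τ ∈ assPts R S N p ∧ τ ≤ Q}.Finite := (finite_assPts R S N p).subset fun τ h => h.1
  have havoid : ∃ s ∈ σ, ∀ τ ∈ assPts R S N p, τ ≤ Q → s ∉ τ := by
    by_contra hc
    push Not at hc
    obtain ⟨τ, hτ, hle⟩ := (Ideal.subset_union_prime (R := S) (s := hfin.toFinset) (f := id) ⊥ ⊥
      (fun τ hτ _ _ => (isPrime_of_mem_assPts R S N (hfin.mem_toFinset.1 hτ).1).1)).1 (fun s hs => by
        obtain ⟨τ, h1, h2, h3⟩ := hc s hs
        exact Set.mem_biUnion (x := τ) (hfin.mem_toFinset.2 ⟨h1, h2⟩) h3)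
    have := hfin.mem_toFinset.1 hτ
    exact hcon τ this.1 hle this.2
  obtain ⟨s₀, hs₀, havoid⟩ := havoid
  obtain ⟨n, hn, hns⟩ := exists_vector_of_assAt hσp (assAt_of_mem_assPts hσ)
  obtain ⟨k, c, hc, hck⟩ := hns s₀ hs₀
  let s := s₀ ^ k
  have hs : ∀ τ ∈ assPts R S N p, τ ≤ Q → s ∉ τ := fun τ hτ hle h =>
    havoid τ hτ hle ((isPrime_of_mem_assPts R S N hτ).1.mem_of_pow_mem k h)
  -- multiplication by `s` is universally injective at `Q`
  let A := Localization.AtPrime p
  let B := Localization.AtPrime Q
  let X := LocalizedModule Q.primeCompl N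
  letI : Algebra A B := (Localization.localRingHom p Q (algebraMap R S) hQp.symm).toAlgebra
  haveI : IsScalarTower R A B := IsScalarTower.of_algebraMap_eq fun r => by
    rw [RingHom.algebraMap_toAlgebra, Localization.localRingHom_to_map, IsScalarTower.algebraMap_apply R S B]
  haveI : IsLocalHom (algebraMap A B) := Localization.isLocalHom_localRingHom p Q (algebraMap R S) hQp.symm
  haveI : Algebra.EssFiniteType S B := Algebra.EssFiniteType.of_isLocalization B Q.primeCompl
  haveI : Algebra.EssFiniteType R B := Algebra.EssFiniteType.comp R S B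
  haveI : Algebra.EssFiniteType A B := Algebra.EssFiniteType.of_comp R A B
  letI : Module A X := Module.compHom X (algebraMap A B)
  haveI : IsScalarTower A B X := IsScalarTower.of_algebraMap_smul fun _ _ => rfl
  haveI : IsScalarTower R A X := IsScalarTower.of_algebraMap_smul fun r x => by
    change algebraMap A B (algebraMap R A r) • x = r • x
    rw [← IsScalarTower.algebraMap_apply, algebraMap_smul]
  haveI : Module.Finite B X := Module.Finite.of_isLocalizedModule Q.primeCompl (LocalizedModule.mkLinearMap _ N)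
  haveI : Module.Flat A X := (Module.flat_iff_of_isLocalization A p.primeCompl X).2 inferInstance
  let u : X →ₗ[A] X := (LinearMap.lsmul B X (algebraMap S B s)).restrictScalars A
  have hu : ∀ x, u x ∈ IsLocalRing.maximalIdeal A • (⊤ : Submodule A X) →
      x ∈ IsLocalRing.maximalIdeal A • (⊤ : Submodule A X) := by
    intro x hx
    have hAR : ∀ y : X, y ∈ IsLocalRing.maximalIdeal A • (⊤ : Submodule A X) → y ∈ p • (⊤ : Submodule R X) := by
      intro y hy
      rw [← Localization.AtPrime.map_eq_maximalIdeal] at hy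
      refine Submodule.smul_induction_on hy (fun a ha z _ => ?_) fun _ _ => add_mem
      induction ha using Submodule.span_induction generalizing z with
      | mem a ha =>
        obtain ⟨r, hr, rfl⟩ := ha
        rw [algebraMap_smul]
        exact Submodule.smul_mem_smul hr trivial
      | zero => rw [zero_smul]; exact zero_mem _
      | add a b _ _ ha hb => rw [add_smul]; exact add_mem (ha z trivial) (hb z trivial)
      | smul c a _ ha => rw [smul_eq_mul, mul_comm, mul_smul]; exact ha _ trivial
    have hRA : ∀ y : X, y ∈ p • (⊤ : Submodule R X) → y ∈ IsLocalRing.maximalIdeal A • (⊤ : Submodule A X) := by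
      intro y hy
      refine Submodule.smul_induction_on hy (fun a ha z _ => ?_) fun _ _ => add_mem
      rw [← algebraMap_smul A a z]
      exact Submodule.smul_mem_smul (Localization.AtPrime.map_eq_maximalIdeal (I := p) ▸ Ideal.mem_map_of_mem _ ha)
        trivial
    obtain ⟨m, w, rfl⟩ := exists_mk x
    have h1 : s • LocalizedModule.mk m w ∈ p • (⊤ : Submodule R X) := by
      have h0 := hAR _ hx
      change algebraMap S B s • LocalizedModule.mk m w ∈ p • (⊤ : Submodule R X) at h0
      rwa [algebraMap_smul] at h0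
    have h2 := Submodule.mem_map_of_mem (f := (LinearMap.lsmul S X (w : S)).restrictScalars R) h1
    rw [Submodule.map_smul''] at h2
    replace h2 := Submodule.smul_mono (le_refl p) le_top h2
    change (w : S) • s • LocalizedModule.mk m w ∈ _ at h2
    rw [smul_comm, LocalizedModule.smul'_mk, ← Submonoid.smul_def, LocalizedModule.mk_cancel,
      LocalizedModule.smul'_mk] at h2
    obtain ⟨t, ht, htn⟩ := exists_smul_mem_of_mk p Q.primeCompl h2
    have h3 : ∃ t ∉ Q, t • m ∈ p • (⊤ : Submodule R N) := by
      by_contra hc'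
      push Not at hc'
      obtain ⟨τ, hτ, hτQ, hτn⟩ := exists_assPts_of_not_mem R S p Q hQp m hc'
      haveI := (isPrime_of_mem_assPts R S N hτ).1
      refine hτn (t * s) (fun hm => ?_) (by rwa [mul_smul])
      rcases (inferInstance : τ.IsPrime).mem_or_mem hm with h | h
      · exact ht (hτQ h)
      · exact hs τ hτ hτQ h
    obtain ⟨t', ht', htm⟩ := h3
    apply hRA
    have h7 : LocalizedModule.mk m w = Localization.mk 1 (w * ⟨t', ht'⟩) • LocalizedModule.mk (t' • m) (1 : Q.primeCompl) := by
      rw [LocalizedModule.mk_smul_mk, one_smul, mul_one, ← LocalizedModule.mk_cancel_common_left ⟨t', ht'⟩ w m,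
        mul_comm w]
      rfl
    rw [h7]
    have h8 := Submodule.mem_map_of_mem
      (f := (LinearMap.lsmul B X (Localization.mk 1 (w * ⟨t', ht'⟩))).restrictScalars R ∘ₗ
        (LocalizedModule.mkLinearMap Q.primeCompl N).restrictScalars R) htm
    rw [Submodule.map_smul''] at h8
    exact Submodule.smul_mono le_rfl le_top h8
  obtain ⟨-, -, hinj⟩ := eft_main (B := B) X u hu
  let I : Ideal A := p'.map (algebraMap R A)
  have hRI : ∀ y : X, y ∈ p' • (⊤ : Submodule R X) → y ∈ I • (⊤ : Submodule A X) := by
    intro y hy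
    refine Submodule.smul_induction_on hy (fun a ha z _ => ?_) fun _ _ => add_mem
    rw [← algebraMap_smul A a z]
    exact Submodule.smul_mem_smul (Ideal.mem_map_of_mem _ ha) trivial
  have hIR : ∀ y : X, y ∈ I • (⊤ : Submodule A X) → y ∈ p' • (⊤ : Submodule R X) := by
    intro y hy
    refine Submodule.smul_induction_on hy (fun a ha z _ => ?_) fun _ _ => add_mem
    induction ha using Submodule.span_induction generalizing z with
    | mem a ha =>
      obtain ⟨r, hr, rfl⟩ := ha
      rw [algebraMap_smul]
      exact Submodule.smul_mem_smul hr trivial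
    | zero => rw [zero_smul]; exact zero_mem _
    | add a b _ _ ha hb => rw [add_smul]; exact add_mem (ha z trivial) (hb z trivial)
    | smul c a _ ha => rw [smul_eq_mul, mul_comm, mul_smul]; exact ha _ trivial
  let x : X := LocalizedModule.mk (c • n) 1
  have h4 : u x ∈ I • (⊤ : Submodule A X) := by
    apply hRI
    change algebraMap S B s • LocalizedModule.mk (c • n) 1 ∈ _
    rw [algebraMap_smul, LocalizedModule.smul'_mk, smul_comm]
    have h8 := Submodule.mem_map_of_mem
      (f := (LocalizedModule.mkLinearMap Q.primeCompl N).restrictScalars R) hck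
    rw [Submodule.map_smul''] at h8
    exact Submodule.smul_mono le_rfl le_top h8
  have h5 : x ⊗ₜ[A] Ideal.Quotient.mk I 1 = 0 := by
    refine hinj (A ⧸ I) ?_
    rw [map_zero, LinearMap.rTensor_tmul]
    apply (TensorProduct.tensorQuotEquivQuotSMul X I).injective
    rw [map_zero, TensorProduct.tensorQuotEquivQuotSMul_tmul_mk, one_smul, Submodule.Quotient.mk_eq_zero]
    exact h4
  have h6 := congrArg (TensorProduct.tensorQuotEquivQuotSMul X I) h5
  rw [map_zero, TensorProduct.tensorQuotEquivQuotSMul_tmul_mk, one_smul, Submodule.Quotient.mk_eq_zero] at h6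
  obtain ⟨t, ht, htn⟩ := exists_smul_mem_of_mk p' Q.primeCompl (hIR _ h6)
  refine hn (t * algebraMap R S c) (fun hm => ?_) (by rwa [mul_smul, algebraMap_smul])
  rcases hσp.mem_or_mem hm with h | h
  · exact ht (hσQ h)
  · exact hc (hσp'.le h)

end Groth.Agent.RG.Pure
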