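import Groth.Agent.RG.AssPts
import Mathlib.LinearAlgebra.TensorProduct.Basis
import Mathlib.RingTheory.TensorProduct.Free

/-!
# Associated points of fibres, tested over any field

`AssAt R S N K σ`: some vector of `K ⊗_R N` has annihilator with radical `σ` in `S`.
-/

set_option autoImplicit false
set_option linter.style.haveILetI false
set_option backward.isDefEq.respectTransparency false

universe u

open TensorProduct

namespace Groth.Agent.RG.Pure

variable {R S N : Type u} [CommRing R] [CommRing S] [Algebra R S] [AddCommGroup N] [Module S N] [Module R N]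
  [IsScalarTower R S N]

/-- the action of `S` on `K ⊗_R N` -/
noncomputable def act (R : Type u) {S N : Type u} [CommRing R] [CommRing S] [Algebra R S] [AddCommGroup N] [Module S N]
    [Module R N] [IsScalarTower R S N] (K : Type u) [CommRing K] [Algebra R K] (s : S) :
    K ⊗[R] N →ₗ[K] K ⊗[R] N :=
  AlgebraTensorModule.lTensor K K ((LinearMap.lsmul S N s).restrictScalars R)

theorem act_tmul (K : Type u) [CommRing K] [Algebra R K] (s : S) (k : K) (n : N) :
    act R K s (k ⊗ₜ[R] n) = k ⊗ₜ (s • n) := rfl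

theorem act_mul (K : Type u) [CommRing K] [Algebra R K] (s t : S) (y : K ⊗[R] N) :
    act R K (s * t) y = act R K s (act R K t y) := by
  induction y using TensorProduct.induction_on with
  | zero => simp
  | tmul k n => simp [act_tmul, mul_smul]
  | add a b ha hb => simp only [map_add, ha, hb]

theorem act_add (K : Type u) [CommRing K] [Algebra R K] (s t : S) (y : K ⊗[R] N) :
    act R K (s + t) y = act R K s y + act R K t y := by
  induction y using TensorProduct.induction_on with
  | zero => simp
  | tmul k n => simp [act_tmul, add_smul, tmul_add]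
  | add a b ha hb => simp only [map_add, ha, hb]; abel

theorem act_algebraMap (K : Type u) [CommRing K] [Algebra R K] (r : R) (y : K ⊗[R] N) :
    act R K (algebraMap R S r) y = algebraMap R K r • y := by
  induction y using TensorProduct.induction_on with
  | zero => simp
  | tmul k n => rw [act_tmul, algebraMap_smul, tmul_smul, algebraMap_smul]
  | add a b ha hb => simp only [map_add, smul_add, ha, hb]

/-- `σ` is the radical of the annihilator of a vector of `K ⊗_R N` -/
def AssAt (R : Type u) {S : Type u} (N : Type u) [CommRing R] [CommRing S] [Algebra R S] [AddCommGroup N] [Module S N]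
    [Module R N] [IsScalarTower R S N] (K : Type u) [Field K] [Algebra R K] (σ : Ideal S) : Prop :=
  ∃ y : K ⊗[R] N, ∀ s : S, s ∈ σ ↔ ∃ k : ℕ, act R K (s ^ k) y = 0

theorem AssAt.comap_eq {K : Type u} [Field K] [Algebra R K] {σ : Ideal S} (h : AssAt R N K σ) (hσ : σ.IsPrime) :
    σ.comap (algebraMap R S) = RingHom.ker (algebraMap R K) := by
  obtain ⟨y, hy⟩ := h
  have hy0 : y ≠ 0 := fun h0 => hσ.ne_top ((Ideal.eq_top_iff_one σ).2 ((hy 1).2 ⟨0, by rw [h0, map_zero]⟩))
  ext a
  rw [Ideal.mem_comap, hy, RingHom.mem_ker]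
  refine ⟨fun ⟨k, hk⟩ => ?_, fun ha => ⟨1, by rw [pow_one, act_algebraMap, ha, zero_smul]⟩⟩
  rw [← map_pow, act_algebraMap, smul_eq_zero, map_pow] at hk
  exact eq_zero_of_pow_eq_zero (hk.resolve_right hy0)

theorem AssAt.transfer {R' S' N' : Type u} [CommRing R'] [CommRing S'] [Algebra R' S'] [AddCommGroup N'] [Module S' N']
    [Module R' N'] [IsScalarTower R' S' N'] {K : Type u} [Field K] [Algebra R K] [Algebra R' K] (Φ : S →+* S')
    (e : K ⊗[R'] N' ≃ₗ[K] K ⊗[R] N) (he : ∀ (s : S) y, e (act R' K (Φ s) y) = act R K s (e y))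
    {σ : Ideal S'} (h : AssAt R' N' K σ) : AssAt R N K (σ.comap Φ) := by
  obtain ⟨y, hy⟩ := h
  refine ⟨e y, fun s => ?_⟩
  simp only [Ideal.mem_comap, hy, ← map_pow, ← he, LinearEquiv.map_eq_zero_iff]

attribute [local instance] Algebra.TensorProduct.rightAlgebra in
theorem assAt_of_mem_assPts {p : Ideal R} [p.IsPrime] {σ : Ideal S} (h : σ ∈ assPts R S N p) :
    AssAt R N p.ResidueField σ := by
  obtain ⟨Q, hQ, rfl⟩ := h
  obtain ⟨z, hz⟩ := hQ.2
  let eF : (p.Fiber S) ⊗[S] N ≃ₗ[p.ResidueField] p.ResidueField ⊗[R] N :=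
    Algebra.IsPushout.cancelBaseChange R p.ResidueField S (p.Fiber S) N
  let z' : (p.Fiber S) ⊗[S] N := z
  have hnat : ∀ (s : S) (w : (p.Fiber S) ⊗[S] N), eF (s • w) = act R p.ResidueField s (eF w) := by
    intro s w
    obtain ⟨v, rfl⟩ := eF.symm.surjective w
    induction v using TensorProduct.induction_on with
    | zero => simp
    | tmul k n =>
      have h1 : eF.symm (k ⊗ₜ[R] n) = algebraMap p.ResidueField (p.Fiber S) k ⊗ₜ[S] n :=
        eF.injective (by rw [LinearEquiv.apply_symm_apply, Algebra.algebraMap_eq_smul_one, ← smul_tmul', map_smul, Algebra.IsPushout.cancelBaseChange_tmul, smul_tmul', smul_eq_mul, mul_one])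
      rw [LinearEquiv.apply_symm_apply, h1, ← tmul_smul, Algebra.algebraMap_eq_smul_one, ← smul_tmul', map_smul, Algebra.IsPushout.cancelBaseChange_tmul, act_tmul, smul_tmul', smul_eq_mul, mul_one]
    | add a b ha hb => rw [map_add, smul_add, map_add, map_add, map_add, ha, hb]
  refine ⟨eF z', fun s => ?_⟩
  rw [Ideal.mem_comap, hz]
  refine exists_congr fun k => ?_
  rw [← map_pow, Submodule.mem_colon_singleton, Submodule.mem_bot, ← hnat, LinearEquiv.map_eq_zero_iff]
  change algebraMap S (p.Fiber S) (s ^ k) • z' = 0 ↔ _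
  rw [algebraMap_smul]

attribute [local instance] Algebra.TensorProduct.rightAlgebra in
theorem mem_assPts_of_assAt {p : Ideal R} [p.IsPrime] {K : Type u} [Field K] [Algebra R K] [Algebra p.ResidueField K]
    [IsScalarTower R p.ResidueField K] {σ : Ideal S} (hσ : σ.IsPrime) (h : AssAt R N K σ) : σ ∈ assPts R S N p := by
  classical
  have hσp : σ.comap (algebraMap R S) = p := by
    rw [h.comap_eq hσ, IsScalarTower.algebraMap_eq R p.ResidueField K, RingHom.ker_comp_of_injective _
      (algebraMap p.ResidueField K).injective]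
    exact Ideal.ker_algebraMap_residueField p
  obtain ⟨y, hy⟩ := h
  let κ := p.ResidueField
  let V := κ ⊗[R] N
  let c : K ⊗[κ] V ≃ₗ[K] K ⊗[R] N := AlgebraTensorModule.cancelBaseChange R κ K K N
  let ℬ := Module.Free.chooseBasis κ K
  let d : K ⊗[κ] V ≃ₗ[κ] (Module.Free.ChooseBasisIndex κ K →₀ V) := TensorProduct.equivFinsuppOfBasisLeft ℬ
  have hd : ∀ (s : S) (w : K ⊗[κ] V) i, d ((act R κ s).lTensor K w) i = act R κ s (d w i) := by
    intro s w i
    induction w using TensorProduct.induction_on with
    | zero => simp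
    | tmul k v => simp [d]
    | add a b ha hb => simp only [map_add, Finsupp.add_apply, ha, hb]
  have hc : ∀ (s : S) (w : K ⊗[κ] V), c ((act R κ s).lTensor K w) = act R K s (c w) := by
    intro s w
    induction w using TensorProduct.induction_on with
    | zero => simp
    | tmul k v =>
      induction v using TensorProduct.induction_on with
      | zero => simp
      | tmul l n =>
        rw [LinearMap.lTensor_tmul, act_tmul, AlgebraTensorModule.cancelBaseChange_tmul,
          AlgebraTensorModule.cancelBaseChange_tmul, act_tmul]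
      | add a b ha hb => simp only [tmul_add, map_add, ha, hb]
    | add a b ha hb => simp only [map_add, ha, hb]
  let w₀ := c.symm y
  let I : Module.Free.ChooseBasisIndex κ K → Ideal S := fun i =>
      { carrier := {s | act R κ s (d w₀ i) = 0}
        add_mem' := fun {a b} ha hb => by
          simp only [Set.mem_setOf_eq] at *
          rw [act_add, ha, hb, add_zero]
        zero_mem' := by
          simp only [Set.mem_setOf_eq]
          rw [show (0 : S) = algebraMap R S 0 from (map_zero _).symm, act_algebraMap, map_zero, zero_smul]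
        smul_mem' := fun a b hb => by
          simp only [Set.mem_setOf_eq] at *
          rw [smul_eq_mul, act_mul, hb, map_zero] }
  have hσI : σ = ((d w₀).support.inf I).radical := by
    ext s
    rw [hy, Ideal.mem_radical_iff]
    refine exists_congr fun k => ?_
    rw [Submodule.mem_finsetInf]
    have : act R K (s ^ k) y = 0 ↔ d ((act R κ (s ^ k)).lTensor K w₀) = 0 := by
      rw [d.map_eq_zero_iff, ← c.map_eq_zero_iff, hc, LinearEquiv.apply_symm_apply]
    rw [this, Finsupp.ext_iff]
    refine ⟨fun h i _ => (hd _ _ i).symm.trans (h i), fun h i => ?_⟩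
    rw [hd, Finsupp.zero_apply]
    by_cases hi : i ∈ (d w₀).support
    · exact h i hi
    · rw [Finsupp.notMem_support_iff.1 hi, map_zero]
  have hle : (d w₀).support.inf I ≤ σ := hσI ▸ Ideal.le_radical
  obtain ⟨i, hi, hiσ⟩ := (Ideal.IsPrime.inf_le' hσ).1 hle
  have hf : ∀ s, s ∈ σ ↔ ∃ k : ℕ, act R κ (s ^ k) (d w₀ i) = 0 := by
    intro s
    refine ⟨fun hs => ?_, fun ⟨k, hk⟩ => hσ.mem_of_pow_mem k (hiσ hk)⟩
    rw [hσI] at hs
    obtain ⟨k, hk⟩ := hs
    exact ⟨k, Finset.inf_le (f := I) hi hk⟩
  -- back to the fibre ring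
  let eF : (p.Fiber S) ⊗[S] N ≃ₗ[κ] V := Algebra.IsPushout.cancelBaseChange R κ S (p.Fiber S) N
  let z : (p.Fiber S) ⊗[S] N := eF.symm (d w₀ i)
  let Q : Ideal (p.Fiber S) := ((⊥ : Submodule (p.Fiber S) ((p.Fiber S) ⊗[S] N)).colon {z}).radical
  have hnat : ∀ (s : S), eF (s • z) = act R κ s (d w₀ i) := by
    suffices ∀ (v : V) (s : S), eF (s • eF.symm v) = act R κ s v from fun s => this _ s
    intro v s
    induction v using TensorProduct.induction_on with
    | zero => simp
    | tmul k n =>
      have h1 : eF.symm (k ⊗ₜ[R] n) = algebraMap κ (p.Fiber S) k ⊗ₜ[S] n :=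
        eF.injective (by rw [LinearEquiv.apply_symm_apply, Algebra.algebraMap_eq_smul_one, ← smul_tmul', map_smul, Algebra.IsPushout.cancelBaseChange_tmul, smul_tmul', smul_eq_mul, mul_one])
      rw [h1, ← tmul_smul, Algebra.algebraMap_eq_smul_one, ← smul_tmul', map_smul, Algebra.IsPushout.cancelBaseChange_tmul, act_tmul, smul_tmul', smul_eq_mul, mul_one]
    | add a b ha hb => rw [map_add, smul_add, map_add, map_add, ha, hb]
  have hinc : ∀ s : S, algebraMap S (p.Fiber S) s ∈ Q ↔ s ∈ σ := by
    intro s
    rw [hf, Ideal.mem_radical_iff]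
    refine exists_congr fun k => ?_
    rw [← map_pow, Submodule.mem_colon_singleton, Submodule.mem_bot, algebraMap_smul, ← eF.map_eq_zero_iff, hnat]
  have hred : ∀ x : p.Fiber S, ∃ (v : p.Fiber S) (s : S), IsUnit v ∧ v * x = algebraMap S (p.Fiber S) s := by
    intro x
    obtain ⟨a, ha, s, hs⟩ := Ideal.Fiber.exists_smul_eq_one_tmul p x
    refine ⟨algebraMap R (p.Fiber S) a, s, ?_, by rw [← Algebra.smul_def, hs]; rfl⟩
    rw [IsScalarTower.algebraMap_apply R κ (p.Fiber S)]
    exact (isUnit_iff_ne_zero.2 fun h => ha (Ideal.algebraMap_residueField_eq_zero.1 h)).map _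
  have hQp : Q.IsPrime := by
    refine ⟨fun h1 => hσ.ne_top ((Ideal.eq_top_iff_one σ).2 ?_), fun {a b} hab => ?_⟩
    · rw [← hinc, map_one, h1]
      trivial
    · obtain ⟨u, s, hu, hs⟩ := hred a
      obtain ⟨v, t, hv, ht⟩ := hred b
      have hst : s * t ∈ σ := by
        rw [← hinc, map_mul, ← hs, ← ht, mul_mul_mul_comm]
        exact Q.mul_mem_left _ hab
      rcases hσ.mem_or_mem hst with h2 | h2
      · exact Or.inl ((Ideal.unit_mul_mem_iff_mem Q hu).1 (hs ▸ (hinc s).2 h2))
      · exact Or.inr ((Ideal.unit_mul_mem_iff_mem Q hv).1 (ht ▸ (hinc t).2 h2))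
  exact ⟨Q, ⟨hQp, z, rfl⟩, Ideal.ext fun s => hinc s⟩

end Groth.Agent.RG.Pure
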