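import Groth.Agent.RG.Pure.Fibre
import Groth.Agent.RG.ClosedFibre
import Mathlib.RingTheory.IsTensorProduct

/-!
# Associated points of fibres and base change
-/

set_option autoImplicit false
set_option linter.style.haveILetI false
set_option backward.isDefEq.respectTransparency false

universe u

open TensorProduct

namespace Groth.Agent.RG.Pure

attribute [local instance] Algebra.TensorProduct.rightAlgebra

variable {A B N : Type u} [CommRing A] [CommRing B] [Algebra A B] [AddCommGroup N] [Module B N] [Module A N]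
  [IsScalarTower A B N]

/-- vectors of the fibre of a base change -/
noncomputable def eBC (A' : Type u) [CommRing A'] [Algebra A A'] (K : Type u) [Field K] [Algebra A K] [Algebra A' K]
    [IsScalarTower A A' K] : K ⊗[A'] ((A' ⊗[A] B) ⊗[B] N) ≃ₗ[K] K ⊗[A] N :=
  (AlgebraTensorModule.congr (LinearEquiv.refl K K)
    (Algebra.IsPushout.cancelBaseChange A A' B (A' ⊗[A] B) N)) ≪≫ₗ AlgebraTensorModule.cancelBaseChange A A' K K N

theorem eBC_act (A' : Type u) [CommRing A'] [Algebra A A'] (K : Type u) [Field K] [Algebra A K] [Algebra A' K]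
    [IsScalarTower A A' K] (a : A') (b : B) (y : K ⊗[A'] ((A' ⊗[A] B) ⊗[B] N)) :
    eBC A' K (act A' K (a ⊗ₜ[A] b) y) = algebraMap A' K a • act A K b (eBC A' K y) := by
  induction y using TensorProduct.induction_on with
  | zero => simp
  | tmul k w =>
    obtain ⟨v, rfl⟩ := (Algebra.IsPushout.cancelBaseChange A A' B (A' ⊗[A] B) N).symm.surjective w
    induction v using TensorProduct.induction_on with
    | zero => simp
    | tmul c n =>
      let ec := Algebra.IsPushout.cancelBaseChange A A' B (A' ⊗[A] B) N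
      have h1 : ∀ (c : A') (n : N), ec.symm (c ⊗ₜ[A] n) = (c ⊗ₜ[A] (1 : B)) ⊗ₜ[B] n := fun c n =>
        ec.injective (by
          rw [LinearEquiv.apply_symm_apply, show c ⊗ₜ[A] (1 : B) = c • (1 : A' ⊗[A] B) by
            rw [Algebra.TensorProduct.one_def, smul_tmul', smul_eq_mul, mul_one], ← smul_tmul', map_smul,
            Algebra.IsPushout.cancelBaseChange_tmul, smul_tmul', smul_eq_mul, mul_one])
      have h2 : (a ⊗ₜ[A] b) • ec.symm (c ⊗ₜ[A] n) = ec.symm ((a * c) ⊗ₜ[A] (b • n)) := by
        rw [h1, h1, smul_tmul', smul_eq_mul, Algebra.TensorProduct.tmul_mul_tmul, mul_one]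
        rw [show (a * c) ⊗ₜ[A] b = b • ((a * c) ⊗ₜ[A] (1 : B)) from ?_, smul_tmul]
        rw [Algebra.smul_def]
        change _ = ((1 : A') ⊗ₜ[A] b) * ((a * c) ⊗ₜ[A] (1 : B))
        rw [Algebra.TensorProduct.tmul_mul_tmul, one_mul, mul_one]
      rw [act_tmul, h2]
      simp only [eBC, LinearEquiv.trans_apply, AlgebraTensorModule.congr_tmul, LinearEquiv.refl_apply]
      change AlgebraTensorModule.cancelBaseChange A A' K K N (k ⊗ₜ[A'] ec (ec.symm _)) =
        _ • act A K b (AlgebraTensorModule.cancelBaseChange A A' K K N (k ⊗ₜ[A'] ec (ec.symm _)))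
      rw [LinearEquiv.apply_symm_apply, LinearEquiv.apply_symm_apply, AlgebraTensorModule.cancelBaseChange_tmul,
        AlgebraTensorModule.cancelBaseChange_tmul, act_tmul, smul_tmul', smul_eq_mul, mul_smul, Algebra.smul_def]
    | add x y hx hy => simp only [map_add, tmul_add, smul_add, hx, hy]
  | add x y hx hy => simp only [map_add, smul_add, hx, hy]

theorem AssAt.comap_right {A' : Type u} [CommRing A'] [Algebra A A'] {K : Type u} [Field K] [Algebra A K]
    [Algebra A' K] [IsScalarTower A A' K] {σ : Ideal (A' ⊗[A] B)} (h : AssAt A' ((A' ⊗[A] B) ⊗[B] N) K σ) :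
    AssAt A N K (σ.comap (Algebra.TensorProduct.includeRight : B →ₐ[A] A' ⊗[A] B).toRingHom) :=
  h.transfer _ (eBC A' K) fun b y => by
    change eBC A' K (act A' K ((1 : A') ⊗ₜ[A] b) y) = _
    rw [eBC_act, map_one, one_smul]

theorem AssAt.comap_map {A₁ A' : Type u} [CommRing A₁] [Algebra A A₁] [CommRing A'] [Algebra A A'] (φ : A₁ →ₐ[A] A')
    {K : Type u} [Field K] [Algebra A K] [Algebra A₁ K] [Algebra A' K] [IsScalarTower A A₁ K] [IsScalarTower A A' K]
    (hK : ∀ a, algebraMap A' K (φ a) = algebraMap A₁ K a) {σ : Ideal (A' ⊗[A] B)}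
    (h : AssAt A' ((A' ⊗[A] B) ⊗[B] N) K σ) :
    AssAt A₁ ((A₁ ⊗[A] B) ⊗[B] N) K (σ.comap (Algebra.TensorProduct.map φ (AlgHom.id A B)).toRingHom) :=
  h.transfer _ ((eBC A' K).trans (eBC A₁ K).symm) fun s y => by
    induction s using TensorProduct.induction_on with
    | zero =>
      have h1 : act A₁ K (0 : A₁ ⊗[A] B) = (0 : K ⊗[A₁] ((A₁ ⊗[A] B) ⊗[B] N) →ₗ[K] _) := LinearMap.ext fun z => by
        rw [← map_zero (algebraMap A₁ (A₁ ⊗[A] B)), act_algebraMap, map_zero, zero_smul]; rfl
      rw [map_zero, h1, LinearMap.zero_apply,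
        show (0 : A' ⊗[A] B) = algebraMap A' _ 0 from (map_zero _).symm, act_algebraMap, map_zero, zero_smul, map_zero]
    | tmul a b =>
      change (eBC A' K ≪≫ₗ (eBC A₁ K).symm) (act A' K (φ a ⊗ₜ[A] b) y) = _
      apply (eBC A₁ K).injective
      rw [eBC_act, LinearEquiv.trans_apply, LinearEquiv.trans_apply, LinearEquiv.apply_symm_apply,
        LinearEquiv.apply_symm_apply, eBC_act, hK]
    | add x z hx hz => rw [map_add, act_add, act_add, map_add, hx, hz]

/-- flatness at a prime goes up along base change -/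
theorem flatAt_baseChange {A' : Type u} [CommRing A'] [Algebra A A'] (q : Ideal B) [q.IsPrime]
    [Module.Flat A (LocalizedModule q.primeCompl N)] (Q : Ideal (A' ⊗[A] B)) [Q.IsPrime]
    (hQ : Q.comap (algebraMap B (A' ⊗[A] B)) = q) :
    Module.Flat A' (LocalizedModule Q.primeCompl ((A' ⊗[A] B) ⊗[B] N)) := by
  let B' := A' ⊗[A] B
  let W := Localization.AtPrime Q
  let Nq := LocalizedModule q.primeCompl N
  let X := B' ⊗[B] Nq
  haveI : Module.Flat A' X := Module.Flat.of_linearEquiv (Algebra.IsPushout.cancelBaseChange A A' B B' Nq)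
  haveI : Module.Flat B' W := IsLocalization.flat W Q.primeCompl
  haveI : Module.Flat A' (W ⊗[B'] X) := flat_tensor
  let g : N ⊗[B] W →ₗ[B] Nq ⊗[B] W := AlgebraTensorModule.rTensor B W (LocalizedModule.mkLinearMap q.primeCompl N)
  haveI : IsLocalizedModule q.primeCompl g := inferInstance
  have hu : ∀ s : q.primeCompl, IsUnit (algebraMap B (Module.End B (N ⊗[B] W)) s) := by
    intro s
    have h1 : IsUnit (algebraMap B W s) := by
      rw [IsScalarTower.algebraMap_apply B B' W]
      exact IsLocalization.map_units W (⟨algebraMap B B' s, fun h => s.2 (hQ.le h)⟩ : Q.primeCompl)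
    have h2 : algebraMap B (Module.End B (N ⊗[B] W)) s =
        (algebraMap B (Module.End B W) s).lTensor N := TensorProduct.ext' fun n w => by
      simp only [Module.algebraMap_end_apply, LinearMap.lTensor_tmul, tmul_smul]
    have h3 : IsUnit (algebraMap B (Module.End B W) s) := by
      rw [Module.End.isUnit_iff]
      obtain ⟨v, hv⟩ := h1
      refine ⟨fun x y h => ?_, fun z => ⟨(↑v⁻¹ : W) * z, ?_⟩⟩
      · simp only [Module.algebraMap_end_apply, Algebra.smul_def, ← hv] at h
        exact v.isUnit.mul_left_cancel h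
      · simp only [Module.algebraMap_end_apply, Algebra.smul_def, ← hv, Units.mul_inv_cancel_left]
    rw [h2]
    obtain ⟨w, hw⟩ := h3
    rw [← hw]
    refine ⟨⟨(w : Module.End B W).lTensor N, (↑w⁻¹ : Module.End B W).lTensor N, ?_, ?_⟩, rfl⟩
    · rw [Module.End.mul_eq_comp, ← LinearMap.lTensor_comp, ← Module.End.mul_eq_comp, w.mul_inv]; exact LinearMap.lTensor_id _ _
    · rw [Module.End.mul_eq_comp, ← LinearMap.lTensor_comp, ← Module.End.mul_eq_comp, w.inv_mul]; exact LinearMap.lTensor_id _ _
  haveI : IsLocalizedModule q.primeCompl (LinearMap.id : N ⊗[B] W →ₗ[B] N ⊗[B] W) :=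
    { map_units := hu
      surj := fun z => ⟨(z, 1), by simp⟩
      exists_of_eq := fun h => ⟨1, by simpa using h⟩ }
  let e₀ : N ⊗[B] W ≃ₗ[B] Nq ⊗[B] W := IsLocalizedModule.linearEquiv q.primeCompl LinearMap.id g
  have he₀ : ∀ z, e₀ z = g z := fun z => IsLocalizedModule.linearEquiv_apply q.primeCompl LinearMap.id g z
  let u : W ⊗[B] N →ₗ[W] W ⊗[B] Nq := AlgebraTensorModule.lTensor W W (LocalizedModule.mkLinearMap q.primeCompl N)
  have hcomm : ∀ z, TensorProduct.comm B W Nq (u z) = g (TensorProduct.comm B W N z) := fun z => by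
    induction z using TensorProduct.induction_on with
    | zero => simp
    | tmul w n => simp [u, g]
    | add a b ha hb => simp only [map_add, ha, hb]
  let e₁ : W ⊗[B] N ≃ₗ[A'] W ⊗[B] Nq :=
    (LinearEquiv.ofBijective u
      ⟨fun x y h => (TensorProduct.comm B W N).injective (e₀.injective (by rw [he₀, he₀, ← hcomm, ← hcomm, h])), fun z => by
        obtain ⟨x, hx⟩ := e₀.surjective (TensorProduct.comm B W Nq z)
        obtain ⟨x, rfl⟩ := (TensorProduct.comm B W N).surjective x
        exact ⟨x, (TensorProduct.comm B W Nq).injective (by rw [hcomm, ← he₀, hx])⟩⟩).restrictScalars A'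
  let e : LocalizedModule Q.primeCompl (B' ⊗[B] N) ≃ₗ[A'] W ⊗[B'] X :=
    (((LocalizedModule.equivTensorProduct Q.primeCompl (B' ⊗[B] N)).restrictScalars A').trans
      ((AlgebraTensorModule.cancelBaseChange B B' W W N).restrictScalars A')).trans
      (e₁.trans ((AlgebraTensorModule.cancelBaseChange B B' W W Nq).restrictScalars A').symm)
  exact Module.Flat.of_linearEquiv e

end Groth.Agent.RG.Pure
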