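import Groth.Agent.RG.Pure.Above
import Groth.Agent.InjFibre.Stalk
import Groth.Prelude.Def_MoreMor

/-!
The associated points of the fibres in a chart are relative associated points of the module.
-/

set_option autoImplicit false
set_option linter.style.haveILetI false
set_option backward.isDefEq.respectTransparency false

universe u

open TensorProduct IsLocalRing CategoryTheory AlgebraicGeometry TopologicalSpace

namespace Groth.Agent.RG.Pure

/-- A relative associated point gives an associated prime of the localised fibre module. -/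
theorem isAssociatedPrime_of_assAt {A S N B X : Type u} [CommRing A] [CommRing S] [Algebra A S] [AddCommGroup N]
    [Module S N] [Module A N] [IsScalarTower A S N] {p : Ideal A} [p.IsPrime] {q : Ideal S} [q.IsPrime]
    (hqp : q.comap (algebraMap A S) = p) [CommRing B] [IsLocalRing B] [Algebra S B] [IsLocalization.AtPrime B q]
    [AddCommGroup X] [Module S X] [Module B X] [IsScalarTower S B X] (g : N →ₗ[S] X)
    [IsLocalizedModule q.primeCompl g] (J : Ideal B) (hJ : J = (p.map (algebraMap A S)).map (algebraMap S B))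
    (h : AssAt A N p.ResidueField q) : IsAssociatedPrime (maximalIdeal B) (X ⧸ (J • ⊤ : Submodule B X)) := by
  obtain ⟨n, hn, hns⟩ := exists_vector_of_assAt ‹q.IsPrime› h
  let pS := p.map (algebraMap A S)
  have hpS : ∀ m, m ∈ (pS • ⊤ : Submodule S N) ↔ m ∈ p • (⊤ : Submodule A N) := fun m => by
    rw [← Submodule.restrictScalars_mem A, Ideal.smul_restrictScalars, Submodule.restrictScalars_top]
  have key : ∀ z ∈ (J • ⊤ : Submodule B X), ∃ t ∉ q, ∃ m ∈ (pS • ⊤ : Submodule S N), t • z = g m := by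
    intro z hz
    induction hz using Submodule.smul_induction_on' with
    | smul a ha x _ =>
      rw [hJ] at ha
      obtain ⟨⟨⟨a₀, ha₀⟩, s⟩, hs⟩ := (IsLocalization.mem_map_algebraMap_iff q.primeCompl B).1 ha
      obtain ⟨⟨n', s'⟩, hs'⟩ := IsLocalizedModule.surj q.primeCompl g x
      refine ⟨s * s', fun h => ((‹q.IsPrime›).mem_or_mem h).elim s.2 s'.2, a₀ • n',
        Submodule.smul_mem_smul ha₀ trivial, ?_⟩
      rw [map_smul, ← hs', Submonoid.smul_def, ← algebraMap_smul B a₀, ← hs, ← algebraMap_smul B ((s : S) * s'),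
        ← algebraMap_smul B (s' : S) x, smul_smul, smul_smul, map_mul]
      congr 1
      ring
    | add x _ y _ hx hy =>
      obtain ⟨t₁, ht₁, m₁, hm₁, h₁⟩ := hx
      obtain ⟨t₂, ht₂, m₂, hm₂, h₂⟩ := hy
      refine ⟨t₁ * t₂, fun h => ((‹q.IsPrime›).mem_or_mem h).elim ht₁ ht₂, t₂ • m₁ + t₁ • m₂,
        add_mem (Submodule.smul_mem _ _ hm₁) (Submodule.smul_mem _ _ hm₂), ?_⟩
      rw [map_add, map_smul, map_smul, ← h₁, ← h₂, smul_smul, smul_smul, smul_add, mul_comm t₂ t₁]
  have hne : g n ∉ (J • ⊤ : Submodule B X) := fun hmem => by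
    obtain ⟨t, ht, m, hm, htm⟩ := key _ hmem
    rw [← map_smul] at htm
    obtain ⟨c, hc⟩ := IsLocalizedModule.exists_of_eq (S := q.primeCompl) htm
    refine hn (c * t) (fun h => ((‹q.IsPrime›).mem_or_mem h).elim c.2 ht) ((hpS _).1 ?_)
    rw [Submonoid.smul_def, Submonoid.smul_def] at hc
    rw [mul_smul, hc]
    exact Submodule.smul_mem _ _ hm
  refine ⟨(maximalIdeal.isMaximal B).isPrime, Submodule.Quotient.mk (g n), le_antisymm (fun b hb => ?_) ?_⟩
  · obtain ⟨s, u, rfl⟩ := IsLocalization.exists_mk'_eq q.primeCompl b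
    have hsq : s ∈ q := by
      by_contra hs
      exact hb ((IsLocalization.AtPrime.isUnit_mk'_iff B q s u).2 hs)
    obtain ⟨k, c, hc, hck⟩ := hns s hsq
    refine ⟨k, Submodule.mem_colon_singleton.2 ?_⟩
    rw [Submodule.mem_bot, ← Submodule.Quotient.mk_smul, Submodule.Quotient.mk_eq_zero]
    have hu : IsUnit (algebraMap S B (algebraMap A S c)) :=
      IsLocalization.map_units B (⟨algebraMap A S c, fun h => hc (hqp.le h)⟩ : q.primeCompl)
    have h1 : algebraMap S B (s ^ k) • g n ∈ (J • ⊤ : Submodule B X) := by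
      rw [← Submodule.smul_mem_iff_of_isUnit _ hu, smul_smul, ← map_mul, algebraMap_smul, ← map_smul, mul_smul,
        algebraMap_smul]
      have hck' := (hpS _).2 hck
      generalize c • s ^ k • n = v at hck'
      induction hck' using Submodule.smul_induction_on' with
      | smul a ha z _ =>
        rw [map_smul, ← algebraMap_smul B a, hJ]
        exact Submodule.smul_mem_smul (Ideal.mem_map_of_mem _ ha) trivial
      | add x _ y _ hx hy => rw [map_add]; exact add_mem hx hy
    rw [show IsLocalization.mk' B s u ^ k = IsLocalization.mk' B 1 (u ^ k) * algebraMap S B (s ^ k) by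
      rw [← IsLocalization.mk'_pow, IsLocalization.mk'_eq_mul_mk'_one, mul_comm], mul_smul]
    exact Submodule.smul_mem _ _ h1
  · refine ((maximalIdeal.isMaximal B).isPrime.radical_le_iff).2 (le_maximalIdeal fun htop => hne ?_)
    have h1 := Submodule.mem_colon_singleton.1 (htop.ge (Submodule.mem_top (x := (1 : B))))
    rwa [one_smul, Submodule.mem_bot, Submodule.Quotient.mk_eq_zero] at h1

open Groth.Agent in
/-- An associated point of a fibre in an affine chart is a relative associated point. -/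
theorem mem_relAss_of_assPts {X Y : Scheme.{u}} (f : X ⟶ Y) (F : X.Modules) (hq : Coh.IsQCoh F)
    {V : Y.Opens} (hV : IsAffineOpen V) {W : X.Opens} (hW : IsAffineOpen W) (e : W ≤ f ⁻¹ᵁ V)
    (x : X) (hx : x ∈ W) :
    letI : Algebra Γ(Y, V) Γ(X, W) := (f.appLE V W e).hom.toAlgebra
    letI : Module Γ(Y, V) Γ(F, W) := Module.compHom Γ(F, W) (f.appLE V W e).hom
    haveI : IsScalarTower Γ(Y, V) Γ(X, W) Γ(F, W) := IsScalarTower.of_algebraMap_smul fun _ _ => rfl
    ∀ (p : Ideal Γ(Y, V)) [p.IsPrime],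
      (hW.primeIdealOf ⟨x, hx⟩).asIdeal ∈ assPts Γ(Y, V) Γ(X, W) Γ(F, W) p → x ∈ MoreMor.relAss f F := by
  letI : Algebra Γ(Y, V) Γ(X, W) := (f.appLE V W e).hom.toAlgebra
  letI : Module Γ(Y, V) Γ(F, W) := Module.compHom Γ(F, W) (f.appLE V W e).hom
  haveI : IsScalarTower Γ(Y, V) Γ(X, W) Γ(F, W) := IsScalarTower.of_algebraMap_smul fun _ _ => rfl
  intro p _ hass
  obtain ⟨-, hqp⟩ := isPrime_of_mem_assPts _ _ _ hass
  letI := TopCat.Presheaf.algebra_section_stalk Y.presheaf (⟨f x, e hx⟩ : V)
  letI := TopCat.Presheaf.algebra_section_stalk X.presheaf (⟨x, hx⟩ : W)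
  let B := X.presheaf.stalk x
  let N := F.presheaf.stalk x
  haveI : IsLocalization.AtPrime (X.presheaf.stalk x) (hW.primeIdealOf ⟨x, hx⟩).asIdeal :=
    hW.isLocalization_stalk ⟨x, hx⟩
  haveI : IsLocalization.AtPrime (Y.presheaf.stalk (f x)) (hV.primeIdealOf ⟨f x, e hx⟩).asIdeal :=
    hV.isLocalization_stalk ⟨f x, e hx⟩
  letI : Module Γ(X, W) N := Module.compHom N (X.presheaf.germ W x hx).hom
  haveI : IsScalarTower Γ(X, W) B N := IsScalarTower.of_algebraMap_smul fun _ _ => rfl
  obtain ⟨g, hg⟩ := LocFree.exists_stalkMap hW hq hx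
  haveI := hg
  have hcomm : (f.stalkMap x).hom.comp (algebraMap Γ(Y, V) (Y.presheaf.stalk (f x))) =
      (algebraMap Γ(X, W) B).comp (algebraMap Γ(Y, V) Γ(X, W)) :=
    RingHom.ext fun a => FibCrit.germ_comm f V W e x hx a
  have hp : (hV.primeIdealOf ⟨f x, e hx⟩).asIdeal = p := by
    rw [← hqp]
    rw [← IsLocalization.AtPrime.under_maximalIdeal (Y.presheaf.stalk (f x)) (hV.primeIdealOf ⟨f x, e hx⟩).asIdeal,
      ← IsLocalization.AtPrime.under_maximalIdeal B (hW.primeIdealOf ⟨x, hx⟩).asIdeal, Ideal.under_def, Ideal.under_def,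
      Ideal.comap_comap, ← hcomm, ← Ideal.comap_comap]
    congr 1
    exact (IsLocalRing.maximalIdeal_comap (f.stalkMap x).hom).symm
  refine isAssociatedPrime_of_assAt (A := Γ(Y, V)) (S := Γ(X, W)) hqp g _ ?_ (assAt_of_mem_assPts hass)
  rw [Ideal.map_map, ← hcomm, ← Ideal.map_map, ← hp]
  congr 1
  exact IsLocalization.AtPrime.map_eq_maximalIdeal _ _ |>.symm

end Groth.Agent.RG.Pure
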