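import Groth.Agent.RG.Pure.Transfer
import Groth.Agent.RG.Loc.Local
import Groth.Agent.RG.Loc.Nhd
import Mathlib.RingTheory.TensorProduct.Nontrivial
import Mathlib.RingTheory.Ideal.GoingDown
import Mathlib.RingTheory.Ideal.MinimalPrime.Localization
import Mathlib.RingTheory.Ideal.AssociatedPrime.Localization

/-!
# Impurities lift along flat base change
-/

set_option autoImplicit false
set_option linter.style.haveILetI false
set_option backward.isDefEq.respectTransparency false

universe u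

open TensorProduct

attribute [local instance] Algebra.TensorProduct.rightAlgebra

namespace Groth.Agent.RG.Pure

theorem eBC_map_act {A B N : Type u} [CommRing A] [CommRing B] [Algebra A B] [AddCommGroup N] [Module B N] [Module A N]
    [IsScalarTower A B N] {A₁ A₂ : Type u} [CommRing A₁] [Algebra A A₁] [CommRing A₂] [Algebra A A₂] (φ : A₁ →ₐ[A] A₂)
    {K : Type u} [Field K] [Algebra A K] [Algebra A₁ K] [Algebra A₂ K] [IsScalarTower A A₁ K] [IsScalarTower A A₂ K]
    (hK : ∀ a, algebraMap A₂ K (φ a) = algebraMap A₁ K a) (s : A₁ ⊗[A] B) (y : K ⊗[A₂] ((A₂ ⊗[A] B) ⊗[B] N)) :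
    ((eBC (A := A) (B := B) (N := N) A₂ K).trans (eBC (A := A) (B := B) (N := N) A₁ K).symm) (act A₂ K ((Algebra.TensorProduct.map φ (AlgHom.id A B)).toRingHom s) y) =
      act A₁ K s (((eBC (A := A) (B := B) (N := N) A₂ K).trans (eBC (A := A) (B := B) (N := N) A₁ K).symm) y) := by
  induction s using TensorProduct.induction_on with
  | zero =>
    have h1 : act A₁ K (0 : A₁ ⊗[A] B) = (0 : K ⊗[A₁] ((A₁ ⊗[A] B) ⊗[B] N) →ₗ[K] _) := LinearMap.ext fun z => by
      rw [← map_zero (algebraMap A₁ (A₁ ⊗[A] B)), act_algebraMap, map_zero, zero_smul]; rfl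
    rw [map_zero, h1, LinearMap.zero_apply,
      show (0 : A₂ ⊗[A] B) = algebraMap A₂ _ 0 from (map_zero _).symm, act_algebraMap, map_zero, zero_smul, map_zero]
  | tmul a b =>
    apply (eBC A₁ K).injective
    change (eBC A₁ K) (((eBC (A := A) (B := B) (N := N) A₂ K).trans (eBC (A := A) (B := B) (N := N) A₁ K).symm) (act A₂ K (φ a ⊗ₜ[A] b) y)) = _
    rw [eBC_act, LinearEquiv.trans_apply, LinearEquiv.trans_apply, LinearEquiv.apply_symm_apply,
      LinearEquiv.apply_symm_apply, eBC_act, hK]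
  | add x z hx hz => rw [map_add, act_add, act_add, map_add, hx, hz]

/-- acting on a vector extended to a bigger field -/
theorem act_cancel_eq_zero_iff {R S N : Type u} [CommRing R] [CommRing S] [Algebra R S] [AddCommGroup N] [Module S N]
    [Module R N] [IsScalarTower R S N] (κ K : Type u) [Field κ] [Field K] [Algebra R κ] [Algebra R K] [Algebra κ K]
    [IsScalarTower R κ K] (x : S) (y : κ ⊗[R] N) :
    act R K x (AlgebraTensorModule.cancelBaseChange R κ K K N ((1 : K) ⊗ₜ[κ] y)) = 0 ↔ act R κ x y = 0 := by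
  have h1 : act R K x (AlgebraTensorModule.cancelBaseChange R κ K K N ((1 : K) ⊗ₜ[κ] y)) =
      AlgebraTensorModule.cancelBaseChange R κ K K N ((1 : K) ⊗ₜ[κ] act R κ x y) := by
    induction y using TensorProduct.induction_on with
    | zero => simp
    | tmul k n => simp [act_tmul]
    | add a b ha hb => simp only [tmul_add, map_add, ha, hb]
  rw [h1, LinearEquiv.map_eq_zero_iff]
  refine ⟨fun h => Module.FaithfullyFlat.tensorProduct_mk_injective (A := κ) (B := K) (κ ⊗[R] N) ?_,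
    fun h => by rw [h, tmul_zero]⟩
  rw [TensorProduct.mk_apply, TensorProduct.mk_apply, tmul_zero]
  exact h

/-- below the annihilator of a vector of a fibre there is an associated point with the same trace -/
theorem exists_assPts_of_vector {R S N : Type u} [CommRing R] [CommRing S] [Algebra R S] [Algebra.FiniteType R S]
    [AddCommGroup N] [Module S N] [Module R N] [IsScalarTower R S N] (p : Ideal R) [p.IsPrime] (y : p.ResidueField ⊗[R] N)
    {C : Type u} [CommRing C] (θ : C →+* S) (σ : Ideal C) [σ.IsPrime]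
    (hy : ∀ x : C, x ∈ σ ↔ ∃ k : ℕ, act R p.ResidueField (θ (x ^ k)) y = 0) :
    ∃ σ₂ ∈ assPts R S N p, σ₂.comap θ = σ := by
  classical
  let κ := p.ResidueField
  let F := p.Fiber S
  let eF : F ⊗[S] N ≃ₗ[κ] κ ⊗[R] N := Algebra.IsPushout.cancelBaseChange R κ S F N
  have hnat : ∀ (x : S) (w : F ⊗[S] N), eF (x • w) = act R κ x (eF w) := by
    intro x w
    obtain ⟨v, rfl⟩ := eF.symm.surjective w
    induction v using TensorProduct.induction_on with
    | zero => simp
    | tmul k n =>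
      have h1 : eF.symm (k ⊗ₜ[R] n) = algebraMap κ F k ⊗ₜ[S] n :=
        eF.injective (by rw [LinearEquiv.apply_symm_apply, Algebra.algebraMap_eq_smul_one, ← smul_tmul', map_smul,
          Algebra.IsPushout.cancelBaseChange_tmul, smul_tmul', smul_eq_mul, mul_one])
      rw [LinearEquiv.apply_symm_apply, h1, ← tmul_smul, Algebra.algebraMap_eq_smul_one, ← smul_tmul', map_smul,
        Algebra.IsPushout.cancelBaseChange_tmul, act_tmul, smul_tmul', smul_eq_mul, mul_one]
    | add a b ha hb => rw [map_add, smul_add, map_add, map_add, map_add, ha, hb]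
  let z : F ⊗[S] N := eF.symm y
  let Z : Submodule F (F ⊗[S] N) := Submodule.span F {z}
  let ψ : C →+* F := (algebraMap S F).comp θ
  have hann : ∀ x, x ∈ (Module.annihilator F Z).comap ψ ↔ act R κ (θ x) y = 0 := fun x => by
    rw [Ideal.mem_comap, show Module.annihilator F Z = Z.annihilator from rfl, Submodule.mem_annihilator_span_singleton,
      show ψ x = algebraMap S F (θ x) from rfl, algebraMap_smul, ← eF.map_eq_zero_iff, hnat, LinearEquiv.apply_symm_apply]
  have hσe : ((Module.annihilator F Z).comap ψ).radical = σ := Ideal.ext fun x => by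
    rw [hy, Ideal.mem_radical_iff]
    exact exists_congr fun k => hann _
  have hmin : σ ∈ ((Module.annihilator F Z).comap ψ).minimalPrimes := by
    rw [← Ideal.radical_minimalPrimes, hσe, Ideal.minimalPrimes_eq_subsingleton_self]
    rfl
  obtain ⟨Q, hQ, hQσ⟩ := Ideal.exists_minimalPrimes_comap_eq ψ σ hmin
  haveI : IsNoetherianRing F := Algebra.FiniteType.isNoetherianRing κ _
  haveI : Module.Finite F Z := Module.Finite.iff_fg.2 ⟨{z}, by simp [Z]⟩
  have hass : Q ∈ associatedPrimes F (F ⊗[S] N) :=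
    associatedPrimes.subset_of_injective Z.injective_subtype
      (Module.associatedPrimes.minimalPrimes_annihilator_subset_associatedPrimes F Z hQ)
  refine ⟨_, ⟨Q, hass, rfl⟩, ?_⟩
  rw [← hQσ, Ideal.comap_comap]
  rfl

/-- associated points of fibres lift along field extensions and base change -/
theorem exists_assPts_lift {A B N : Type u} [CommRing A] [CommRing B] [Algebra A B] [Algebra.FiniteType A B]
    [AddCommGroup N] [Module B N] [Module A N] [IsScalarTower A B N] {A₁ A₂ : Type u} [CommRing A₁]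
    [Algebra A A₁] [CommRing A₂] [Algebra A A₂] (φ : A₁ →ₐ[A] A₂) (t : Ideal A₁) [t.IsPrime] (s : Ideal A₂) [s.IsPrime]
    (hst : s.comap φ.toRingHom = t) {σ : Ideal (A₁ ⊗[A] B)} (hσ : σ.IsPrime)
    (h : AssAt A₁ ((A₁ ⊗[A] B) ⊗[B] N) t.ResidueField σ) :
    ∃ σ₂ ∈ assPts A₂ (A₂ ⊗[A] B) ((A₂ ⊗[A] B) ⊗[B] N) s,
      σ₂.comap (Algebra.TensorProduct.map φ (AlgHom.id A B)).toRingHom = σ := by
  let κ := t.ResidueField
  let K := s.ResidueField
  letI : Algebra κ K := (Ideal.ResidueField.map t s φ.toRingHom hst.symm).toAlgebra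
  letI : Algebra A₁ K := ((algebraMap A₂ K).comp φ.toRingHom).toAlgebra
  haveI : IsScalarTower A₁ κ K := IsScalarTower.of_algebraMap_eq fun x => by
    simp only [RingHom.algebraMap_toAlgebra, RingHom.comp_apply]
    exact (Ideal.ResidueField.map_algebraMap _ _ _ _ x).symm
  haveI : IsScalarTower A A₁ K := IsScalarTower.of_algebraMap_eq fun x => by
    rw [RingHom.algebraMap_toAlgebra, RingHom.comp_apply, AlgHom.toRingHom_eq_coe, RingHom.coe_coe, φ.commutes,
      ← IsScalarTower.algebraMap_apply]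
  obtain ⟨y, hy⟩ := h
  let e := (eBC (A := A) (B := B) (N := N) A₂ K).trans (eBC (A := A) (B := B) (N := N) A₁ K).symm
  refine exists_assPts_of_vector s (e.symm (AlgebraTensorModule.cancelBaseChange A₁ κ K K _ ((1 : K) ⊗ₜ[κ] y)))
    (Algebra.TensorProduct.map φ (AlgHom.id A B)).toRingHom σ fun x => ?_
  rw [hy]
  refine exists_congr fun k => ?_
  rw [← act_cancel_eq_zero_iff κ K, ← e.map_eq_zero_iff (x := act A₂ _ _ _)]
  rw [show e (act A₂ K _ _) = _ from eBC_map_act φ (fun _ => rfl) _ _]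
  rw [show e (e.symm _) = _ from e.apply_symm_apply _]

/-- an impurity lifts to a flat base change -/
theorem exists_imp_lift {A B N : Type u} [CommRing A] [CommRing B] [Algebra A B] [Algebra.FiniteType A B]
    [AddCommGroup N] [Module B N] [Module A N] [IsScalarTower A B N] [Module.Finite B N] {A₁ A₂ : Type u} [CommRing A₁]
    [Algebra A A₁] [CommRing A₂] [Algebra A A₂] [Algebra A₁ A₂] [IsScalarTower A A₁ A₂] (t' t : Ideal A₁) [t'.IsPrime]
    [t.IsPrime] (hle : t' ≤ t) (s : Ideal A₂) [s.IsPrime] [s.LiesOver t] [Module.Flat A₁ (Localization.AtPrime s)]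
    (h : ∃ P, Imp A₁ (A₁ ⊗[A] B) ((A₁ ⊗[A] B) ⊗[B] N) t' t P) :
    ∃ (s' : Ideal A₂) (_ : s'.IsPrime), s' ≤ s ∧ ∃ Q, Imp A₂ (A₂ ⊗[A] B) ((A₂ ⊗[A] B) ⊗[B] N) s' s Q := by
  obtain ⟨P, hP, hPt, hass, hno⟩ := h
  let L := Localization.AtPrime s
  haveI : (IsLocalRing.maximalIdeal L).LiesOver s := ⟨(Localization.AtPrime.under_maximalIdeal (I := s)).symm⟩
  haveI : (IsLocalRing.maximalIdeal L).LiesOver t := Ideal.LiesOver.trans _ s t
  obtain ⟨Q, hQle, hQp, hQt⟩ := Ideal.exists_ideal_le_liesOver_of_le (p := t') (q := t) (IsLocalRing.maximalIdeal L) hle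
  let s' : Ideal A₂ := Q.comap (algebraMap A₂ L)
  have hs's : s' ≤ s := (Ideal.comap_mono hQle).trans (Localization.AtPrime.under_maximalIdeal (I := s)).le
  have hs't : s'.comap (algebraMap A₁ A₂) = t' := by
    rw [Ideal.comap_comap, ← IsScalarTower.algebraMap_eq]
    exact hQt.over.symm
  let φ : A₁ →ₐ[A] A₂ := IsScalarTower.toAlgHom A A₁ A₂
  obtain ⟨σ₂, hσ₂, hσ₂c⟩ := exists_assPts_lift φ t' s' hs't hP hass
  obtain ⟨hp₂, hc₂⟩ := isPrime_of_mem_assPts _ _ _ hσ₂
  refine ⟨s', inferInstance, hs's, σ₂, hp₂, hc₂, assAt_of_mem_assPts hσ₂, fun P' hP' hleP' hP's => ?_⟩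
  refine hno _ (hP'.comap (Algebra.TensorProduct.map φ (AlgHom.id A B)).toRingHom)
    (hσ₂c ▸ Ideal.comap_mono hleP') ?_
  rw [Ideal.comap_comap, (Ideal.over_def s t), Ideal.under_def, ← hP's, Ideal.comap_comap]
  congr 1

/-- a prime of the tensor product over two primes lying over the same prime -/
theorem exists_prime_both {A A₁ A' : Type u} [CommRing A] [CommRing A₁] [CommRing A'] [Algebra A A₁] [Algebra A A']
    (p : Ideal A) [p.IsPrime] (t : Ideal A₁) [t.IsPrime] [t.LiesOver p] (p' : Ideal A') [p'.IsPrime] [p'.LiesOver p] :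
    ∃ (s : Ideal (A₁ ⊗[A] A')), s.IsPrime ∧ s.comap (algebraMap A₁ (A₁ ⊗[A] A')) = t ∧
      s.comap (algebraMap A' (A₁ ⊗[A] A')) = p' := by
  let κ := p.ResidueField
  let f₁ : κ →ₐ[A] t.ResidueField := Ideal.ResidueField.mapₐ p t (Algebra.ofId A A₁) (Ideal.over_def t p)
  let f₂ : κ →ₐ[A] p'.ResidueField := Ideal.ResidueField.mapₐ p p' (Algebra.ofId A A') (Ideal.over_def p' p)
  letI : Algebra κ t.ResidueField := f₁.toRingHom.toAlgebra
  letI : Algebra κ p'.ResidueField := f₂.toRingHom.toAlgebra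
  haveI : IsScalarTower A κ t.ResidueField := IsScalarTower.of_algebraMap_eq fun x => (f₁.commutes x).symm
  haveI : IsScalarTower A κ p'.ResidueField := IsScalarTower.of_algebraMap_eq fun x => (f₂.commutes x).symm
  haveI : Nontrivial (t.ResidueField ⊗[κ] p'.ResidueField) :=
    Algebra.TensorProduct.nontrivial_of_algebraMap_injective_of_isDomain κ _ _ f₁.toRingHom.injective f₂.toRingHom.injective
  obtain ⟨m, hm⟩ := Ideal.exists_maximal (t.ResidueField ⊗[κ] p'.ResidueField)
  let g₁ : A₁ →ₐ[A] t.ResidueField ⊗[κ] p'.ResidueField :=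
    ((Algebra.TensorProduct.includeLeft (S := κ) : t.ResidueField →ₐ[κ] t.ResidueField ⊗[κ] p'.ResidueField).restrictScalars
      A).comp (IsScalarTower.toAlgHom A A₁ t.ResidueField)
  let g₂ : A' →ₐ[A] t.ResidueField ⊗[κ] p'.ResidueField :=
    ((Algebra.TensorProduct.includeRight : p'.ResidueField →ₐ[κ] t.ResidueField ⊗[κ] p'.ResidueField).restrictScalars
      A).comp (IsScalarTower.toAlgHom A A' p'.ResidueField)
  let Φ := (Algebra.TensorProduct.lift g₁ g₂ fun _ _ => Commute.all _ _).toRingHom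
  refine ⟨m.comap Φ, Ideal.IsPrime.comap _, ?_, ?_⟩
  · rw [Ideal.comap_comap, show Φ.comp (algebraMap A₁ (A₁ ⊗[A] A')) = g₁.toRingHom from RingHom.ext fun x => by simp [Φ],
      show g₁.toRingHom = (Algebra.TensorProduct.includeLeftRingHom).comp (algebraMap A₁ t.ResidueField) from rfl,
      ← Ideal.comap_comap]
    haveI : (m.comap (Algebra.TensorProduct.includeLeftRingHom : t.ResidueField →+* _)).IsPrime := Ideal.IsPrime.comap _
    rw [Ideal.eq_bot_of_prime (m.comap (Algebra.TensorProduct.includeLeftRingHom : t.ResidueField →+* _)),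
      ← RingHom.ker_eq_comap_bot]
    exact Ideal.ker_algebraMap_residueField t
  · rw [Ideal.comap_comap, show Φ.comp (algebraMap A' (A₁ ⊗[A] A')) = g₂.toRingHom from RingHom.ext fun x => by
        simp [Φ, RingHom.algebraMap_toAlgebra],
      show g₂.toRingHom = ((Algebra.TensorProduct.includeRight : p'.ResidueField →ₐ[κ] _).toRingHom).comp
        (algebraMap A' p'.ResidueField) from rfl, ← Ideal.comap_comap]
    haveI : (m.comap ((Algebra.TensorProduct.includeRight : p'.ResidueField →ₐ[κ] _).toRingHom)).IsPrime :=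
      Ideal.IsPrime.comap _
    rw [Ideal.eq_bot_of_prime (m.comap ((Algebra.TensorProduct.includeRight : p'.ResidueField →ₐ[κ] _).toRingHom)),
      ← RingHom.ker_eq_comap_bot]
    exact Ideal.ker_algebraMap_residueField p'

/-- flatness at a prime of a base change -/
theorem flat_localization_baseChange {A A₁ A' : Type u} [CommRing A] [CommRing A₁] [CommRing A'] [Algebra A A₁]
    [Algebra A A'] (p' : Ideal A') [p'.IsPrime] [Module.Flat A (Localization.AtPrime p')]
    (s : Ideal (A₁ ⊗[A] A')) [s.IsPrime] (hs : s.comap (algebraMap A' (A₁ ⊗[A] A')) = p') :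
    Module.Flat A₁ (Localization.AtPrime s) := by
  haveI : Module.Flat A (LocalizedModule p'.primeCompl A') :=
    Module.Flat.of_linearEquiv ((IsLocalizedModule.iso p'.primeCompl
      (Algebra.linearMap A' (Localization.AtPrime p'))).restrictScalars A)
  haveI := flatAt_baseChange (A' := A₁) (N := A') p' s hs
  exact Module.Flat.of_linearEquiv (((LocalizedModule.equivTensorProduct s.primeCompl ((A₁ ⊗[A] A') ⊗[A'] A')) ≪≫ₗ
    AlgebraTensorModule.congr (LinearEquiv.refl _ _) (AlgebraTensorModule.rid A' (A₁ ⊗[A] A') (A₁ ⊗[A] A')) ≪≫ₗ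
    AlgebraTensorModule.rid (A₁ ⊗[A] A') (Localization.AtPrime s) (Localization.AtPrime s)).restrictScalars A₁).symm

/-- the base change of an étale neighbourhood -/
theorem isEtaleNhd_tensor {A A₁ A' : Type u} [CommRing A] [CommRing A₁] [CommRing A'] [Algebra A A₁] [Algebra A A']
    {p : Ideal A} [p.IsPrime] {t : Ideal A₁} [t.IsPrime] (hn : FlatCA.IsEtaleNhd A A₁ p t) {p' : Ideal A'} [p'.IsPrime]
    [p'.LiesOver p] (s : Ideal (A₁ ⊗[A] A')) [s.IsPrime] (hst : s.comap (algebraMap A₁ (A₁ ⊗[A] A')) = t)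
    (hsp : s.comap (algebraMap A' (A₁ ⊗[A] A')) = p') : FlatCA.IsEtaleNhd A' (A₁ ⊗[A] A') p' s := by
  haveI := hn.1
  haveI : Algebra.Etale A' (A₁ ⊗[A] A') := Algebra.Etale.of_equiv (Algebra.TensorProduct.commRight A A' A₁)
  refine Loc.isEtaleNhd_mk hsp fun x => ?_
  obtain ⟨c, y, hc, hcy⟩ := Loc.exists_approx hn x
  refine ⟨y, algebraMap A A' c, fun hm => hc (by rw [Ideal.over_def p' p]; exact hm), ?_⟩
  have hcS : algebraMap A' (A₁ ⊗[A] A') (algebraMap A A' c) = algebraMap A (A₁ ⊗[A] A') c := by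
    change (1 : A₁) ⊗ₜ[A] algebraMap A A' c = algebraMap A A₁ c ⊗ₜ[A] (1 : A')
    rw [Algebra.algebraMap_eq_smul_one, Algebra.algebraMap_eq_smul_one (A := A₁), smul_tmul]
  rw [hcS]
  exact (Ideal.map_le_iff_le_comap.2 hst.ge) hcy

/-- an impurity gives one on any flat base change with a point above it -/
theorem exists_impurity_lift_aux {A B N A' B' N' : Type u} [CommRing A] [CommRing B] [Algebra A B]
    [Algebra.FiniteType A B] [AddCommGroup N] [Module B N] [Module.Finite B N] [CommRing A'] [CommRing B']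
    [Algebra A A'] [Algebra B B'] [Algebra A' B'] [Algebra A B'] [IsScalarTower A B B'] [IsScalarTower A A' B']
    [Algebra.IsPushout A B A' B'] [AddCommGroup N'] [Module B' N'] [Module B N'] [IsScalarTower B B' N'] {f : N →ₗ[B] N'}
    (hf : IsBaseChange B' f) {A₁ A₂ : Type u} [CommRing A₁] [Algebra A A₁] [CommRing A₂] [Algebra A A₂] [Algebra A₁ A₂]
    [IsScalarTower A A₁ A₂] [Algebra A' A₂] [IsScalarTower A A' A₂] (p' : Ideal A') [p'.IsPrime] {t' t : Ideal A₁}
    [t'.IsPrime] [t.IsPrime] (hle : t' ≤ t) (s : Ideal A₂) [s.IsPrime] [s.LiesOver t] [s.LiesOver p']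
    [Module.Flat A₁ (Localization.AtPrime s)] [Module A N] [IsScalarTower A B N]
    (hcan : ∃ P, Imp A₁ (A₁ ⊗[A] B) ((A₁ ⊗[A] B) ⊗[B] N) t' t P) :
    ∃ (s' : Ideal A₂) (_ : s'.IsPrime) (Q : Ideal (A₂ ⊗[A'] B')) (_ : Q.IsPrime),
      FlatCA.IsImpurity A' B' N' p' A₂ (A₂ ⊗[A'] B') ((A₂ ⊗[A'] B') ⊗[B'] N') (TensorProduct.mk B' _ N' 1) s' s Q := by
  obtain ⟨s', hs', hs's, hQ⟩ := exists_imp_lift (B := B) (N := N) (A₂ := A₂) t' t hle s hcan
  haveI := hs'
  let B₂ := A₂ ⊗[A'] B'
  let N₂ := B₂ ⊗[B'] N'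
  letI : Algebra B B₂ := ((algebraMap B' B₂).comp (algebraMap B B')).toAlgebra
  haveI : IsScalarTower B B' B₂ := IsScalarTower.of_algebraMap_eq' rfl
  haveI : IsScalarTower A A' B₂ := IsScalarTower.of_algebraMap_eq (R := A) (S := A') (A := B₂) fun a =>
    (IsScalarTower.algebraMap_apply A A₂ B₂ a).trans ((congrArg (algebraMap A₂ B₂)
      (IsScalarTower.algebraMap_apply A A' A₂ a)).trans (IsScalarTower.algebraMap_apply A' A₂ B₂ _).symm)
  haveI : IsScalarTower A B' B₂ := IsScalarTower.of_algebraMap_eq (R := A) (S := B') (A := B₂) fun a =>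
    (IsScalarTower.algebraMap_apply A A' B₂ a).trans ((IsScalarTower.algebraMap_apply A' B' B₂ _).trans
      (congrArg (algebraMap B' B₂) (IsScalarTower.algebraMap_apply A A' B' a).symm))
  haveI : IsScalarTower A B B₂ := IsScalarTower.of_algebraMap_eq (R := A) (S := B) (A := B₂) fun a =>
    (IsScalarTower.algebraMap_apply A B' B₂ a).trans ((congrArg (algebraMap B' B₂)
      (IsScalarTower.algebraMap_apply A B B' a)).trans (IsScalarTower.algebraMap_apply B B' B₂ _).symm)
  haveI h12 : Algebra.IsPushout A A' B B' := Algebra.IsPushout.symm inferInstance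
  have h23 : Algebra.IsPushout A' A₂ B' B₂ := inferInstance
  have hpush₂ : Algebra.IsPushout A B A₂ B₂ := ((Algebra.IsPushout.comp_iff A A' B B' (T := A₂) (T' := B₂)).2 h23).symm
  haveI : IsScalarTower B B' N₂ := IsScalarTower.of_algebraMap_smul fun b z => by
    rw [← algebraMap_smul B₂ (algebraMap B B' b) z, ← IsScalarTower.algebraMap_apply, algebraMap_smul]
  have hbc₂ : IsBaseChange B₂ (((TensorProduct.mk B' B₂ N' 1).restrictScalars B) ∘ₗ f) :=
    hf.comp (TensorProduct.isBaseChange B' N' B₂)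
  obtain ⟨Φ₂, e₂, hΦ₂, he₂⟩ := exists_model_map (A := A) (B := B) (C := B) (A' := A₂) (B' := A₂ ⊗[A] B) (C' := B₂)
    (fun x => ⟨x, rfl⟩) inferInstance hpush₂ (TensorProduct.isBaseChange B N (A₂ ⊗[A] B)) hbc₂
  obtain ⟨Q, hQ₂⟩ := (exists_imp_iff Φ₂ hΦ₂ e₂ he₂ s' s).1 hQ
  haveI := hQ₂.1
  exact ⟨s', hs', Q, hQ₂.1, hQ₂.isImpurity h23.symm (TensorProduct.isBaseChange B' N' B₂) hs's inferInstance⟩

/-- an impurity gives one of any base change along a map flat at the point -/
theorem exists_impurity_lift {A B N A' B' N' : Type u} [CommRing A] [CommRing B] [Algebra A B] [Algebra.FiniteType A B]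
    [AddCommGroup N] [Module B N] [Module.Finite B N] [CommRing A'] [CommRing B'] [Algebra A A'] [Algebra B B']
    [Algebra A' B'] [Algebra A B'] [IsScalarTower A B B'] [IsScalarTower A A' B'] [Algebra.IsPushout A B A' B']
    [AddCommGroup N'] [Module B' N'] [Module B N'] [IsScalarTower B B' N'] {f : N →ₗ[B] N'} (hf : IsBaseChange B' f)
    {p : Ideal A} [p.IsPrime] (p' : Ideal A') [p'.IsPrime] [p'.LiesOver p] [Module.Flat A (Localization.AtPrime p')]
    {A₁ B₁ N₁ : Type u} [CommRing A₁] [CommRing B₁] [Algebra A A₁] [Algebra B B₁] [Algebra A₁ B₁] [Algebra A B₁]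
    [IsScalarTower A B B₁] [IsScalarTower A A₁ B₁] [AddCommGroup N₁] [Module B₁ N₁] [Module B N₁] [IsScalarTower B B₁ N₁]
    [Module A₁ N₁] [IsScalarTower A₁ B₁ N₁] {g : N →ₗ[B] N₁} {t' t : Ideal A₁} [t'.IsPrime] [t.IsPrime] {P : Ideal B₁}
    [P.IsPrime] (hI : FlatCA.IsImpurity A B N p A₁ B₁ N₁ g t' t P) :
    ∃ (s' s : Ideal (A₁ ⊗[A] A')) (_ : s'.IsPrime) (_ : s.IsPrime)
      (Q : Ideal ((A₁ ⊗[A] A') ⊗[A'] B')) (_ : Q.IsPrime),
      (FlatCA.IsEtaleNhd A A₁ p t → FlatCA.IsEtaleNhd A' (A₁ ⊗[A] A') p' s) ∧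
      FlatCA.IsImpurity A' B' N' p' (A₁ ⊗[A] A') ((A₁ ⊗[A] A') ⊗[A'] B') (((A₁ ⊗[A] A') ⊗[A'] B') ⊗[B'] N')
        (TensorProduct.mk B' _ N' 1) s' s Q := by
  letI : Module A N := Module.compHom N (algebraMap A B)
  haveI : IsScalarTower A B N := IsScalarTower.of_algebraMap_smul fun _ _ => rfl
  obtain ⟨hpush, hbc, hle, htp, -, -, -⟩ := id hI
  obtain ⟨Φ, e, hΦ, he⟩ := exists_model_map (A := A) (B := B) (C := B) (C' := A₁ ⊗[A] B) (fun x => ⟨x, rfl⟩) hpush
    inferInstance hbc (TensorProduct.isBaseChange B N (A₁ ⊗[A] B))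
  have hcan := (exists_imp_iff Φ hΦ e he t' t).1 ⟨P, imp_of_isImpurity hI⟩
  haveI := htp
  obtain ⟨s, hs, hst, hsp⟩ := exists_prime_both p t p'
  haveI := hs
  haveI : s.LiesOver t := ⟨hst.symm⟩
  haveI : s.LiesOver p' := ⟨hsp.symm⟩
  haveI : Module.Flat A₁ (Localization.AtPrime s) := flat_localization_baseChange p' s hsp
  haveI : IsScalarTower A A' (A₁ ⊗[A] A') := IsScalarTower.of_algebraMap_eq fun a => by
    change algebraMap A A₁ a ⊗ₜ[A] (1 : A') = (1 : A₁) ⊗ₜ[A] algebraMap A A' a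
    rw [Algebra.algebraMap_eq_smul_one, Algebra.algebraMap_eq_smul_one (A := A'), smul_tmul]
  obtain ⟨s', hs', Q, hQp, hQ⟩ := exists_impurity_lift_aux (A₂ := A₁ ⊗[A] A') hf p' hle s hcan
  exact ⟨s', s, hs', hs, Q, hQp, fun hn => isEtaleNhd_tensor hn s hst hsp, hQ⟩

end Groth.Agent.RG.Pure
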