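import Groth.Agent.RG.Pure.Above
import Groth.Agent.RG.AssPts
import Groth.Agent.RG.Fibres
import Groth.Agent.RG.Content
import Groth.Agent.RG.Eft
import Mathlib.LinearAlgebra.TensorProduct.Pi
import Mathlib.RingTheory.Flat.Localization

/-!
# Modules whose associated points all meet the closed fibre, over a henselian ring
-/

set_option autoImplicit false
set_option linter.style.haveILetI false
set_option backward.isDefEq.respectTransparency false

universe u

open TensorProduct

namespace Groth.Agent.RG.Pure

theorem Ctn.finPi {A : Type u} [CommRing A] {ι : Type u} [Finite ι] (M : ι → Type u) [∀ i, AddCommGroup (M i)]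
    [∀ i, Module A (M i)] (h : ∀ i, Ctn A (M i)) : Ctn A (∀ i, M i) := by
  classical
  haveI := Fintype.ofFinite ι
  intro r x
  choose V hVfg hV using fun i => h i r fun k => x k i
  refine ⟨Finset.univ.sup V, Submodule.fg_finset_sup _ _ fun i _ => hVfg i, fun V' => ⟨fun h0 => ?_, fun hle => ?_⟩⟩
  · refine Finset.sup_le fun i _ => (hV i V').1 ?_
    rw [show (fun k => x k i) = fun k => (LinearMap.proj i : (∀ j, M j) →ₗ[A] M i) (x k) from rfl, res_map, h0,
      map_zero]
  · have hi : ∀ i, (LinearMap.proj i : (∀ j, M j) →ₗ[A] M i).rTensor _ (res V' x) = 0 := fun i => by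
      rw [← res_map]
      exact (hV i V').2 ((Finset.le_sup (Finset.mem_univ i)).trans hle)
    apply (TensorProduct.comm A _ _).injective
    apply (TensorProduct.piRight A A ((Fin r → A) ⧸ V') M).injective
    rw [map_zero, map_zero]
    funext i
    have := congrArg (TensorProduct.comm A _ _) (hi i)
    rw [map_zero] at this
    rw [Pi.zero_apply, ← this]
    generalize res V' x = z
    induction z using TensorProduct.induction_on with
    | zero => simp
    | tmul m q => simp
    | add a b ha hb => simp only [map_add, Pi.add_apply, ha, hb]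

variable {H S : Type u} [CommRing H] [HenselianLocalRing H] [CommRing S] [Algebra H S] [Algebra.FiniteType H S]

/-- over a henselian ring a module all whose associated points meet the closed fibre is flat with contents -/
theorem henselian_core (N : Type u) [AddCommGroup N] [Module S N] [Module H N] [IsScalarTower H S N] [Module.Finite S N]
    (hflat : ∀ (Q : Ideal S) [Q.IsPrime], Q.comap (algebraMap H S) = IsLocalRing.maximalIdeal H →
      Module.Flat H (LocalizedModule Q.primeCompl N))
    (hcl : ∀ (p' : Ideal H) [p'.IsPrime], ∀ σ ∈ assPts H S N p', ∃ Q : Ideal S, Q.IsPrime ∧ σ ≤ Q ∧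
      Q.comap (algebraMap H S) = IsLocalRing.maximalIdeal H) :
    Module.Flat H N ∧ Ctn H N := by
  classical
  have hflatAt : ∀ (P : Ideal S) [P.IsPrime], Module.Flat H (LocalizedModule P.primeCompl N) := by
    intro P _
    let p' := P.comap (algebraMap H S)
    refine (local_embedding H S p' P rfl fun σ _ hσ _ => ?_).1
    obtain ⟨Q, hQ, hσQ, hQm⟩ := hcl p' σ hσ
    haveI := hQ
    haveI := hflat Q hQm
    exact InjFibre.flat_localized σ.primeCompl
      (IsLocalizedModule.liftOfLE Q.primeCompl σ.primeCompl (fun t ht h => ht (hσQ h))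
        (LocalizedModule.mkLinearMap Q.primeCompl N) (LocalizedModule.mkLinearMap σ.primeCompl N))
  haveI : Module.Flat H N := Module.flat_of_isLocalized_maximal S N (fun P _ => LocalizedModule P.primeCompl N)
    (fun P _ => LocalizedModule.mkLinearMap P.primeCompl N) fun P _ => hflatAt P
  refine ⟨inferInstance, ?_⟩
  let m := IsLocalRing.maximalIdeal H
  let ι := {τ : Ideal S // τ ∈ assPts H S N m}
  haveI : Finite ι := (finite_assPts H S N m).to_subtype
  haveI := Fintype.ofFinite ι
  letI : ∀ i : ι, i.1.IsPrime := fun i => (isPrime_of_mem_assPts H S N i.2).1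
  let Bi : ι → Type u := fun i => Localization.AtPrime i.1
  let S' := ∀ i, Bi i
  haveI : ∀ i, Module.Flat S (Bi i) := fun i => IsLocalization.flat _ i.1.primeCompl
  haveI : Module.Flat S S' := Module.Flat.of_linearEquiv (DirectSum.linearEquivFunOnFintype S ι Bi).symm
  have hlift : ∀ (p : Ideal H) (q : Ideal S) [p.IsPrime] [q.IsPrime] [q.LiesOver p],
      FlatCA.fiberIdeal p q ∈ associatedPrimes (p.Fiber S) (FlatCA.fiberMod p S N) →
      ∃ q' : Ideal S', q'.IsPrime ∧ q'.comap (algebraMap S S') = q := by
    intro p q _ _ hqp hq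
    have hσ : q ∈ assPts H S N p := (mem_assPts_iff H S p q hqp.over.symm).2 hq
    obtain ⟨Q, hQ, hqQ, hQm⟩ := hcl p q hσ
    haveI := hQ
    haveI := hflatAt Q
    obtain ⟨τ, hτ, hqτ, -⟩ := exists_assPts_above H S N m p Q hQm q hσ hqQ
    let i : ι := ⟨τ, hτ⟩
    let P : Ideal (Bi i) := q.map (algebraMap S (Bi i))
    have hd : Disjoint (i.1.primeCompl : Set S) (q : Set S) := by
      rw [Set.disjoint_left]
      exact fun t ht h => ht (hqτ h)
    haveI : P.IsPrime := IsLocalization.isPrime_of_isPrime_disjoint i.1.primeCompl (Bi i) q inferInstance hd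
    refine ⟨P.comap (Pi.evalRingHom Bi i), Ideal.IsPrime.comap _, ?_⟩
    rw [Ideal.comap_comap]
    exact IsLocalization.comap_map_of_isPrime_disjoint i.1.primeCompl (Bi i) inferInstance hd
  have hX : ∀ i, Ctn H (Bi i ⊗[S] N) := fun i => by
    haveI : IsLocalHom (algebraMap H (Bi i)) := by
      refine ⟨fun a ha => ?_⟩
      by_contra hna
      have h1 : algebraMap H S a ∈ i.1 := (isPrime_of_mem_assPts H S N i.2).2.ge hna
      rw [IsScalarTower.algebraMap_apply H S (Bi i)] at ha
      exact ((IsLocalization.AtPrime.isUnit_to_map_iff (Bi i) i.1 _).1 ha) h1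
    haveI : Algebra.EssFiniteType S (Bi i) := Algebra.EssFiniteType.of_isLocalization _ i.1.primeCompl
    haveI : Algebra.EssFiniteType H (Bi i) := Algebra.EssFiniteType.comp H S (Bi i)
    haveI : Module.Flat H (Bi i ⊗[S] N) :=
      Module.Flat.of_linearEquiv ((LocalizedModule.equivTensorProduct i.1.primeCompl N).restrictScalars H).symm
    exact eft_ctn (B := Bi i) (Bi i ⊗[S] N)
  let e : S' ⊗[S] N ≃ₗ[H] ∀ i, Bi i ⊗[S] N :=
    ((TensorProduct.comm S S' N).trans ((TensorProduct.piRight S S N Bi).trans
      (LinearEquiv.piCongrRight fun i => TensorProduct.comm S N (Bi i)))).restrictScalars H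
  exact Ctn.of_pure ((TensorProduct.mk S S' N 1).restrictScalars H)
    (fun Q _ _ => univInj_baseChange N hlift Q) ((Ctn.finPi _ hX).of_equiv e)

end Groth.Agent.RG.Pure
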