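import Groth.Agent.RG.Pure.BaseChange
import Groth.Agent.RG.Pure.Henselian
import Groth.Agent.RG.MittagLeffler
import Groth.Agent.S9470
import Groth.Agent.S0584
import Groth.Agent.S0586
import Groth.Agent.Hensel.HenselizationProps
import Groth.Agent.Hensel.PointLift
import Mathlib.RingTheory.Flat.FaithfullyFlat.Basic

/-!
# Pure along the fibre and flat there implies projective at that prime
-/

set_option autoImplicit false
set_option linter.style.haveILetI false
set_option backward.isDefEq.respectTransparency false

universe u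

open TensorProduct IsLocalRing

namespace Groth.Agent.RG.Pure

attribute [local instance] Algebra.TensorProduct.rightAlgebra

section stage

variable {A : Type u} [CommRing A] (p : Ideal A) [p.IsPrime] (H : Type u) [CommRing H] [IsLocalRing H]
  [Algebra (Localization.AtPrime p) H] [IsLocalHom (algebraMap (Localization.AtPrime p) H)]
  [Hensel.IsHenselization (Localization.AtPrime p) H] [Algebra A H] [IsScalarTower A (Localization.AtPrime p) H]

theorem residue_surjective_point {E : Type u} [CommRing E] [Algebra A E] (φ : E →ₐ[A] H)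
    (q : Ideal E) [q.IsPrime] (hq : (maximalIdeal H).comap φ.toRingHom = q)
    (x : (maximalIdeal H).ResidueField) :
    ∃ hqp : p = q.comap (algebraMap A E), ∃ y : p.ResidueField,
      Ideal.ResidueField.map q (maximalIdeal H) φ.toRingHom hq.symm
        (Ideal.ResidueField.map p q (algebraMap A E) hqp y) = x := by
  have hp : p = q.comap (algebraMap A E) := by
    rw [← hq, Ideal.comap_comap]
    change _ = (maximalIdeal H).comap (φ.toRingHom.comp (algebraMap A E))
    rw [AlgHom.toRingHom_eq_coe, AlgHom.comp_algebraMap]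
    exact ((Groth.Agent.Hensel.comap_point (p := p) H)).symm
  refine ⟨hp, ?_⟩
  obtain ⟨h, rfl⟩ := Ideal.algebraMap_residueField_surjective (maximalIdeal H) x
  obtain ⟨a, ha⟩ := (Groth.Agent.Hensel.henselization_residue_bijective (Localization.AtPrime p) H).2 (residue H h)
  obtain ⟨a, rfl⟩ := residue_surjective a
  obtain ⟨r, s, rfl⟩ := IsLocalization.exists_mk'_eq p.primeCompl a
  rw [ResidueField.map_residue] at ha
  have hz : algebraMap A H r - algebraMap A H s * h ∈ maximalIdeal H := by
    have h1 : IsLocalization.mk' (Localization.AtPrime p) r s * algebraMap A _ (s : A) = algebraMap A _ r :=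
      IsLocalization.mk'_spec _ r s
    rw [IsScalarTower.algebraMap_apply A (Localization.AtPrime p) H r, ← h1, map_mul,
      ← IsScalarTower.algebraMap_apply, mul_comm, ← mul_sub]
    refine Ideal.mul_mem_left _ _ ?_
    exact (Ideal.Quotient.mk_eq_mk_iff_sub_mem _ _).1 ha
  refine ⟨algebraMap A p.ResidueField r / algebraMap A p.ResidueField (s : A), ?_⟩
  rw [map_div₀, map_div₀, Ideal.ResidueField.map_algebraMap, Ideal.ResidueField.map_algebraMap,
    Ideal.ResidueField.map_algebraMap, Ideal.ResidueField.map_algebraMap]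
  simp only [AlgHom.toRingHom_eq_coe, RingHom.coe_coe, AlgHom.commutes]
  rw [div_eq_iff, ← sub_eq_zero, ← map_mul, ← map_sub, Ideal.algebraMap_residueField_eq_zero, mul_comm]
  · exact hz
  · rw [Ne, Ideal.algebraMap_residueField_eq_zero, ← Ideal.mem_comap, (Groth.Agent.Hensel.comap_point (p := p) H)]
    exact s.2

theorem isEtaleNhd_of_point {E : Type u} [CommRing E] [Algebra A E] [Algebra.Etale A E] (φ : E →ₐ[A] H)
    (q : Ideal E) [q.IsPrime] (hq : (maximalIdeal H).comap φ.toRingHom = q) : FlatCA.IsEtaleNhd A E p q := by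
  obtain ⟨hp, -⟩ := residue_surjective_point p H φ q hq 0
  refine ⟨inferInstance, ⟨hp⟩, RingHom.injective _, fun y => ?_⟩
  obtain ⟨_, z, hz⟩ := residue_surjective_point p H φ q hq
    (Ideal.ResidueField.map q (maximalIdeal H) φ.toRingHom hq.symm y)
  exact ⟨z, (Ideal.ResidueField.map q (maximalIdeal H) φ.toRingHom hq.symm).injective hz⟩

include p in
/-- finitely many elements of the henselization come from one étale neighbourhood -/
theorem exists_stage (z : Finset H) :
    ∃ (E : Type u) (_ : CommRing E) (_ : Algebra A E) (_ : Algebra.Etale A E) (φ : E →ₐ[A] H),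
      ∀ x ∈ z, x ∈ Set.range φ := by
  classical
  induction z using Finset.induction_on with
  | empty => exact ⟨A, inferInstance, inferInstance, inferInstance, Algebra.ofId A H, by simp⟩
  | insert x z _ ih =>
    obtain ⟨E, _, _, _, φ, hφ⟩ := ih
    obtain ⟨S, _, _, _, q, _, _, -, f, s, -, hs⟩ := (Groth.Agent.S9470.result A p H).2.1 x
    refine ⟨E ⊗[A] S, inferInstance, inferInstance, ?_,
      Algebra.TensorProduct.lift φ f fun _ _ => Commute.all _ _, ?_⟩
    · exact Algebra.Etale.comp A E (E ⊗[A] S)
    intro y hy
    rcases Finset.mem_insert.1 hy with rfl | hy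
    · exact ⟨1 ⊗ₜ s, by rw [Algebra.TensorProduct.lift_tmul, map_one, one_mul, hs]⟩
    · obtain ⟨e, rfl⟩ := hφ y hy
      exact ⟨e ⊗ₜ 1, by rw [Algebra.TensorProduct.lift_tmul, map_one, mul_one]⟩

end stage

variable {A B : Type u} [CommRing A] [CommRing B] [Algebra A B]

/-- purity, unfolded at an étale neighbourhood -/
theorem exists_above_of_pure {N : Type u} [AddCommGroup N] [Module B N] [Module A N] [IsScalarTower A B N]
    {p : Ideal A} [p.IsPrime] (hpure : FlatCA.IsPureAlong A B N p) {A₁ : Type u} [CommRing A₁] [Algebra A A₁]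
    (t : Ideal A₁) [t.IsPrime] (het : FlatCA.IsEtaleNhd A A₁ p t) (t' : Ideal A₁) [t'.IsPrime] (ht' : t' ≤ t)
    (σ : Ideal (A₁ ⊗[A] B)) (hσ : σ ∈ assPts A₁ (A₁ ⊗[A] B) ((A₁ ⊗[A] B) ⊗[B] N) t') :
    ∃ Q : Ideal (A₁ ⊗[A] B), Q.IsPrime ∧ σ ≤ Q ∧ Q.comap (algebraMap A₁ (A₁ ⊗[A] B)) = t := by
  obtain ⟨hp, hc⟩ := isPrime_of_mem_assPts _ _ _ hσ
  by_contra hcon
  push Not at hcon
  obtain ⟨-, hlo, -⟩ := id het
  haveI := hp
  exact hpure A₁ (A₁ ⊗[A] B) ((A₁ ⊗[A] B) ⊗[B] N) (TensorProduct.mk B (A₁ ⊗[A] B) N 1) t' t σ het
    ⟨inferInstance, TensorProduct.isBaseChange B N _, ht', hlo, ⟨hc.symm⟩, (mem_assPts_iff _ _ t' σ hc).1 hσ,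
      fun P' _ hle hover => hcon P' inferInstance hle hover.over.symm⟩

/-- flat and pure along the fibre: projective at the prime, with the henselization abstracted -/
theorem projective_localized_aux [Algebra.FiniteType A B] (N : Type u) [AddCommGroup N] [Module B N] [Module A N]
    [IsScalarTower A B N] [Module.Finite B N] (p : Ideal A) [p.IsPrime] (H : Type u) [CommRing H] [IsLocalRing H]
    [Algebra (Localization.AtPrime p) H] [IsLocalHom (algebraMap (Localization.AtPrime p) H)]
    [Hensel.IsHenselization (Localization.AtPrime p) H]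
    (hflat : ∀ (q : Ideal B) [q.IsPrime], q.LiesOver p → FlatCA.FlatAt A q N)
    (hpure : FlatCA.IsPureAlong A B N p) :
    Module.Projective (Localization.AtPrime p) (LocalizedModule p.primeCompl N) := by
  classical
  let Ap := Localization.AtPrime p
  haveI : HenselianLocalRing H := Hensel.IsHenselization.henselian (R := Ap)
  letI : Algebra A H := ((algebraMap Ap H).comp (algebraMap A Ap)).toAlgebra
  haveI : IsScalarTower A Ap H := IsScalarTower.of_algebraMap_eq fun _ => rfl
  let S := H ⊗[A] B
  let NH := S ⊗[B] N
  haveI : Algebra.FiniteType H S := inferInstance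
  haveI : Module.Finite S NH := inferInstance
  have hover : ∀ (Q : Ideal S) [Q.IsPrime], Q.comap (algebraMap H S) = maximalIdeal H →
      (Q.comap (algebraMap B S)).comap (algebraMap A B) = p := fun Q _ hQ => by
    rw [Ideal.comap_comap, ← IsScalarTower.algebraMap_eq, IsScalarTower.algebraMap_eq A H S, ← Ideal.comap_comap, hQ]
    exact (Groth.Agent.Hensel.comap_point (p := p) H)
  obtain ⟨hflatH, hctn⟩ := henselian_core (H := H) (S := S) NH
    (fun Q _ hQ => by
      haveI : Module.Flat A (LocalizedModule (Q.comap (algebraMap B S)).primeCompl N) :=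
        hflat _ ⟨(hover Q hQ).symm⟩
      exact flatAt_baseChange (Q.comap (algebraMap B S)) Q rfl)
    (fun p' _ σ hσ => by
      haveI hσp := (isPrime_of_mem_assPts _ _ _ hσ).1
      by_contra hcon
      push Not at hcon
      have htop : σ ⊔ (maximalIdeal H).map (algebraMap H S) = ⊤ := by
        by_contra hne
        obtain ⟨M, hM, hle⟩ := Ideal.exists_le_maximal _ hne
        refine hcon M hM.isPrime (le_sup_left.trans hle) ?_
        refine ((maximalIdeal.isMaximal H).eq_of_le (Ideal.IsPrime.comap _).ne_top ?_).symm
        exact Ideal.map_le_iff_le_comap.1 (le_sup_right.trans hle)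
      obtain ⟨s, hs, w, hw, hsw⟩ := Submodule.mem_sup.1 (htop.ge (Submodule.mem_top (x := (1 : S))))
      obtain ⟨Z, hZ⟩ := TensorProduct.exists_finset s
      obtain ⟨E, _, _, _, φ, hφ⟩ := exists_stage p H (Z.image Prod.fst)
      let Φ : E ⊗[A] B →ₐ[A] S := Algebra.TensorProduct.map φ (AlgHom.id A B)
      have hsr : s ∈ Set.range Φ := by
        rw [hZ]
        change _ ∈ Φ.range
        refine sum_mem fun z hz => ?_
        obtain ⟨e, he⟩ := hφ z.1 (Finset.mem_image_of_mem _ hz)
        exact ⟨e ⊗ₜ z.2, by change Φ (e ⊗ₜ z.2) = _; rw [Algebra.TensorProduct.map_tmul, he]; rfl⟩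
      obtain ⟨s₁, hs₁⟩ := hsr
      let t : Ideal E := (maximalIdeal H).comap φ.toRingHom
      let t' : Ideal E := p'.comap φ.toRingHom
      have ht' : t' ≤ t := Ideal.comap_mono (le_maximalIdeal (‹p'.IsPrime›).ne_top)
      letI : Algebra t'.ResidueField p'.ResidueField := (Ideal.ResidueField.map t' p' φ.toRingHom rfl).toAlgebra
      letI : Algebra E p'.ResidueField := ((algebraMap H p'.ResidueField).comp φ.toRingHom).toAlgebra
      haveI : IsScalarTower A E p'.ResidueField := IsScalarTower.of_algebraMap_eq fun a => by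
        change _ = algebraMap H p'.ResidueField (φ (algebraMap A E a))
        rw [AlgHom.commutes, ← IsScalarTower.algebraMap_apply]
      haveI : IsScalarTower E t'.ResidueField p'.ResidueField := IsScalarTower.of_algebraMap_eq fun a =>
        (Ideal.ResidueField.map_algebraMap t' p' φ.toRingHom rfl a).symm
      let σ₁ : Ideal (E ⊗[A] B) := σ.comap Φ.toRingHom
      have hσ₁ : σ₁ ∈ assPts E (E ⊗[A] B) ((E ⊗[A] B) ⊗[B] N) t' :=
        mem_assPts_of_assAt (Ideal.IsPrime.comap _) ((assAt_of_mem_assPts hσ).comap_map φ fun _ => rfl)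
      obtain ⟨Q₁, hQ₁p, hle₁, hQ₁⟩ := exists_above_of_pure hpure t (isEtaleNhd_of_point p H φ t rfl) t' ht' σ₁ hσ₁
      haveI := hQ₁p
      -- the residue field of the henselization maps to that of `Q₁`
      let g : t.ResidueField →+* (maximalIdeal H).ResidueField := Ideal.ResidueField.map t (maximalIdeal H) φ.toRingHom rfl
      have hg : Function.Bijective g := ⟨g.injective, fun x => by
        obtain ⟨_, y, hy⟩ := residue_surjective_point p H φ t rfl x
        exact ⟨_, hy⟩⟩
      let ρ₀ : H →+* Q₁.ResidueField :=
        ((Ideal.ResidueField.map t Q₁ (algebraMap E (E ⊗[A] B)) hQ₁.symm).comp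
          (RingEquiv.ofBijective g hg).symm.toRingHom).comp (algebraMap H (maximalIdeal H).ResidueField)
      have hρφ : ∀ e, ρ₀ (φ e) = algebraMap E Q₁.ResidueField e := fun e => by
        have h1 : (RingEquiv.ofBijective g hg).symm (algebraMap H (maximalIdeal H).ResidueField (φ e)) =
            algebraMap E t.ResidueField e := by
          rw [RingEquiv.symm_apply_eq]
          exact (Ideal.ResidueField.map_algebraMap t _ φ.toRingHom rfl e).symm
        change Ideal.ResidueField.map t Q₁ _ _ _ = _
        rw [show ((RingEquiv.ofBijective g hg).symm.toRingHom) ((algebraMap H (maximalIdeal H).ResidueField) (φ e)) =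
          algebraMap E t.ResidueField e from h1, Ideal.ResidueField.map_algebraMap, ← IsScalarTower.algebraMap_apply]
      have hρc : ∀ a, ρ₀ (algebraMap A H a) = algebraMap A Q₁.ResidueField a := fun a => by
        rw [← AlgHom.commutes φ a, hρφ, ← IsScalarTower.algebraMap_apply]
      let ρ : H →ₐ[A] Q₁.ResidueField := { ρ₀ with commutes' := hρc }
      let ξ : S →ₐ[A] Q₁.ResidueField :=
        Algebra.TensorProduct.lift ρ ((IsScalarTower.toAlgHom A (E ⊗[A] B) Q₁.ResidueField).comp
          Algebra.TensorProduct.includeRight) fun _ _ => Commute.all _ _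
      have hξΦ : ∀ x, ξ (Φ x) = algebraMap (E ⊗[A] B) Q₁.ResidueField x := by
        intro x
        induction x using TensorProduct.induction_on with
        | zero => simp
        | tmul e b =>
          rw [Algebra.TensorProduct.map_tmul, Algebra.TensorProduct.lift_tmul]
          change ρ₀ (φ e) * algebraMap (E ⊗[A] B) Q₁.ResidueField (1 ⊗ₜ b) = _
          rw [hρφ, IsScalarTower.algebraMap_apply E (E ⊗[A] B) Q₁.ResidueField, ← map_mul]
          congr 1
          rw [Algebra.TensorProduct.algebraMap_apply, Algebra.algebraMap_self, RingHom.id_apply,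
            Algebra.TensorProduct.tmul_mul_tmul, mul_one, one_mul]
        | add a b ha hb => rw [map_add, map_add, map_add, ha, hb]
      have hs0 : ξ s = 0 := by
        rw [← hs₁, hξΦ, Ideal.algebraMap_residueField_eq_zero]
        exact hle₁ (show Φ s₁ ∈ σ by rw [hs₁]; exact hs)
      have hw0 : ξ w = 0 := by
        refine (show (maximalIdeal H).map (algebraMap H S) ≤ RingHom.ker ξ.toRingHom from
          Ideal.map_le_iff_le_comap.2 fun h hh => ?_) hw
        change ξ (h ⊗ₜ[A] (1 : B)) = 0
        rw [Algebra.TensorProduct.lift_tmul, map_one, mul_one]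
        change ρ₀ h = 0
        simp only [ρ₀, RingHom.comp_apply, Ideal.algebraMap_residueField_eq_zero.2 hh, map_zero]
      have := congrArg ξ hsw
      rw [map_add, hs0, hw0, add_zero, map_one] at this
      exact zero_ne_one this)
  -- descend from the henselization
  let Np := LocalizedModule p.primeCompl N
  let e : H ⊗[Ap] Np ≃ₗ[H] NH :=
    ((AlgebraTensorModule.congr (LinearEquiv.refl H H) (LocalizedModule.equivTensorProduct p.primeCompl N)).trans
      (AlgebraTensorModule.cancelBaseChange A Ap H H N)).trans
      (Algebra.IsPushout.cancelBaseChange A H B S N).symm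
  haveI : Module.FaithfullyFlat Ap H := Groth.Agent.Hensel.henselization_faithfullyFlat Ap H
  haveI : Module.Flat H (H ⊗[Ap] Np) := Module.Flat.of_linearEquiv e
  haveI : Module.Flat Ap Np := Module.Flat.of_flat_tensorProduct Ap Np H
  have hML : CAlg.IsMittagLeffler Ap Np :=
    Groth.Agent.S0586.result Ap H Np (isMittagLeffler_of_ctn (hctn.of_equiv e))
  refine (Groth.Agent.S0584.result Ap Np).2 ⟨inferInstance, hML, PUnit, fun _ => ⊤, ?_, fun _ => ?_⟩
  · convert (DirectSum.isInternal_submodule_iff_iSupIndep_and_iSup_eq_top (fun _ : PUnit => (⊤ : Submodule Ap Np))).2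
      ⟨iSupIndep_subsingleton _, iSup_const⟩
  · obtain ⟨n, π, hπ⟩ := Algebra.FiniteType.iff_quotient_mvPolynomial''.1 (inferInstance : Algebra.FiniteType A B)
    obtain ⟨r, ψ, hψ⟩ := Module.Finite.exists_fin' B N
    let f : (Fin n →₀ ℕ) × Fin r → Np := fun mk =>
      LocalizedModule.mk (ψ (Pi.single mk.2 (π (MvPolynomial.monomial mk.1 1)))) 1
    have hspan : Submodule.span Ap (Set.range f) = ⊤ := by
      have h1 : ∀ x : N, LocalizedModule.mk x 1 ∈ Submodule.span Ap (Set.range f) := by
        intro x
        obtain ⟨v, rfl⟩ := hψ x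
        rw [← Finset.univ_sum_single v, map_sum]
        have hadd : ∀ a b : N, LocalizedModule.mk (a + b) (1 : p.primeCompl) =
            LocalizedModule.mk a 1 + LocalizedModule.mk b 1 := fun a b => map_add (LocalizedModule.mkLinearMap _ N) a b
        refine Finset.sum_induction (fun i => ψ (Pi.single i (v i)))
          (fun y => LocalizedModule.mk y 1 ∈ Submodule.span Ap (Set.range f)) (fun a b ha hb => ?_) ?_ fun i _ => ?_
        · rw [hadd]; exact add_mem ha hb
        · rw [LocalizedModule.zero_mk]; exact zero_mem _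
        · obtain ⟨P, hP⟩ := hπ (v i)
          rw [← hP]
          clear hP
          induction P using MvPolynomial.induction_on' with
          | monomial m a =>
            rw [show MvPolynomial.monomial m a = a • MvPolynomial.monomial m (1 : A) by rw [MvPolynomial.smul_monomial, smul_eq_mul, mul_one], map_smul,
              Pi.single_smul, LinearMap.map_smul_of_tower, ← LocalizedModule.smul'_mk, ← algebraMap_smul Ap a]
            exact Submodule.smul_mem _ _ (Submodule.subset_span ⟨(m, i), rfl⟩)
          | add P Q hP hQ => rw [map_add, Pi.single_add, map_add, hadd]; exact add_mem hP hQ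
      refine eq_top_iff.2 fun y _ => ?_
      obtain ⟨x, s, rfl⟩ := exists_mk y
      rw [show LocalizedModule.mk x s = Localization.mk 1 s • LocalizedModule.mk x (1 : p.primeCompl) by
        rw [LocalizedModule.mk_smul_mk, one_smul, mul_one]]
      exact Submodule.smul_mem _ _ (h1 x)
    refine ⟨Set.range fun mk => (⟨f mk, trivial⟩ : (⊤ : Submodule Ap Np)), Set.countable_range _, ?_⟩
    apply Submodule.map_injective_of_injective (⊤ : Submodule Ap Np).injective_subtype
    rw [Submodule.map_span, ← Set.range_comp, Submodule.map_subtype_top]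
    exact hspan

set_option backward.isDefEq.respectTransparency true in
/-- flat and pure along the fibre: projective at the prime -/
theorem projective_localized [Algebra.FiniteType A B] (N : Type u) [AddCommGroup N] [Module B N] [Module A N]
    [IsScalarTower A B N] [Module.Finite B N] (p : Ideal A) [p.IsPrime]
    (hflat : ∀ (q : Ideal B) [q.IsPrime], q.LiesOver p → FlatCA.FlatAt A q N)
    (hpure : FlatCA.IsPureAlong A B N p) :
    Module.Projective (Localization.AtPrime p) (LocalizedModule p.primeCompl N) := by
  obtain ⟨hloc, hhens⟩ := Groth.Agent.Hensel.exists_henselization (Localization.AtPrime p)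
  haveI := hloc
  haveI := hhens
  exact projective_localized_aux N p
    (Groth.Agent.Hensel.Env (Localization.AtPrime p) (ResidueField (Localization.AtPrime p))) hflat hpure

end Groth.Agent.RG.Pure
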