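import Groth.Agent.PureFib.Projective
import Mathlib.RingTheory.Localization.AtPrime.Basic

/-!
# Projective at a prime implies universally pure along the fibre
-/

set_option autoImplicit false
set_option linter.style.haveILetI false
set_option backward.isDefEq.respectTransparency false

namespace Groth.Agent.RG.Pure

universe u

attribute [local instance] Algebra.TensorProduct.rightAlgebra

open TensorProduct Groth.Agent.PureFib

/-- the criterion for injectivity on a field over `t`, for modules which are projective at `t` -/
theorem lTensor_injective_local {A : Type u} [CommRing A] (t : Ideal A) [t.IsPrime] {K : Type u} [Field K] [Algebra A K]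
    (hK : ∀ a, algebraMap A K a = 0 → a ∈ t) {V : Type u} [AddCommGroup V] [Module A V]
    [Module.Projective (Localization.AtPrime t) (Localization.AtPrime t ⊗[A] V)]
    (φ : V →ₗ[A] V) {s : A} (hs : s ∉ t) (hφ : ∀ v, φ v - s • v ∈ t • (⊤ : Submodule A V)) :
    Function.Injective (φ.lTensor K) := by
  let L := Localization.AtPrime t
  have hu : ∀ c : t.primeCompl, IsUnit (algebraMap A K c) := fun c => isUnit_iff_ne_zero.2 fun h => c.2 (hK _ h)
  letI : Algebra L K := (IsLocalization.lift (S := L) hu).toAlgebra
  haveI : IsScalarTower A L K := IsScalarTower.of_algebraMap_eq fun a => (IsLocalization.lift_eq hu a).symm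
  let m := IsLocalRing.maximalIdeal L
  have hKm : ∀ a, algebraMap L K a = 0 → a ∈ m := fun a ha h => by
    have := h.map (algebraMap L K)
    rw [ha] at this
    exact not_isUnit_zero this
  let ψ : L ⊗[A] V →ₗ[L] L ⊗[A] V := φ.baseChange L
  have hs' : algebraMap A L s ∉ m := fun h => hs ((IsLocalization.AtPrime.to_map_mem_maximal_iff L t s).1 h)
  have hψ : ∀ v, ψ v - algebraMap A L s • v ∈ m • (⊤ : Submodule L (L ⊗[A] V)) := by
    intro v
    induction v using TensorProduct.induction_on with
    | zero => simp
    | tmul l x =>
      rw [LinearMap.baseChange_tmul, algebraMap_smul, ← tmul_smul, ← tmul_sub]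
      have hx := Submodule.mem_map_of_mem (f := TensorProduct.mk A L V l) (hφ x)
      rw [Submodule.map_smul''] at hx
      refine Submodule.smul_induction_on (p := fun z => z ∈ m • (⊤ : Submodule L (L ⊗[A] V))) hx (fun a ha y _ => ?_) fun _ _ => add_mem
      rw [← algebraMap_smul L a y]
      exact Submodule.smul_mem_smul ((IsLocalization.AtPrime.to_map_mem_maximal_iff L t a).2 ha) trivial
    | add a b ha hb => rw [map_add, smul_add, add_sub_add_comm]; exact add_mem ha hb
  have h1 : Function.Injective (ψ.lTensor K) := lTensor_injective m hKm ψ hs' hψ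
  let e : K ⊗[L] (L ⊗[A] V) ≃ₗ[K] K ⊗[A] V := AlgebraTensorModule.cancelBaseChange A L K K V
  have key : ∀ z, e (ψ.lTensor K z) = φ.lTensor K (e z) := by
    intro z
    induction z using TensorProduct.induction_on with
    | zero => simp
    | tmul k w =>
      induction w using TensorProduct.induction_on with
      | zero => simp
      | tmul l x => simp [e, ψ]
      | add a b ha hb => simp only [tmul_add, map_add, ha, hb]
    | add a b ha hb => simp only [map_add, ha, hb]
  intro a b hab
  have h2 : ψ.lTensor K (e.symm a) = ψ.lTensor K (e.symm b) :=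
    e.injective (by rw [key, key, e.apply_symm_apply, e.apply_symm_apply, hab])
  exact e.symm.injective (h1 h2)

/-- a module projective at `p` is universally pure along the fibre at `p` -/
theorem isUnivPureAlong_of_projective {A B : Type u} [CommRing A] [CommRing B] [Algebra A B] (N : Type u)
    [AddCommGroup N] [Module B N] [Module A N] [IsScalarTower A B N] (p : Ideal A) [p.IsPrime]
    [Module.Projective (Localization.AtPrime p) (LocalizedModule p.primeCompl N)] :
    FlatCA.IsUnivPureAlong A B N p := by
  intro A' B' N' _ _ _ _ _ _ _ _ _ _ _ _ _ _ f t' t _ _ P _ h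
  obtain ⟨hpush, hbc, hle, htp, _, hass, hno⟩ := h
  haveI : Algebra.IsPushout A A' B B' := hpush.symm
  let L := Localization.AtPrime t
  let Ap := Localization.AtPrime p
  let g : Ap →+* L := Localization.localRingHom p t (algebraMap A A') htp.over
  letI : Algebra Ap L := g.toAlgebra
  haveI : IsScalarTower A Ap L := IsScalarTower.of_algebraMap_eq fun a => by
    rw [RingHom.algebraMap_toAlgebra, Localization.localRingHom_to_map, IsScalarTower.algebraMap_apply A A' L]
  haveI : Module.Projective L (L ⊗[A'] N') :=
    Module.Projective.of_equiv (((AlgebraTensorModule.congr (LinearEquiv.refl L L)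
        (LocalizedModule.equivTensorProduct p.primeCompl N)).trans (AlgebraTensorModule.cancelBaseChange A Ap L L N)).trans
      ((AlgebraTensorModule.cancelBaseChange A A' L L N).symm.trans
        (AlgebraTensorModule.congr (LinearEquiv.refl L L)
          (((Algebra.IsPushout.cancelBaseChange A A' B B' N).symm.trans (hbc.equiv.restrictScalars A'))))))
  obtain ⟨s, hst, u, huP, τ, hτ, hsum⟩ : ∃ s : A', s ∉ t ∧ ∃ u ∈ P, ∃ τ ∈ t.map (algebraMap A' B'),
      u + τ = algebraMap A' B' s := by
    by_contra hcon
    push Not at hcon
    obtain ⟨P', hP', hle', hdis⟩ := (P ⊔ t.map (algebraMap A' B')).exists_le_prime_disjoint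
      (Submonoid.map (algebraMap A' B') t.primeCompl) (by
        rw [Set.disjoint_left]
        rintro z hz ⟨s, hs, rfl⟩
        obtain ⟨u, hu, τ, hτ, e⟩ := Submodule.mem_sup.1 hz
        exact hcon s hs u hu τ hτ e)
    refine hno P' (le_sup_left.trans hle') ⟨le_antisymm (fun a ha => ?_) fun a ha => ?_⟩
    · exact hle' (Ideal.mem_sup_right (Ideal.mem_map_of_mem _ ha))
    · by_contra hat
      exact Set.disjoint_left.1 hdis ha ⟨a, hat, rfl⟩
  obtain ⟨hprime, x, hx⟩ := hass
  have hu : (1 : t'.ResidueField) ⊗ₜ[A'] u ∈ FlatCA.fiberIdeal t' P :=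
    Ideal.mem_map_of_mem _ huP
  rw [hx] at hu
  obtain ⟨n, hn⟩ := hu
  rw [Submodule.mem_colon_singleton, Submodule.mem_bot] at hn
  let φ : N' →ₗ[A'] N' := (LinearMap.lsmul B' N' u).restrictScalars A'
  have hφ : ∀ v, φ v - s • v ∈ t • (⊤ : Submodule A' N') := by
    intro v
    show u • v - s • v ∈ _
    rw [← IsScalarTower.algebraMap_smul B' s v, ← sub_smul,
      show u - algebraMap A' B' s = -τ by rw [← hsum]; ring, neg_smul]
    refine Submodule.neg_mem _ ?_
    have hgen : ∀ z ∈ t.map (algebraMap A' B'), ∀ v : N', z • v ∈ t • (⊤ : Submodule A' N') := by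
      intro z hz
      induction hz using Submodule.span_induction with
      | mem z hz =>
        obtain ⟨a, ha, rfl⟩ := hz
        intro v
        rw [IsScalarTower.algebraMap_smul]
        exact Submodule.smul_mem_smul ha trivial
      | zero => intro v; rw [zero_smul]; exact zero_mem _
      | add a b _ _ ha hb => intro v; rw [add_smul]; exact add_mem (ha v) (hb v)
      | smul a b _ hb => intro v; rw [smul_eq_mul, mul_comm, mul_smul]; exact hb (a • v)
    exact hgen τ hτ v
  have hinj : Function.Injective (φ.lTensor t'.ResidueField) :=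
    lTensor_injective_local t (fun a ha => hle (Ideal.algebraMap_residueField_eq_zero.1 ha)) φ hst hφ
  have hzero : ∀ (k : ℕ) (z : TensorProduct B' (t'.Fiber B') N'),
      ((1 : t'.ResidueField) ⊗ₜ[A'] u : t'.Fiber B') ^ k • z = 0 → z = 0 := by
    intro k
    induction k with
    | zero => intro z hz; simpa using hz
    | succ k ih =>
      intro z hz
      rw [pow_succ, mul_smul] at hz
      have h1 := ih _ hz
      have h2 := toBase_mul t' B' N' u z
      rw [h1, map_zero] at h2
      exact toBase_injective t' B' N' ((hinj (h2.symm.trans (map_zero _).symm)).trans (map_zero _).symm)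
  have hx0 : x = (0 : TensorProduct B' (t'.Fiber B') N') := hzero n x hn
  refine hprime.ne_top ?_
  rw [hx, eq_top_iff]
  intro z _
  refine Ideal.le_radical ?_
  rw [Submodule.mem_colon_singleton, Submodule.mem_bot]
  rw [show x = 0 from hx0]
  exact smul_zero _

end Groth.Agent.RG.Pure
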