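import Groth.Agent.RG.Pure.Above
import Groth.Agent.RG.Fibres
import Mathlib.RingTheory.Etale.Basic

/-!
# Purity at the trivial étale neighbourhood
-/

set_option autoImplicit false
set_option linter.style.haveILetI false
set_option backward.isDefEq.respectTransparency false

universe u

open TensorProduct

namespace Groth.Agent.RG.Pure

variable {A B : Type u} [CommRing A] [CommRing B] [Algebra A B]

theorem isEtaleNhd_self (p : Ideal A) [p.IsPrime] : FlatCA.IsEtaleNhd A A p p := by
  refine ⟨inferInstance, ⟨(Ideal.comap_id p).symm⟩, RingHom.injective _, fun y => ?_⟩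
  obtain ⟨r, s, hs, rfl⟩ : ∃ r s : A, s ∉ p ∧ algebraMap A p.ResidueField r / algebraMap A _ s = y := by
    obtain ⟨a, rfl⟩ := IsLocalRing.residue_surjective y
    obtain ⟨r, s, rfl⟩ := IsLocalization.exists_mk'_eq p.primeCompl a
    refine ⟨r, s, s.2, (div_eq_iff fun h => s.2 (Ideal.algebraMap_residueField_eq_zero.1 h)).2 ?_⟩
    change IsLocalRing.residue _ (algebraMap A (Localization.AtPrime p) r) =
      IsLocalRing.residue _ (IsLocalization.mk' _ r s) * IsLocalRing.residue _ (algebraMap A (Localization.AtPrime p) (s : A))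
    rw [← map_mul, IsLocalization.mk'_spec]
  exact ⟨algebraMap A p.ResidueField r / algebraMap A _ s, by rw [map_div₀]; simp⟩

/-- points associated in fibres below a pure fibre specialise into it -/
theorem exists_over_of_pure {N : Type u} [AddCommGroup N] [Module B N] [Module A N] [IsScalarTower A B N]
    {p : Ideal A} [p.IsPrime] (hpure : FlatCA.IsPureAlong A B N p) (p' : Ideal A) [p'.IsPrime] (hle : p' ≤ p)
    (σ : Ideal B) (hσ : σ ∈ assPts A B N p') :
    ∃ Q : Ideal B, Q.IsPrime ∧ σ ≤ Q ∧ Q.comap (algebraMap A B) = p := by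
  obtain ⟨hp, hc⟩ := isPrime_of_mem_assPts _ _ _ hσ
  haveI := hp
  by_contra hcon
  push Not at hcon
  have h0 : Algebra.IsPushout A A B B := ⟨IsBaseChange.ofEquiv (LinearEquiv.refl A B)⟩
  haveI h1 : Algebra.IsPushout A B A B := h0.symm
  exact hpure A B N (LinearMap.id : N →ₗ[B] N) p' p σ (isEtaleNhd_self p)
    ⟨h1, IsBaseChange.ofEquiv (LinearEquiv.refl B N), hle, ⟨(Ideal.comap_id p).symm⟩, ⟨hc.symm⟩, (mem_assPts_iff _ _ p' σ hc).1 hσ,
      fun P' _ hle hover => hcon P' inferInstance hle hover.over.symm⟩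

end Groth.Agent.RG.Pure
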