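import Groth.Agent.RG.Pure.DescentFlat
import Groth.Agent.RG.Pure.Descent
import Groth.Agent.RG.Pure.Trivial
import Groth.Agent.RG.Loc.DescendPure
import Groth.Agent.UnramLib.FlatUnram

/-!
Purity read on an étale covering piece over an étale neighbourhood.
-/

set_option autoImplicit false
set_option linter.style.haveILetI false
set_option backward.isDefEq.respectTransparency false

universe u

open TensorProduct

namespace Groth.Agent.RG.Pure

attribute [local instance] Algebra.TensorProduct.rightAlgebra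

/-- a vector killed in a flat base change is killed by an element outside any prime with a point above it -/
theorem exists_notMem_smul_eq_zero {S S' V : Type u} [CommRing S] [CommRing S'] [Algebra S S'] [Module.Flat S S']
    [AddCommGroup V] [Module S V] {z : V} (hz : (1 : S') ⊗ₜ[S] z = 0) (Q' : Ideal S') [Q'.IsPrime] :
    ∃ w ∉ Q'.comap (algebraMap S S'), w • z = 0 := by
  by_contra hcon
  push Not at hcon
  let g : S →ₗ[S] V := LinearMap.toSpanSingleton S V z
  let I := LinearMap.ker g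
  have hex : Function.Exact I.subtype g := LinearMap.exact_subtype_ker_map g
  have h1 : g.lTensor S' ((1 : S') ⊗ₜ[S] (1 : S)) = 0 := by
    rw [LinearMap.lTensor_tmul, LinearMap.toSpanSingleton_apply, one_smul, hz]
  obtain ⟨w, hw⟩ := (Module.Flat.lTensor_exact S' hex _).1 h1
  have hI : ∀ w : S' ⊗[S] I, TensorProduct.rid S S' (I.subtype.lTensor S' w) ∈ Q' := by
    intro w
    induction w using TensorProduct.induction_on with
    | zero => simp
    | tmul a i =>
      rw [LinearMap.lTensor_tmul, TensorProduct.rid_tmul, Algebra.smul_def]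
      refine Q'.mul_mem_right _ ?_
      by_contra hi
      exact hcon _ hi (LinearMap.mem_ker.1 i.2)
    | add a b ha hb => rw [map_add, map_add]; exact add_mem ha hb
  refine (‹Q'.IsPrime›).ne_top ((Ideal.eq_top_iff_one _).2 ?_)
  have := hI w
  rw [hw, TensorProduct.rid_tmul, one_smul] at this
  exact this

/-- associated points of fibres go up along flat base changes of the module -/
theorem exists_assPts_flat {R S S' N N' : Type u} [CommRing R] [CommRing S] [Algebra R S] [AddCommGroup N] [Module S N]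
    [Module R N] [IsScalarTower R S N] [CommRing S'] [Algebra R S'] [Algebra S S'] [IsScalarTower R S S']
    [Module.Flat S S'] [Algebra.FiniteType R S'] [AddCommGroup N'] [Module S' N'] [Module S N'] [IsScalarTower S S' N']
    [Module R N'] [IsScalarTower R S' N'] {f : N →ₗ[S] N'} (hf : IsBaseChange S' f) (p : Ideal R) [p.IsPrime]
    {σ : Ideal S} (hσ : σ ∈ assPts R S N p) (Q' : Ideal S') [Q'.IsPrime] (hQ' : Q'.comap (algebraMap S S') = σ) :
    ∃ σ' ∈ assPts R S' N' p, σ'.comap (algebraMap S S') = σ := by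
  obtain ⟨hσp, hσc⟩ := isPrime_of_mem_assPts R S N hσ
  haveI := hσp
  obtain ⟨n, hn, hns⟩ := exists_vector_of_assAt hσp (assAt_of_mem_assPts hσ)
  let J : Submodule S N := (p.map (algebraMap R S)) • ⊤
  have hJ : ∀ x, x ∈ J ↔ x ∈ p • (⊤ : Submodule R N) := fun x => by
    rw [← Submodule.restrictScalars_mem R, Ideal.smul_restrictScalars, Submodule.restrictScalars_top]
  let ψ : N' →ₗ[S'] S' ⊗[S] (N ⧸ J) := hf.lift ((TensorProduct.mk S S' (N ⧸ J) 1) ∘ₗ J.mkQ)
  have hψ : ∀ x, ψ (f x) = (1 : S') ⊗ₜ[S] J.mkQ x := fun x => hf.lift_eq _ x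
  have hkill : ∀ a ∈ p, ∀ v : S' ⊗[S] (N ⧸ J), algebraMap R S' a • v = 0 := by
    intro a ha v
    induction v using TensorProduct.induction_on with
    | zero => simp
    | tmul x m =>
      obtain ⟨m, rfl⟩ := J.mkQ_surjective m
      rw [IsScalarTower.algebraMap_apply R S S', algebraMap_smul, ← tmul_smul, ← map_smul]
      rw [show J.mkQ (algebraMap R S a • m) = 0 from (Submodule.Quotient.mk_eq_zero _).2
        (Submodule.smul_mem_smul (Ideal.mem_map_of_mem _ ha) trivial), tmul_zero]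
    | add x y hx hy => rw [smul_add, hx, hy, add_zero]
  have hψ0 : ∀ y ∈ p • (⊤ : Submodule R N'), ψ y = 0 := by
    intro y hy
    induction hy using Submodule.smul_induction_on' with
    | smul a ha x _ => rw [← algebraMap_smul S' a x, map_smul, hkill a ha]
    | add x _ y _ hx hy => rw [map_add, hx, hy, add_zero]
  let y : p.ResidueField ⊗[R] N' := 1 ⊗ₜ[R] f n
  refine exists_assPts_of_vector p y (algebraMap S S') σ fun x => ?_
  have hact : ∀ t : S, act R p.ResidueField (algebraMap S S' t) y = 1 ⊗ₜ[R] f (t • n) := fun t => by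
    rw [act_tmul, algebraMap_smul, map_smul]
  simp only [hact]
  constructor
  · intro hx
    obtain ⟨k, c, hc, hck⟩ := hns x hx
    refine ⟨k, (one_tmul_eq_zero_iff p _).2 ⟨c, hc, ?_⟩⟩
    have hcf : f (c • (x ^ k • n)) = c • f (x ^ k • n) := by
      rw [← algebraMap_smul S c (x ^ k • n), map_smul, ← algebraMap_smul S' (algebraMap R S c) (f _),
        ← IsScalarTower.algebraMap_apply, algebraMap_smul]
    rw [← hcf]
    rw [← hJ] at hck
    generalize c • (x ^ k • n) = v at hck
    induction hck using Submodule.smul_induction_on' with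
    | smul a ha z _ =>
      rw [map_smul, ← algebraMap_smul S' a]
      have : ∀ b ∈ p.map (algebraMap R S), ∀ w : N', algebraMap S S' b • w ∈ p • (⊤ : Submodule R N') := by
        intro b hb
        induction hb using Submodule.span_induction with
        | mem b hb =>
          obtain ⟨r, hr, rfl⟩ := hb
          intro w
          rw [← IsScalarTower.algebraMap_apply, algebraMap_smul]
          exact Submodule.smul_mem_smul hr trivial
        | zero => intro w; rw [map_zero, zero_smul]; exact zero_mem _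
        | add b₁ b₂ _ _ h₁ h₂ => intro w; rw [map_add, add_smul]; exact add_mem (h₁ w) (h₂ w)
        | smul b₁ b₂ _ h₂ => intro w; rw [smul_eq_mul, map_mul, mul_comm, mul_smul]; exact h₂ _
      exact this a ha _
    | add u _ v _ hu hv => rw [map_add]; exact add_mem hu hv
  · rintro ⟨k, hk⟩
    obtain ⟨c, hc, hck⟩ := (one_tmul_eq_zero_iff p _).1 hk
    have h1 : (1 : S') ⊗ₜ[S] J.mkQ (algebraMap R S c • (x ^ k • n)) = 0 := by
      rw [← hψ, map_smul, ← algebraMap_smul S' (algebraMap R S c) (f _), ← IsScalarTower.algebraMap_apply,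
        algebraMap_smul]
      exact hψ0 _ hck
    obtain ⟨w, hw, hw0⟩ := exists_notMem_smul_eq_zero h1 Q'
    rw [hQ'] at hw
    rw [← map_smul, Submodule.mkQ_apply, Submodule.Quotient.mk_eq_zero, smul_smul, smul_smul, hJ] at hw0
    by_contra hx
    refine hn _ ?_ hw0
    refine fun h => ((hσp.mem_or_mem h).elim (fun h => (hσp.mem_or_mem h).elim hw fun h => hc (hσc.le h))
      fun h => hx (hσp.mem_of_pow_mem k h))

/-- the standard model of a base change maps isomorphically to any model -/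
theorem exists_model_equiv {A B N A' BA NA : Type u} [CommRing A] [CommRing B] [Algebra A B] [AddCommGroup N]
    [Module B N] [Module A N] [IsScalarTower A B N] [CommRing A'] [Algebra A A'] [CommRing BA] [Algebra B BA]
    [Algebra A' BA] [Algebra A BA] [IsScalarTower A B BA] [IsScalarTower A A' BA] [Algebra.IsPushout A B A' BA]
    [AddCommGroup NA] [Module BA NA] [Module B NA] [IsScalarTower B BA NA] [Module A' NA] [IsScalarTower A' BA NA]
    {fA : N →ₗ[B] NA} (hfA : IsBaseChange BA fA) :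
    ∃ (Φ : A' ⊗[A] B ≃ₐ[A'] BA) (e : (A' ⊗[A] B) ⊗[B] N ≃ₗ[A'] NA),
      (∀ b : B, Φ ((1 : A') ⊗ₜ b) = algebraMap B BA b) ∧ ∀ (s : A' ⊗[A] B) x, e (s • x) = Φ s • e x := by
  haveI : Algebra.IsPushout A A' B BA := Algebra.IsPushout.symm inferInstance
  letI : Module A NA := Module.compHom NA (algebraMap A A')
  haveI : IsScalarTower A A' NA := IsScalarTower.of_algebraMap_smul fun _ _ => rfl
  haveI : IsScalarTower A B NA := IsScalarTower.of_algebraMap_smul fun a n => by
    rw [← algebraMap_smul BA (algebraMap A B a) n, ← IsScalarTower.algebraMap_apply,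
      IsScalarTower.algebraMap_apply A A' BA, algebraMap_smul]; rfl
  let Φ : A' ⊗[A] B ≃ₐ[A'] BA := Algebra.IsPushout.equiv A A' B BA
  have hΦb : ∀ b : B, Φ ((1 : A') ⊗ₜ b) = algebraMap B BA b := fun b => by
    simp only [Φ, Algebra.IsPushout.equiv_tmul, map_one, one_mul]
  have hb : IsBaseChange A' (fA.restrictScalars A) := isBaseChange_left hfA
  let ec : (A' ⊗[A] B) ⊗[B] N ≃ₗ[A'] A' ⊗[A] N := Algebra.IsPushout.cancelBaseChange A A' B (A' ⊗[A] B) N
  let e := ec ≪≫ₗ hb.equiv
  have he1 : ∀ n : N, e ((1 : A' ⊗[A] B) ⊗ₜ n) = fA n := fun n => by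
    simp [e, ec, Algebra.IsPushout.cancelBaseChange_tmul, IsBaseChange.equiv_tmul]
  refine ⟨Φ, e, hΦb, fun s x => ?_⟩
  induction s using TensorProduct.induction_on with
  | zero => simp
  | add u v hu hv => simp only [map_add, add_smul, hu, hv]
  | tmul a b =>
    induction x using TensorProduct.induction_on with
    | zero => simp
    | add x y hx hy => simp only [smul_add, map_add, hx, hy]
    | tmul z n =>
      induction z using TensorProduct.induction_on with
      | zero => simp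
      | add z w hz hw => simp only [add_tmul, smul_add, map_add, hz, hw]
      | tmul c d =>
        have hmove : ∀ (c : A') (d : B), ((c ⊗ₜ[A] d : A' ⊗[A] B) ⊗ₜ[B] n) = c • ((1 : A' ⊗[A] B) ⊗ₜ[B] (d • n)) := by
          intro c d
          rw [← smul_tmul, smul_tmul', Algebra.smul_def, Algebra.smul_def]
          congr 1
          change _ = (c ⊗ₜ[A] (1 : B)) * ((1 : A') ⊗ₜ[A] d * 1)
          rw [mul_one, Algebra.TensorProduct.tmul_mul_tmul, mul_one, one_mul]
        have hΦt : ∀ (c : A') (d : B), Φ (c ⊗ₜ[A] d) = algebraMap A' BA c * algebraMap B BA d := fun c d => by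
          simp only [Φ, Algebra.IsPushout.equiv_tmul]
        rw [smul_tmul', smul_eq_mul, Algebra.TensorProduct.tmul_mul_tmul, hmove, hmove, map_smul, map_smul, he1, he1,
          hΦt, map_smul fA, map_smul fA, ← algebraMap_smul BA (a * c), ← algebraMap_smul BA (b * d),
          ← algebraMap_smul BA c, ← algebraMap_smul BA d, smul_smul, smul_smul, smul_smul, map_mul, map_mul]
        congr 1
        ring

/-- associated points in the two models -/
theorem assPts_map_equiv {A' S₁ S₂ N₁ N₂ : Type u} [CommRing A'] [CommRing S₁] [CommRing S₂] [Algebra A' S₁]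
    [Algebra A' S₂] [AddCommGroup N₁] [Module S₁ N₁] [Module A' N₁] [IsScalarTower A' S₁ N₁] [AddCommGroup N₂]
    [Module S₂ N₂] [Module A' N₂] [IsScalarTower A' S₂ N₂] (Φ : S₁ ≃ₐ[A'] S₂) (e : N₁ ≃ₗ[A'] N₂)
    (he : ∀ (s : S₁) x, e (s • x) = Φ s • e x) (p : Ideal A') [p.IsPrime] {σ : Ideal S₁}
    (hσ : σ ∈ assPts A' S₁ N₁ p) : σ.comap (Φ.symm : S₂ →+* S₁) ∈ assPts A' S₂ N₂ p := by
  let K := p.ResidueField
  let eK : K ⊗[A'] N₁ ≃ₗ[K] K ⊗[A'] N₂ := AlgebraTensorModule.congr (LinearEquiv.refl K K) e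
  have heK : ∀ (s : S₁) y, eK (act A' K s y) = act A' K (Φ s) (eK y) := by
    intro s y
    induction y using TensorProduct.induction_on with
    | zero => simp
    | tmul k n => simp [eK, act_tmul, he]
    | add a b ha hb => simp only [map_add, ha, hb]
  haveI := (isPrime_of_mem_assPts A' S₁ N₁ hσ).1
  refine mem_assPts_of_assAt (K := K) (Ideal.IsPrime.comap _) ((assAt_of_mem_assPts hσ).transfer _ eK fun s y => ?_)
  rw [heK]
  simp

/-- pure along the fibre: the associated points over the nearby points of an étale neighbourhood lie in the image -/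
theorem exists_over_of_pure_cover {A B A' B' N : Type u} [CommRing A] [CommRing B] [Algebra A B] [Algebra.FiniteType A B]
    [AddCommGroup N] [Module B N] [Module A N] [IsScalarTower A B N] [Module.Finite B N] [CommRing A'] [Algebra A A']
    [CommRing B'] [Algebra B B'] [Algebra A' B'] [Algebra (A' ⊗[A] B) B'] [IsScalarTower B (A' ⊗[A] B) B']
    [IsScalarTower A' (A' ⊗[A] B) B'] [Module.Flat (A' ⊗[A] B) B'] {p : Ideal A} [p.IsPrime]
    (hflat : ∀ (q : Ideal B) [q.IsPrime], q.LiesOver p → FlatCA.FlatAt A q N) (p' : Ideal A') [p'.IsPrime]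
    (het : FlatCA.IsEtaleNhd A A' p p') (hpure : FlatCA.IsPureAlong A B N p)
    (hcov : ∀ q ∈ assPts A B N p, ∃ q' : Ideal B', q'.IsPrime ∧ q'.comap (algebraMap B B') = q ∧
      q'.comap (algebraMap A' B') = p')
    (t' : Ideal A') [t'.IsPrime] (ht' : t' ≤ p') (σ : Ideal (A' ⊗[A] B))
    (hσ : σ ∈ assPts A' (A' ⊗[A] B) ((A' ⊗[A] B) ⊗[B] N) t') :
    ∃ Q' : Ideal B', Q'.IsPrime ∧ Q'.comap (algebraMap (A' ⊗[A] B) B') = σ := by
  obtain ⟨Q, hQ, hσQ, hQp'⟩ := exists_above_of_pure hpure p' het t' ht' σ hσ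
  haveI := hQ
  haveI := het.2.choose
  have hover : (Q.comap (algebraMap B (A' ⊗[A] B))).comap (algebraMap A B) = p := by
    rw [Ideal.comap_comap, ← IsScalarTower.algebraMap_eq, IsScalarTower.algebraMap_eq A A' (A' ⊗[A] B),
      ← Ideal.comap_comap, hQp']
    exact (Ideal.over_def p' p).symm
  haveI : Module.Flat A (LocalizedModule (Q.comap (algebraMap B (A' ⊗[A] B))).primeCompl N) := hflat _ ⟨hover.symm⟩
  haveI := flatAt_baseChange (A' := A') (N := N) (Q.comap (algebraMap B (A' ⊗[A] B))) Q rfl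
  obtain ⟨τ, hτ, hστ, -⟩ := exists_assPts_above A' (A' ⊗[A] B) ((A' ⊗[A] B) ⊗[B] N) p' t' Q hQp' σ hσ hσQ
  obtain ⟨hτp, hτc⟩ := isPrime_of_mem_assPts _ _ _ hτ
  haveI := hτp
  letI : Algebra p.ResidueField p'.ResidueField :=
    (Ideal.ResidueField.map p p' (algebraMap A A') (Ideal.over_def p' p)).toAlgebra
  haveI : IsScalarTower A p.ResidueField p'.ResidueField := IsScalarTower.of_algebraMap_eq fun x => by
    rw [RingHom.algebraMap_toAlgebra, Ideal.ResidueField.map_algebraMap, ← IsScalarTower.algebraMap_apply]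
  have hq : τ.comap (algebraMap B (A' ⊗[A] B)) ∈ assPts A B N p :=
    mem_assPts_of_assAt (Ideal.IsPrime.comap _) (AssAt.comap_right (assAt_of_mem_assPts hτ))
  obtain ⟨q', hq', hq'B, hq'A⟩ := hcov _ hq
  haveI := hq'
  haveI : (q'.comap (algebraMap (A' ⊗[A] B) B')).IsPrime := Ideal.IsPrime.comap _
  have hqτ : q'.comap (algebraMap (A' ⊗[A] B) B') = τ := Loc.eq_of_nhd het _ τ
    (by rw [Ideal.comap_comap, ← IsScalarTower.algebraMap_eq, hq'A]) hτc
    (by rw [Ideal.comap_comap, ← IsScalarTower.algebraMap_eq, hq'B])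
  haveI : q'.LiesOver τ := ⟨hqτ.symm⟩
  haveI := (isPrime_of_mem_assPts _ _ _ hσ).1
  obtain ⟨Q', -, hQ'p, hQ'σ⟩ := Ideal.exists_ideal_le_liesOver_of_le (p := σ) (q := τ) q' hστ
  exact ⟨Q', hQ'p, hQ'σ.over.symm⟩

/-- two points over the same point have a common field-valued point -/
theorem exists_field_pair {R S₁ S₂ : Type u} [CommRing R] [CommRing S₁] [CommRing S₂] [Algebra R S₁] [Algebra R S₂]
    (q : Ideal R) [q.IsPrime] (Q₁ : Ideal S₁) [Q₁.IsPrime] (Q₂ : Ideal S₂) [Q₂.IsPrime]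
    (h₁ : Q₁.comap (algebraMap R S₁) = q) (h₂ : Q₂.comap (algebraMap R S₂) = q) :
    ∃ (L : Type u) (_ : Field L) (φ : S₁ →+* L) (ψ : S₂ →+* L), RingHom.ker φ = Q₁ ∧ RingHom.ker ψ = Q₂ ∧
      φ.comp (algebraMap R S₁) = ψ.comp (algebraMap R S₂) := by
  haveI : Q₁.LiesOver q := ⟨h₁.symm⟩
  haveI : Q₂.LiesOver q := ⟨h₂.symm⟩
  obtain ⟨P, hP, hP₁, hP₂⟩ := exists_prime_both q Q₁ Q₂
  haveI := hP
  refine ⟨P.ResidueField, inferInstance, (algebraMap (S₁ ⊗[R] S₂) P.ResidueField).comp (algebraMap S₁ _),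
    (algebraMap (S₁ ⊗[R] S₂) P.ResidueField).comp (algebraMap S₂ _), ?_, ?_, RingHom.ext fun r => ?_⟩
  · rw [← RingHom.comap_ker, Ideal.ker_algebraMap_residueField, hP₁]
  · rw [← RingHom.comap_ker, Ideal.ker_algebraMap_residueField, hP₂]
  · simp only [RingHom.comp_apply]
    congr 1
    change algebraMap R S₁ r ⊗ₜ[R] (1 : S₂) = (1 : S₁) ⊗ₜ[R] algebraMap R S₂ r
    rw [Algebra.algebraMap_eq_smul_one, Algebra.algebraMap_eq_smul_one (A := S₂), smul_tmul]

/-- an associated point over a neighbourhood with a point of the covering piece gives one on the piece -/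
theorem exists_assPts_piece {A B A' B' C N N' : Type u} [CommRing A] [CommRing B] [Algebra A B] [AddCommGroup N]
    [Module B N] [Module A N] [IsScalarTower A B N] [CommRing A'] [Algebra A A'] [CommRing B'] [Algebra B B']
    [Algebra A' B'] [Algebra A B'] [IsScalarTower A B B'] [IsScalarTower A A' B'] [Algebra (A' ⊗[A] B) B']
    [IsScalarTower B (A' ⊗[A] B) B'] [IsScalarTower A' (A' ⊗[A] B) B'] [Algebra.Etale B B'] [Algebra.FiniteType A' B']
    [AddCommGroup N'] [Module B' N'] [Module B N'] [IsScalarTower B B' N'] {f : N →ₗ[B] N'} (hf : IsBaseChange B' f)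
    [CommRing C] [Algebra A C] [Algebra A' C] [IsScalarTower A A' C] [Algebra.Etale A C] [Module.Flat A' C]
    (s' : Ideal C) [s'.IsPrime] {Q₂ : Ideal (C ⊗[A] B)} (hQ₂ : Q₂ ∈ assPts C (C ⊗[A] B) ((C ⊗[A] B) ⊗[B] N) s')
    (Q' : Ideal B') [Q'.IsPrime] (hQ' : Q'.comap (algebraMap (A' ⊗[A] B) B') =
      Q₂.comap (Algebra.TensorProduct.map (IsScalarTower.toAlgHom A A' C) (AlgHom.id A B)).toRingHom) :
    ∃ σ' ∈ assPts C (C ⊗[A'] B') ((C ⊗[A'] B') ⊗[B'] N') s', ∀ Q'' : Ideal (C ⊗[A'] B'), Q''.IsPrime → σ' ≤ Q'' →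
      ∃ P : Ideal (C ⊗[A] B), P.IsPrime ∧ Q₂ ≤ P ∧
        P.comap (algebraMap C (C ⊗[A] B)) = Q''.comap (algebraMap C (C ⊗[A'] B')) := by
  let CB := C ⊗[A] B
  let B₂ := C ⊗[A'] B'
  obtain ⟨hQ₂p, -⟩ := isPrime_of_mem_assPts _ _ _ hQ₂
  haveI := hQ₂p
  let Φc := Algebra.TensorProduct.map (IsScalarTower.toAlgHom A A' C) (AlgHom.id A B)
  haveI : (Q₂.comap Φc.toRingHom).IsPrime := Ideal.IsPrime.comap _
  obtain ⟨L, _, φ, ψ, hφ, hψ, hcomp⟩ :=
    letI : Algebra (A' ⊗[A] B) CB := Φc.toRingHom.toAlgebra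
    exists_field_pair (Q₂.comap Φc.toRingHom) Q₂ Q' rfl hQ'
  have hcomp' : ∀ x, φ (Φc x) = ψ (algebraMap (A' ⊗[A] B) B' x) := fun x => RingHom.congr_fun hcomp x
  letI : Algebra A' L := ((φ.comp (algebraMap C CB)).comp (algebraMap A' C)).toAlgebra
  let φC : C →ₐ[A'] L := { φ.comp (algebraMap C CB) with commutes' := fun _ => rfl }
  let ψB : B' →ₐ[A'] L :=
    { ψ with
      commutes' := fun a => by
        change ψ (algebraMap A' B' a) = φ (algebraMap A' C a ⊗ₜ[A] (1 : B))
        rw [IsScalarTower.algebraMap_apply A' (A' ⊗[A] B) B', ← hcomp']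
        congr 1 }
  let θ : B₂ →ₐ[A'] L := Algebra.TensorProduct.lift φC ψB fun _ _ => Commute.all _ _
  let lB : B →+* B₂ := (algebraMap B' B₂).comp (algebraMap B B')
  letI : Algebra B B₂ := lB.toAlgebra
  haveI : IsScalarTower B B' B₂ := IsScalarTower.of_algebraMap_eq' rfl
  let jB : B →ₐ[A] B₂ :=
    { lB with
      commutes' := fun a => by
        change algebraMap B' B₂ (algebraMap B B' (algebraMap A B a)) = algebraMap A B₂ a
        rw [← IsScalarTower.algebraMap_apply A B B', IsScalarTower.algebraMap_apply A A' B']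
        change (1 : C) ⊗ₜ[A'] algebraMap A' B' (algebraMap A A' a) = algebraMap A C a ⊗ₜ[A'] (1 : B')
        rw [IsScalarTower.algebraMap_apply A A' C, Algebra.algebraMap_eq_smul_one,
          Algebra.algebraMap_eq_smul_one (A := C), smul_tmul] }
  let j : CB →ₐ[A] B₂ := Algebra.TensorProduct.lift (IsScalarTower.toAlgHom A C B₂) jB fun _ _ => Commute.all _ _
  letI : Algebra CB B₂ := j.toRingHom.toAlgebra
  haveI : IsScalarTower C CB B₂ := IsScalarTower.of_algebraMap_eq fun c => by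
    change _ = j (c ⊗ₜ[A] (1 : B))
    rw [Algebra.TensorProduct.lift_tmul, map_one, mul_one]
    rfl
  haveI : IsScalarTower B CB B₂ := IsScalarTower.of_algebraMap_eq fun b => by
    change _ = j ((1 : C) ⊗ₜ[A] b)
    rw [Algebra.TensorProduct.lift_tmul, map_one, one_mul]
    rfl
  haveI : Algebra.Etale B CB := Algebra.Etale.of_equiv (Algebra.TensorProduct.commRight A B C)
  haveI : Module.Flat B B' := Algebra.Smooth.flat B B'
  haveI : Module.Flat B' B₂ := Module.Flat.of_linearEquiv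
    ((Algebra.TensorProduct.commRight A' B' C).toLinearEquiv).symm
  haveI : Module.Flat B B₂ := Module.Flat.trans B B' B₂
  haveI : Module.Flat CB B₂ := UnramLib.flat_of_formallyUnramified B CB B₂
  haveI : (RingHom.ker θ.toRingHom).IsPrime := RingHom.ker_isPrime _
  have hQ₂' : (RingHom.ker θ.toRingHom).comap (algebraMap CB B₂) = Q₂ := by
    rw [RingHom.comap_ker, ← hφ]
    congr 1
    refine RingHom.ext fun x => ?_
    induction x using TensorProduct.induction_on with
    | zero => simp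
    | tmul c b =>
      change θ (j (c ⊗ₜ[A] b)) = φ (c ⊗ₜ[A] b)
      rw [Algebra.TensorProduct.lift_tmul]
      change θ ((c ⊗ₜ[A'] (1 : B')) * ((1 : C) ⊗ₜ[A'] algebraMap B B' b)) = _
      rw [Algebra.TensorProduct.tmul_mul_tmul, mul_one, one_mul, Algebra.TensorProduct.lift_tmul]
      change φ (c ⊗ₜ[A] (1 : B)) * ψ (algebraMap B B' b) = _
      rw [IsScalarTower.algebraMap_apply B (A' ⊗[A] B) B', ← hcomp', ← map_mul]
      congr 1
      change (c ⊗ₜ[A] (1 : B)) * Φc ((1 : A') ⊗ₜ[A] b) = _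
      rw [Algebra.TensorProduct.map_tmul, map_one, AlgHom.id_apply, Algebra.TensorProduct.tmul_mul_tmul, one_mul, mul_one]
    | add x y hx hy => rw [map_add, map_add, hx, hy]
  let N₂ := B₂ ⊗[B'] N'
  haveI : IsScalarTower B B' N₂ := IsScalarTower.of_algebraMap_smul fun b z => by
    rw [← algebraMap_smul B₂ (algebraMap B B' b) z, ← IsScalarTower.algebraMap_apply, algebraMap_smul]
  letI : Module CB N₂ := Module.compHom N₂ (algebraMap CB B₂)
  haveI : IsScalarTower CB B₂ N₂ := IsScalarTower.of_algebraMap_smul fun _ _ => rfl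
  haveI : IsScalarTower B CB N₂ := IsScalarTower.of_algebraMap_smul fun b z => by
    rw [← algebraMap_smul B₂ (algebraMap B CB b) z, ← IsScalarTower.algebraMap_apply, algebraMap_smul]
  let f₂ : N →ₗ[B] N₂ := ((TensorProduct.mk B' B₂ N' 1).restrictScalars B) ∘ₗ f
  have hf₂ : IsBaseChange B₂ f₂ := hf.comp (TensorProduct.isBaseChange B' N' B₂)
  have hcb : IsBaseChange CB (TensorProduct.mk B CB N 1) := TensorProduct.isBaseChange B N CB
  let h₂ : CB ⊗[B] N →ₗ[CB] N₂ := hcb.lift f₂
  have hh₂ : (h₂.restrictScalars B) ∘ₗ TensorProduct.mk B CB N 1 = f₂ := hcb.lift_comp f₂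
  have hbc₂ : IsBaseChange B₂ h₂ := IsBaseChange.of_comp hcb (by rw [hh₂]; exact hf₂)
  obtain ⟨σ', hσ', hσ'c⟩ := exists_assPts_flat hbc₂ s' hQ₂ (RingHom.ker θ.toRingHom) hQ₂'
  refine ⟨σ', hσ', fun Q'' hQ''p hle => ⟨Q''.comap (algebraMap CB B₂), hQ''p.comap _, hσ'c ▸ Ideal.comap_mono hle, ?_⟩⟩
  rw [Ideal.comap_comap, ← IsScalarTower.algebraMap_eq]

/-- covered associated points over an étale neighbourhood and a pure covering piece: pure along the fibre -/
theorem isPureAlong_of_cover {A B A' B' N N' : Type u} [CommRing A] [CommRing B] [Algebra A B] [Algebra.FiniteType A B]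
    [AddCommGroup N] [Module B N] [Module A N] [IsScalarTower A B N] [Module.Finite B N] [CommRing A'] [Algebra A A']
    [CommRing B'] [Algebra B B'] [Algebra A' B'] [Algebra A B'] [IsScalarTower A B B'] [IsScalarTower A A' B']
    [Algebra (A' ⊗[A] B) B'] [IsScalarTower B (A' ⊗[A] B) B'] [IsScalarTower A' (A' ⊗[A] B) B']
    [Algebra.Etale B B'] [Algebra.FiniteType A' B'] [AddCommGroup N'] [Module B' N'] [Module B N']
    [IsScalarTower B B' N'] [Module A' N'] [IsScalarTower A' B' N'] {f : N →ₗ[B] N'} (hf : IsBaseChange B' f)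
    {p : Ideal A} [p.IsPrime] (p' : Ideal A') [p'.IsPrime] (het : FlatCA.IsEtaleNhd A A' p p')
    (hpure : FlatCA.IsPureAlong A' B' N' p')
    (hcov : ∀ (t' : Ideal A') [t'.IsPrime], t' ≤ p' →
      ∀ σ ∈ assPts A' (A' ⊗[A] B) ((A' ⊗[A] B) ⊗[B] N) t', ∃ Q' : Ideal B', Q'.IsPrime ∧
        Q'.comap (algebraMap (A' ⊗[A] B) B') = σ) :
    FlatCA.IsPureAlong A B N p := by
  intro A₁ B₁ N₁ _ _ _ _ _ _ _ _ _ _ _ _ _ _ g t₁' t _ _ P₁ _ het₁ hI
  obtain ⟨hpush, hbc, hle, htp, -, -, -⟩ := id hI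
  obtain ⟨Φ, e, hΦ, he⟩ := exists_model_map (A := A) (B := B) (C := B) (C' := A₁ ⊗[A] B) (fun x => ⟨x, rfl⟩) hpush
    inferInstance hbc (TensorProduct.isBaseChange B N (A₁ ⊗[A] B))
  have hcan := (exists_imp_iff Φ hΦ e he t₁' t).1 ⟨P₁, imp_of_isImpurity hI⟩
  haveI := htp
  haveI := het.2.choose
  haveI := het.1
  haveI := het₁.1
  obtain ⟨s, hs, hst, hsp⟩ := exists_prime_both p t p'
  haveI := hs
  let C := A₁ ⊗[A] A'
  haveI : IsScalarTower A A' C := IsScalarTower.of_algebraMap_eq fun a => by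
    change algebraMap A A₁ a ⊗ₜ[A] (1 : A') = (1 : A₁) ⊗ₜ[A] algebraMap A A' a
    rw [Algebra.algebraMap_eq_smul_one, Algebra.algebraMap_eq_smul_one (A := A'), smul_tmul]
  haveI : Module.Flat A A' := Algebra.Smooth.flat A A'
  haveI : Module.Flat A (Localization.AtPrime p') :=
    haveI : Module.Flat A' (Localization.AtPrime p') := IsLocalization.flat _ p'.primeCompl
    Module.Flat.trans A A' _
  haveI : Module.Flat A₁ (Localization.AtPrime s) := flat_localization_baseChange p' s hsp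
  haveI : s.LiesOver t := ⟨hst.symm⟩
  obtain ⟨s', _, hs's, Q₂, hQ₂⟩ := exists_imp_lift (B := B) (N := N) (A₂ := C) t₁' t hle s hcan
  obtain ⟨hQ₂p, hQ₂c, hQ₂a, hno⟩ := hQ₂
  haveI := hQ₂p
  -- the point of the standard model over the neighbourhood
  let ι : A' →ₐ[A] C := IsScalarTower.toAlgHom A A' C
  let Φc := Algebra.TensorProduct.map ι (AlgHom.id A B)
  let t' := s'.comap (algebraMap A' C)
  letI : Algebra t'.ResidueField s'.ResidueField := (Ideal.ResidueField.map t' s' (algebraMap A' C) rfl).toAlgebra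
  haveI : IsScalarTower A' t'.ResidueField s'.ResidueField := IsScalarTower.of_algebraMap_eq fun x => by
    rw [RingHom.algebraMap_toAlgebra, Ideal.ResidueField.map_algebraMap, ← IsScalarTower.algebraMap_apply]
  have hσ : Q₂.comap Φc.toRingHom ∈ assPts A' (A' ⊗[A] B) ((A' ⊗[A] B) ⊗[B] N) t' :=
    mem_assPts_of_assAt (hQ₂p.comap _)
      (hQ₂a.comap_map ι fun a => (IsScalarTower.algebraMap_apply A' C s'.ResidueField a).symm)
  obtain ⟨Q', hQ'p, hQ'c⟩ := hcov t' ((Ideal.comap_mono hs's).trans hsp.le) _ hσ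
  haveI := hQ'p
  haveI : s.LiesOver p' := ⟨hsp.symm⟩
  haveI : Module.Flat A A₁ := Algebra.Smooth.flat A A₁
  haveI : Algebra.Etale A C := Algebra.Etale.comp A A₁ C
  haveI : Module.Flat A' C := Module.Flat.of_linearEquiv ((Algebra.TensorProduct.commRight A A' A₁).toLinearEquiv).symm
  obtain ⟨σ', hσ', hσ'le⟩ := exists_assPts_piece hf s' (mem_assPts_of_assAt hQ₂p hQ₂a) Q' hQ'c
  obtain ⟨Q'', hQ''p, hle'', hQ''c⟩ := exists_above_of_pure hpure s (isEtaleNhd_tensor het₁ s hst hsp) s' hs's σ' hσ'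
  obtain ⟨P', hP', hQP, hP'c⟩ := hσ'le Q'' hQ''p hle''
  exact hno P' hP' hQP (hP'c.trans hQ''c)

end Groth.Agent.RG.Pure
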