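import Groth.Agent.RG.Pure.HenselImpurity
import Groth.Agent.RG.AssPts
import Groth.Agent.Hensel.Decomp
import Groth.Agent.FlatDepth.SupportDim
import Mathlib.RingTheory.Finiteness.Descent
import Mathlib.RingTheory.Localization.Integral
import Mathlib.RingTheory.QuasiFinite.Basic

/-!
# Pure modules with finite fibre supports have finite support
-/

set_option autoImplicit false
set_option linter.style.haveILetI false
set_option backward.isDefEq.respectTransparency false

universe u

open TensorProduct IsLocalRing

namespace Groth.Agent.RG.Pure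

attribute [local instance] Algebra.TensorProduct.rightAlgebra

/-- over a finite algebra there are no impurities -/
theorem isUnivPureAlong_of_finite {A C N : Type u} [CommRing A] [CommRing C] [Algebra A C] [Module.Finite A C]
    [AddCommGroup N] [Module C N] (p : Ideal A) [p.IsPrime] : FlatCA.IsUnivPureAlong A C N p := by
  intro A' C' N' _ _ _ _ _ _ _ _ _ _ _ _ _ _ f t' t _ _ P _ hI
  obtain ⟨hpush, -, hle, -, hPt, -, hno⟩ := hI
  haveI : Algebra.IsPushout A A' C C' := hpush.symm
  haveI : Module.Finite A' C' := Module.Finite.equiv (Algebra.IsPushout.equiv A A' C C').toLinearEquiv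
  obtain ⟨Q, hPQ, hQ, hQt⟩ := Ideal.exists_ideal_over_prime_of_isIntegral (R := A') t P (hPt.over.symm.trans_le hle)
  haveI := hQ
  exact hno Q hPQ ⟨hQt.symm⟩

/-- fibres of a quasi-finite algebra: every point is associated to a faithful finite module -/
theorem mem_assPts_of_quasiFinite {H S N : Type u} [CommRing H] [CommRing S] [Algebra H S] [Algebra.QuasiFinite H S]
    [AddCommGroup N] [Module S N] [Module H N] [IsScalarTower H S N] [Module.Finite S N] (Q : Ideal S) [Q.IsPrime]
    (hQ : (⟨Q, ‹_›⟩ : PrimeSpectrum S) ∈ Module.support S N) :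
    Q ∈ assPts H S N (Q.comap (algebraMap H S)) := by
  let p' := Q.comap (algebraMap H S)
  let F := p'.Fiber S
  rw [mem_assPts_iff H S p' Q rfl]
  obtain ⟨Q'', hQ''⟩ := (PrimeSpectrum.preimageEquivFiber H S ⟨p', inferInstance⟩).symm.surjective
    ⟨⟨Q, ‹_›⟩, PrimeSpectrum.ext rfl⟩
  have hc : Q''.asIdeal.comap (Algebra.TensorProduct.includeRight : S →ₐ[H] F).toRingHom = Q :=
    congrArg (fun z => z.1.asIdeal) hQ''
  have hfi : FlatCA.fiberIdeal p' Q = Q''.asIdeal := by
    refine Eq.trans ?_ (fiberIdeal_comap H S p' Q''.asIdeal)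
    congr 1
    exact hc.symm
  rw [hfi]
  haveI : IsArtinianRing F := inferInstance
  haveI : Module.Finite F (FlatCA.fiberMod p' S N) := inferInstanceAs (Module.Finite F (F ⊗[S] N))
  have hsupp : Q'' ∈ Module.support F (F ⊗[S] N) := by
    rw [Groth.Agent.FlatDepth.mem_support_tensor]
    refine ⟨?_, ?_⟩
    · rw [Module.mem_support_iff_of_finite, Module.annihilator_eq_bot.2 inferInstance]
      exact bot_le
    · rwa [show Q''.comap (algebraMap S F) = ⟨Q, ‹_›⟩ from PrimeSpectrum.ext hc]
  refine Module.associatedPrimes.minimalPrimes_annihilator_subset_associatedPrimes F (FlatCA.fiberMod p' S N) ?_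
  refine ⟨⟨Q''.2, Module.mem_support_iff_of_finite.1 hsupp⟩, fun P hP hle => ?_⟩
  haveI := hP.1
  haveI : P.IsMaximal := IsArtinianRing.isMaximal_of_isPrime P
  exact (Ideal.IsMaximal.eq_of_le ‹_› Q''.2.ne_top hle).ge

/-- powers in the span of lower powers give integrality -/
theorem isIntegral_of_pow_mem {A C : Type u} [CommRing A] [CommRing C] [Algebra A C] (c : C) (n : ℕ)
    (h : c ^ n ∈ Submodule.span A (Set.range fun i : Fin n => c ^ (i : ℕ))) : IsIntegral A c := by
  obtain ⟨r, hr⟩ := (Submodule.mem_span_range_iff_exists_fun A).1 h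
  refine ⟨Polynomial.X ^ n - ∑ i : Fin n, Polynomial.C (r i) * Polynomial.X ^ (i : ℕ),
    Polynomial.monic_X_pow_sub (Polynomial.degree_sum_fin_lt r), ?_⟩
  rw [← Polynomial.aeval_def, map_sub, map_pow, Polynomial.aeval_X, map_sum, ← hr, sub_eq_zero]
  refine Finset.sum_congr rfl fun i _ => ?_
  rw [map_mul, Polynomial.aeval_C, map_pow, Polynomial.aeval_X, Algebra.smul_def]

/-- integrality is local on the base -/
theorem isIntegral_of_forall_atPrime {A C : Type u} [CommRing A] [CommRing C] [Algebra A C] (c : C)
    (h : ∀ (p : Ideal A) [p.IsPrime], IsIntegral (Localization.AtPrime p) ((1 : Localization.AtPrime p) ⊗ₜ[A] c)) :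
    IsIntegral A c := by
  classical
  let M : ℕ → Submodule A C := fun n => Submodule.span A (Set.range fun i : Fin n => c ^ (i : ℕ))
  have hmono : ∀ (n : ℕ) (a : A), a • c ^ n ∈ M n → a • c ^ (n + 1) ∈ M (n + 1) := fun n a ha => by
    have h1 := Submodule.mem_map_of_mem (f := LinearMap.mulLeft A c) ha
    rw [Submodule.map_span] at h1
    rw [LinearMap.mulLeft_apply, mul_smul_comm, ← pow_succ'] at h1
    refine Submodule.span_mono ?_ h1
    rintro _ ⟨_, ⟨i, rfl⟩, rfl⟩
    exact ⟨i.succ, by simp [pow_succ']⟩
  let J : ℕ →o Ideal A := ⟨fun n => (M n).comap (LinearMap.toSpanSingleton A C (c ^ n)),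
    monotone_nat_of_le_succ fun n a ha => hmono n a ha⟩
  have htop : (⨆ n, J n) = ⊤ := by
    by_contra hne
    obtain ⟨p, hp, hle⟩ := Ideal.exists_le_maximal _ hne
    let Ap := Localization.AtPrime p
    obtain ⟨m, f, hf, hfm⟩ := (h p).exists_multiple_integral_of_isLocalization p.primeCompl _
    let n := f.natDegree
    let y : C := Polynomial.aeval ((m : A) • c) f
    have hy : TensorProduct.mk A Ap C 1 y = 0 := by
      rw [← Polynomial.aeval_def] at hfm
      change (Algebra.TensorProduct.includeRight : C →ₐ[A] Ap ⊗[A] C) y = 0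
      rw [← Polynomial.aeval_algHom_apply, map_smul]
      exact hfm
    haveI : IsLocalizedModule p.primeCompl (TensorProduct.mk A Ap C 1) :=
      (isLocalizedModule_iff_isBaseChange p.primeCompl Ap _).2 (TensorProduct.isBaseChange A C Ap)
    obtain ⟨s, hs⟩ := (IsLocalizedModule.eq_zero_iff p.primeCompl (TensorProduct.mk A Ap C 1)).1 hy
    have hmem : (s : A) * (m : A) ^ n ∈ J n := by
      change ((s : A) * (m : A) ^ n) • c ^ n ∈ M n
      simp only [Submonoid.smul_def, y] at hs
      rw [Polynomial.aeval_eq_sum_range, Finset.sum_range_succ, hf.coeff_natDegree, one_smul, smul_add,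
        add_eq_zero_iff_eq_neg', smul_pow, ← mul_smul] at hs
      rw [hs]
      refine Submodule.neg_mem _ (Submodule.smul_mem _ _ (Submodule.sum_mem _ fun i hi => ?_))
      rw [smul_pow]
      exact Submodule.smul_mem _ _ (Submodule.smul_mem _ _ (Submodule.subset_span ⟨⟨i, Finset.mem_range.1 hi⟩, rfl⟩))
    exact (hp.isPrime.mul_notMem s.2 fun hm => m.2 (hp.isPrime.mem_of_pow_mem n hm))
      (hle (le_iSup (fun n => J n) n hmem))
  obtain ⟨n, hn⟩ := (Submodule.mem_iSup_of_directed _ J.monotone.directed_le).1 (htop.ge (Submodule.mem_top (x := (1 : A))))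
  refine isIntegral_of_pow_mem c n ?_
  simpa [J] using hn

/-- over the henselisation a pure faithful module with finite fibres lives on a finite algebra -/
theorem finite_henselization_of_pure {A C N : Type u} [CommRing A] [CommRing C] [Algebra A C] [Algebra.FiniteType A C]
    [Algebra.QuasiFinite A C] [AddCommGroup N] [Module C N] [Module A N] [IsScalarTower A C N] [Module.Finite C N]
    (hann : Module.annihilator C N = ⊥) (p : Ideal A) [p.IsPrime] (hpure : FlatCA.IsPureAlong A C N p)
    (H : Type u) [CommRing H] [IsLocalRing H] [Algebra (Localization.AtPrime p) H]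
    [IsLocalHom (algebraMap (Localization.AtPrime p) H)] [Hensel.IsHenselization (Localization.AtPrime p) H]
    [Algebra A H] [IsScalarTower A (Localization.AtPrime p) H] : Module.Finite H (H ⊗[A] C) := by
  haveI : HenselianLocalRing H := Hensel.IsHenselization.henselian (R := Localization.AtPrime p)
  let S := H ⊗[A] C
  obtain ⟨e, he, hfin, htop⟩ := Groth.Agent.Hensel.exists_idempotent_quasiFinite H S
  have h1 : (1 : S) ∈ Ideal.span {e} ⊔ (maximalIdeal H).map (algebraMap H S) := by
    rw [show algebraMap H (S ⧸ Ideal.span {e}) = (Ideal.Quotient.mk _).comp (algebraMap H S) from rfl,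
      ← Ideal.map_map] at htop
    have h := congrArg (Ideal.comap (Ideal.Quotient.mk (Ideal.span {e}))) htop
    rw [Ideal.comap_map_of_surjective _ Ideal.Quotient.mk_surjective, ← RingHom.ker_eq_comap_bot, Ideal.mk_ker,
      Ideal.comap_top] at h
    rw [sup_comm, h]
    trivial
  have hu : IsUnit e := by
    by_contra hne
    obtain ⟨Q, hQ, heQ⟩ := exists_max_ideal_of_mem_nonunits hne
    haveI := hQ.isPrime
    have hsupp : (⟨Q, inferInstance⟩ : PrimeSpectrum S) ∈ Module.support S (S ⊗[C] N) := by
      rw [Groth.Agent.FlatDepth.mem_support_tensor]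
      refine ⟨?_, ?_⟩
      · rw [Module.mem_support_iff_of_finite, Module.annihilator_eq_bot.2 inferInstance]
        exact bot_le
      · rw [Module.mem_support_iff_of_finite, hann]
        exact bot_le
    have hass := mem_assPts_of_quasiFinite (H := H) (S := S) (N := S ⊗[C] N) Q hsupp
    let p' := Q.comap (algebraMap H S)
    obtain ⟨E, _, _, t', t, _, _, σ, _, hn, hle, himp⟩ := exists_stage_impurity (B := C) N p H p'
      ⟨Q, inferInstance, rfl, assAt_of_mem_assPts hass, fun P' hP' hQP hc => hP'.ne_top ((Ideal.eq_top_iff_one _).2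
        ((sup_le ((Ideal.span_singleton_le_iff_mem _).2 (hQP heQ)) (Ideal.map_le_iff_le_comap.2 hc.ge)) h1))⟩
    exact hpure E _ _ _ t' t σ hn (himp.isImpurity inferInstance (TensorProduct.isBaseChange C N _) hle hn.2.1)
  have he1 : e = 1 := IsIdempotentElem.iff_eq_one_of_isUnit hu |>.1 he
  rw [he1, sub_self] at hfin
  haveI := hfin
  exact Module.Finite.equiv ((Submodule.quotEquivOfEqBot _ (Ideal.span_singleton_eq_bot.2 rfl)).restrictScalars H)

/-- the localisation is finite, with the henselization abstracted -/
theorem finite_atPrime_of_pure_aux {A C N : Type u} [CommRing A] [CommRing C] [Algebra A C] [Algebra.FiniteType A C]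
    [Algebra.QuasiFinite A C] [AddCommGroup N] [Module C N] [Module A N] [IsScalarTower A C N] [Module.Finite C N]
    (hann : Module.annihilator C N = ⊥) (p : Ideal A) [p.IsPrime] (hpure : FlatCA.IsPureAlong A C N p)
    (H : Type u) [CommRing H] [IsLocalRing H] [Algebra (Localization.AtPrime p) H]
    [IsLocalHom (algebraMap (Localization.AtPrime p) H)] [Hensel.IsHenselization (Localization.AtPrime p) H] :
    Module.Finite (Localization.AtPrime p) (Localization.AtPrime p ⊗[A] C) := by
  letI : Algebra A H := ((algebraMap (Localization.AtPrime p) H).comp (algebraMap A (Localization.AtPrime p))).toAlgebra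
  haveI : IsScalarTower A (Localization.AtPrime p) H := IsScalarTower.of_algebraMap_eq fun _ => rfl
  haveI := finite_henselization_of_pure hann p hpure H
  haveI : Module.FaithfullyFlat (Localization.AtPrime p) H :=
    Groth.Agent.Hensel.henselization_faithfullyFlat (Localization.AtPrime p) H
  haveI : Module.Finite H (H ⊗[Localization.AtPrime p] (Localization.AtPrime p ⊗[A] C)) :=
    Module.Finite.equiv (AlgebraTensorModule.cancelBaseChange A (Localization.AtPrime p) H H C).symm
  exact Module.Finite.of_finite_tensorProduct_of_faithfullyFlat H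

set_option backward.isDefEq.respectTransparency true in
/-- the localisation is finite -/
theorem finite_atPrime_of_pure {A C N : Type u} [CommRing A] [CommRing C] [Algebra A C] [Algebra.FiniteType A C]
    [Algebra.QuasiFinite A C] [AddCommGroup N] [Module C N] [Module A N] [IsScalarTower A C N] [Module.Finite C N]
    (hann : Module.annihilator C N = ⊥) (p : Ideal A) [p.IsPrime] (hpure : FlatCA.IsPureAlong A C N p) :
    Module.Finite (Localization.AtPrime p) (Localization.AtPrime p ⊗[A] C) := by
  obtain ⟨hloc, hhens⟩ := Groth.Agent.Hensel.exists_henselization (Localization.AtPrime p)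
  haveI := hloc
  haveI := hhens
  exact finite_atPrime_of_pure_aux hann p hpure
    (Groth.Agent.Hensel.Env (Localization.AtPrime p) (ResidueField (Localization.AtPrime p)))

end Groth.Agent.RG.Pure
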