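import Groth.Agent.RG.Loc.OpenPure

/-!
A fibre section killed by finitely many elements spreads to the fibres over a dense open of a domain.
-/

set_option autoImplicit false
set_option linter.style.haveILetI false
set_option backward.isDefEq.respectTransparency false

universe u

open TensorProduct

namespace Groth.Agent.RG.Pure

attribute [local instance] Algebra.TensorProduct.rightAlgebra

/-- Generic freeness, read on all algebras inverting the element. -/
theorem exists_free_of_isUnit {D S M : Type u} [CommRing D] [IsDomain D] [IsNoetherianRing D] [CommRing S]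
    [Algebra D S] [Algebra.FiniteType D S] [AddCommGroup M] [Module S M] [Module D M] [IsScalarTower D S M]
    [Module.Finite S M] :
    ∃ f : D, f ≠ 0 ∧ ∀ (L : Type u) [CommRing L] [Algebra D L], IsUnit (algebraMap D L f) →
      Module.Free L (L ⊗[D] M) := by
  obtain ⟨f, -, hf0, hfree, -, -, -⟩ :=
    GenFree.generic_freeness_reduced (R := D) (S := S) (M := M) (a := 1) one_ne_zero
  refine ⟨f, hf0, fun L _ _ hu => ?_⟩
  let L₁ := Localization.Away f
  letI : Algebra L₁ L := (IsLocalization.Away.lift f hu : L₁ →+* L).toAlgebra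
  haveI : IsScalarTower D L₁ L := IsScalarTower.of_algebraMap_eq fun x => (IsLocalization.Away.lift_eq f hu x).symm
  haveI : Module.Free L₁ (L₁ ⊗[D] M) :=
    haveI := hfree
    Module.Free.of_equiv (LocalizedModule.equivTensorProduct (Submonoid.powers f) M)
  exact Module.Free.of_equiv (AlgebraTensorModule.cancelBaseChange D L₁ L L M)

/-- A kernel vector at the generic point gives kernel vectors on a dense open. -/
theorem exists_generic_kernel {D S X Y : Type u} [CommRing D] [IsDomain D] [IsNoetherianRing D] [CommRing S]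
    [Algebra D S] [Algebra.FiniteType D S] [AddCommGroup X] [Module S X] [Module D X] [IsScalarTower D S X]
    [Module.Finite S X] [AddCommGroup Y] [Module S Y] [Module D Y] [IsScalarTower D S Y] [Module.Finite S Y]
    (μ : X →ₗ[S] Y) (K₀ : Type u) [Field K₀] [Algebra D K₀] (hK₀ : Function.Injective (algebraMap D K₀))
    (h₀ : ¬ Function.Injective ((μ.restrictScalars D).lTensor K₀)) :
    ∃ f : D, f ≠ 0 ∧ ∀ (K : Type u) [Field K] [Algebra D K], algebraMap D K f ≠ 0 →
      ¬ Function.Injective ((μ.restrictScalars D).lTensor K) := by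
  classical
  haveI : IsNoetherianRing S := Algebra.FiniteType.isNoetherianRing D S
  let K₁ := LinearMap.ker μ
  let I₁ := LinearMap.range μ
  haveI : Module.Finite S K₁ := Module.IsNoetherian.finite S K₁
  haveI : Module.Finite S I₁ := Module.IsNoetherian.finite S I₁
  obtain ⟨f₁, hf₁, hfree₁⟩ := exists_free_of_isUnit (D := D) (S := S) (M := K₁)
  obtain ⟨f₂, hf₂, hfree₂⟩ := exists_free_of_isUnit (D := D) (S := S) (M := I₁)
  let f := f₁ * f₂
  let L := Localization.Away f
  have hu : IsUnit (algebraMap D L f₁) ∧ IsUnit (algebraMap D L f₂) :=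
    IsUnit.mul_iff.1 (map_mul (algebraMap D L) f₁ f₂ ▸ IsLocalization.Away.algebraMap_isUnit f)
  haveI : Module.Free L (L ⊗[D] K₁) := hfree₁ L hu.1
  haveI : Module.Free L (L ⊗[D] I₁) := hfree₂ L hu.2
  let ι : K₁ →ₗ[D] X := K₁.subtype.restrictScalars D
  let π : X →ₗ[D] I₁ := μ.rangeRestrict.restrictScalars D
  let j : I₁ →ₗ[D] Y := I₁.subtype.restrictScalars D
  have hex : Function.Exact ι π := fun x => by
    refine ⟨fun hx => ⟨⟨x, ?_⟩, rfl⟩, ?_⟩
    · exact congrArg Subtype.val hx
    · rintro ⟨y, rfl⟩
      exact Subtype.ext y.2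
  have hπ : Function.Surjective π := μ.surjective_rangeRestrict
  have hjπ : μ.restrictScalars D = j ∘ₗ π := rfl
  haveI : Module.Flat D L := IsLocalization.flat L (Submonoid.powers f)
  obtain ⟨hexL, hsurjL⟩ := Loc.exact_baseChange' (R := D) L hex hπ
  have hιL : Function.Injective (ι.baseChange L) :=
    Module.Flat.lTensor_preserves_injective_linearMap ι Subtype.val_injective
  have hlift : ∀ (K : Type u) [Field K] [Algebra D K], algebraMap D K f ≠ 0 →
      ∃ (_ : Algebra L K), IsScalarTower D L K := fun K _ _ hK => by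
    letI : Algebra L K := (IsLocalization.Away.lift f (isUnit_iff_ne_zero.2 hK) : L →+* K).toAlgebra
    exact ⟨inferInstance, IsScalarTower.of_algebraMap_eq fun x => (IsLocalization.Away.lift_eq f _ x).symm⟩
  -- the kernel is nonzero at the generic point
  have hf : f ≠ 0 := mul_ne_zero hf₁ hf₂
  obtain ⟨_, _⟩ := hlift K₀ fun h => hf (hK₀ (h.trans (map_zero _).symm))
  have hnt : Nontrivial (L ⊗[D] K₁) := by
    by_contra hn
    haveI := not_nontrivial_iff_subsingleton.1 hn
    haveI : Subsingleton (K₀ ⊗[D] K₁) :=
      (AlgebraTensorModule.cancelBaseChange D L K₀ K₀ K₁).symm.toEquiv.subsingleton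
    apply h₀
    rw [hjπ, LinearMap.lTensor_comp]
    have h1 : Function.Injective (π.lTensor K₀) := by
      rw [injective_iff_map_eq_zero]
      intro z hz
      obtain ⟨w, rfl⟩ := (lTensor_exact K₀ hex hπ z).1 hz
      rw [Subsingleton.elim w 0, map_zero]
    haveI : Module.Flat D K₀ := by
      letI : Algebra (FractionRing D) K₀ := (IsFractionRing.lift (K := FractionRing D) hK₀).toAlgebra
      haveI : IsScalarTower D (FractionRing D) K₀ := IsScalarTower.of_algebraMap_eq fun x =>
        (IsFractionRing.lift_algebraMap hK₀ x).symm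
      exact Module.Flat.trans D (FractionRing D) K₀
    exact (Module.Flat.lTensor_preserves_injective_linearMap (M := K₀) j Subtype.val_injective).comp h1
  refine ⟨f, hf, fun K _ _ hK hinj => ?_⟩
  obtain ⟨_, _⟩ := hlift K hK
  -- the kernel survives in the fibre
  haveI : Nontrivial (K ⊗[D] K₁) := by
    let b := Module.Free.chooseBasis L (L ⊗[D] K₁)
    obtain ⟨i⟩ := b.index_nonempty
    haveI : Nontrivial (K ⊗[L] (L ⊗[D] K₁)) := ⟨⟨b.baseChange K i, 0, (b.baseChange K).ne_zero i⟩⟩
    exact ((AlgebraTensorModule.cancelBaseChange D L K K K₁).symm.toEquiv).nontrivial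
  have hι : Function.Injective (ι.lTensor K) :=
    (Pure.injective_lTensor_baseChange (R' := L) ι K).1
      (Loc.injective_lTensor_of_projective_coker' (ι.baseChange L) (π.baseChange L) hιL hexL hsurjL K)
  obtain ⟨w, hw⟩ := exists_ne (0 : K ⊗[D] K₁)
  apply hw
  apply hι
  apply hinj
  rw [map_zero, map_zero, hjπ, LinearMap.lTensor_comp, LinearMap.comp_apply,
    (lTensor_exact K hex hπ).apply_apply_eq_zero, map_zero]

end Groth.Agent.RG.Pure
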