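import Groth.Agent.RG.Pure.QuasiFinite
import Groth.Agent.RG.Pure.Descent

/-!
# Impurities over the henselization come from étale neighbourhoods
-/

set_option autoImplicit false
set_option linter.style.haveILetI false
set_option backward.isDefEq.respectTransparency false

universe u

open TensorProduct IsLocalRing

namespace Groth.Agent.RG.Pure

attribute [local instance] Algebra.TensorProduct.rightAlgebra

/-- an impurity over the henselization gives one at a stage -/
theorem exists_stage_impurity {A B : Type u} [CommRing A] [CommRing B] [Algebra A B] [Algebra.FiniteType A B]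
    (N : Type u) [AddCommGroup N] [Module B N] [Module A N] [IsScalarTower A B N] (p : Ideal A) [p.IsPrime]
    (H : Type u) [CommRing H] [IsLocalRing H] [Algebra (Localization.AtPrime p) H]
    [IsLocalHom (algebraMap (Localization.AtPrime p) H)] [Hensel.IsHenselization (Localization.AtPrime p) H]
    [Algebra A H] [IsScalarTower A (Localization.AtPrime p) H] (p' : Ideal H) [p'.IsPrime]
    (h : ∃ σ, Imp H (H ⊗[A] B) ((H ⊗[A] B) ⊗[B] N) p' (maximalIdeal H) σ) :
    ∃ (E : Type u) (_ : CommRing E) (_ : Algebra A E) (t' t : Ideal E) (_ : t'.IsPrime) (_ : t.IsPrime)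
      (σ₁ : Ideal (E ⊗[A] B)) (_ : σ₁.IsPrime), FlatCA.IsEtaleNhd A E p t ∧ t' ≤ t ∧
      Imp E (E ⊗[A] B) ((E ⊗[A] B) ⊗[B] N) t' t σ₁ := by
  classical
  obtain ⟨σ, hσp, hσc, hσA, hno⟩ := h
  haveI := hσp
  let S := H ⊗[A] B
  letI : Algebra p'.ResidueField p'.ResidueField := Algebra.id _
  have hσ : σ ∈ assPts H S (S ⊗[B] N) p' := mem_assPts_of_assAt hσp hσA
  have hcon : ∀ Q : Ideal S, Q.IsPrime → σ ≤ Q → Q.comap (algebraMap H S) ≠ maximalIdeal H := hno
  have htop : σ ⊔ (maximalIdeal H).map (algebraMap H S) = ⊤ := by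
    by_contra hne
    obtain ⟨M, hM, hle⟩ := Ideal.exists_le_maximal _ hne
    refine hcon M hM.isPrime (le_sup_left.trans hle) ?_
    refine ((maximalIdeal.isMaximal H).eq_of_le (Ideal.IsPrime.comap _).ne_top ?_).symm
    exact Ideal.map_le_iff_le_comap.1 (le_sup_right.trans hle)
  obtain ⟨s, hs, w, hw, hsw⟩ := Submodule.mem_sup.1 (htop.ge (Submodule.mem_top (x := (1 : S))))
  obtain ⟨Z, hZ⟩ := TensorProduct.exists_finset s
  obtain ⟨E, _, _, _, φ, hφ⟩ := exists_stage p H (Z.image Prod.fst)
  let Φ : E ⊗[A] B →ₐ[A] S := Algebra.TensorProduct.map φ (AlgHom.id A B)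
  have hsr : s ∈ Set.range Φ := by
    rw [hZ]
    change _ ∈ Φ.range
    refine sum_mem fun z hz => ?_
    obtain ⟨e, he⟩ := hφ z.1 (Finset.mem_image_of_mem _ hz)
    exact ⟨e ⊗ₜ z.2, by change Φ (e ⊗ₜ z.2) = _; rw [Algebra.TensorProduct.map_tmul, he]; rfl⟩
  obtain ⟨s₁, hs₁⟩ := hsr
  let t : Ideal E := (maximalIdeal H).comap φ.toRingHom
  let t' : Ideal E := p'.comap φ.toRingHom
  have ht' : t' ≤ t := Ideal.comap_mono (le_maximalIdeal (‹p'.IsPrime›).ne_top)
  letI : Algebra t'.ResidueField p'.ResidueField := (Ideal.ResidueField.map t' p' φ.toRingHom rfl).toAlgebra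
  letI : Algebra E p'.ResidueField := ((algebraMap H p'.ResidueField).comp φ.toRingHom).toAlgebra
  haveI : IsScalarTower A E p'.ResidueField := IsScalarTower.of_algebraMap_eq fun a => by
    change _ = algebraMap H p'.ResidueField (φ (algebraMap A E a))
    rw [AlgHom.commutes, ← IsScalarTower.algebraMap_apply]
  haveI : IsScalarTower E t'.ResidueField p'.ResidueField := IsScalarTower.of_algebraMap_eq fun a =>
    (Ideal.ResidueField.map_algebraMap t' p' φ.toRingHom rfl a).symm
  let σ₁ : Ideal (E ⊗[A] B) := σ.comap Φ.toRingHom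
  have hσ₁ : σ₁ ∈ assPts E (E ⊗[A] B) ((E ⊗[A] B) ⊗[B] N) t' :=
    mem_assPts_of_assAt (Ideal.IsPrime.comap _) ((assAt_of_mem_assPts hσ).comap_map φ fun _ => rfl)
  obtain ⟨hσ₁p, hσ₁t⟩ := isPrime_of_mem_assPts _ _ _ hσ₁
  refine ⟨E, inferInstance, inferInstance, t', t, inferInstance, inferInstance, σ₁, hσ₁p,
    isEtaleNhd_of_point p H φ t rfl, ht', hσ₁p, hσ₁t, assAt_of_mem_assPts hσ₁, fun Q₁ hQ₁p hle₁ hQ₁ => ?_⟩
  haveI := hQ₁p
  -- the residue field of the henselization maps to that of `Q₁`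
  let g : t.ResidueField →+* (maximalIdeal H).ResidueField := Ideal.ResidueField.map t (maximalIdeal H) φ.toRingHom rfl
  have hg : Function.Bijective g := ⟨g.injective, fun x => by
    obtain ⟨_, y, hy⟩ := residue_surjective_point p H φ t rfl x
    exact ⟨_, hy⟩⟩
  let ρ₀ : H →+* Q₁.ResidueField :=
    ((Ideal.ResidueField.map t Q₁ (algebraMap E (E ⊗[A] B)) hQ₁.symm).comp
      (RingEquiv.ofBijective g hg).symm.toRingHom).comp (algebraMap H (maximalIdeal H).ResidueField)
  have hρφ : ∀ e, ρ₀ (φ e) = algebraMap E Q₁.ResidueField e := fun e => by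
    have h1 : (RingEquiv.ofBijective g hg).symm (algebraMap H (maximalIdeal H).ResidueField (φ e)) =
        algebraMap E t.ResidueField e := by
      rw [RingEquiv.symm_apply_eq]
      exact (Ideal.ResidueField.map_algebraMap t _ φ.toRingHom rfl e).symm
    change Ideal.ResidueField.map t Q₁ _ _ _ = _
    rw [show ((RingEquiv.ofBijective g hg).symm.toRingHom) ((algebraMap H (maximalIdeal H).ResidueField) (φ e)) =
      algebraMap E t.ResidueField e from h1, Ideal.ResidueField.map_algebraMap, ← IsScalarTower.algebraMap_apply]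
  have hρc : ∀ a, ρ₀ (algebraMap A H a) = algebraMap A Q₁.ResidueField a := fun a => by
    rw [← AlgHom.commutes φ a, hρφ, ← IsScalarTower.algebraMap_apply]
  let ρ : H →ₐ[A] Q₁.ResidueField := { ρ₀ with commutes' := hρc }
  let ξ : S →ₐ[A] Q₁.ResidueField :=
    Algebra.TensorProduct.lift ρ ((IsScalarTower.toAlgHom A (E ⊗[A] B) Q₁.ResidueField).comp
      Algebra.TensorProduct.includeRight) fun _ _ => Commute.all _ _
  have hξΦ : ∀ x, ξ (Φ x) = algebraMap (E ⊗[A] B) Q₁.ResidueField x := by
    intro x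
    induction x using TensorProduct.induction_on with
    | zero => simp
    | tmul e b =>
      rw [Algebra.TensorProduct.map_tmul, Algebra.TensorProduct.lift_tmul]
      change ρ₀ (φ e) * algebraMap (E ⊗[A] B) Q₁.ResidueField (1 ⊗ₜ b) = _
      rw [hρφ, IsScalarTower.algebraMap_apply E (E ⊗[A] B) Q₁.ResidueField, ← map_mul]
      congr 1
      rw [Algebra.TensorProduct.algebraMap_apply, Algebra.algebraMap_self, RingHom.id_apply,
        Algebra.TensorProduct.tmul_mul_tmul, mul_one, one_mul]
    | add a b ha hb => rw [map_add, map_add, map_add, ha, hb]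
  have hs0 : ξ s = 0 := by
    rw [← hs₁, hξΦ, Ideal.algebraMap_residueField_eq_zero]
    exact hle₁ (show Φ s₁ ∈ σ by rw [hs₁]; exact hs)
  have hw0 : ξ w = 0 := by
    refine (show (maximalIdeal H).map (algebraMap H S) ≤ RingHom.ker ξ.toRingHom from
      Ideal.map_le_iff_le_comap.2 fun h hh => ?_) hw
    change ξ (h ⊗ₜ[A] (1 : B)) = 0
    rw [Algebra.TensorProduct.lift_tmul, map_one, mul_one]
    change ρ₀ h = 0
    simp only [ρ₀, RingHom.comp_apply, Ideal.algebraMap_residueField_eq_zero.2 hh, map_zero]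
  have := congrArg ξ hsw
  rw [map_add, hs0, hw0, add_zero, map_one] at this
  exact zero_ne_one this

end Groth.Agent.RG.Pure
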