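import Groth.Agent.RG.Pure.QFImpurity
import Groth.Agent.RG.Pure.DescentFlat
import Mathlib.RingTheory.Localization.BaseChange

/-!
Impurities at quasi-finite points when only the local ring of the base is noetherian.
-/

set_option autoImplicit false
set_option linter.style.haveILetI false
set_option backward.isDefEq.respectTransparency false

universe u

open TensorProduct

namespace Groth.Agent.RG.Pure

attribute [local instance] Algebra.TensorProduct.rightAlgebra

/-- impurity data over a localisation come from the ring localised -/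
theorem exists_imp_of_localisation {A B N E E' : Type u} [CommRing A] [CommRing B] [Algebra A B] [AddCommGroup N]
    [Module B N] [Module A N] [IsScalarTower A B N] [CommRing E] [Algebra A E] [CommRing E'] [Algebra A E']
    [Algebra E E'] [IsScalarTower A E E'] (M : Submonoid E) [IsLocalization M E'] (t' t : Ideal E') [t'.IsPrime]
    [t.IsPrime] (h : ∃ P, Imp E' (E' ⊗[A] B) ((E' ⊗[A] B) ⊗[B] N) t' t P) :
    ∃ P, Imp E (E ⊗[A] B) ((E ⊗[A] B) ⊗[B] N) (t'.comap (algebraMap E E')) (t.comap (algebraMap E E')) P := by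
  obtain ⟨P, hP, hPt, hass, hno⟩ := h
  let Φ := Algebra.TensorProduct.map (IsScalarTower.toAlgHom A E E') (AlgHom.id A B)
  let u' := t'.comap (algebraMap E E')
  let K := t'.ResidueField
  letI : Algebra u'.ResidueField K := (Ideal.ResidueField.map u' t' (algebraMap E E') rfl).toAlgebra
  haveI : IsScalarTower E u'.ResidueField K := IsScalarTower.of_algebraMap_eq fun x => by
    rw [RingHom.algebraMap_toAlgebra, Ideal.ResidueField.map_algebraMap, ← IsScalarTower.algebraMap_apply]
  have hσ : AssAt E ((E ⊗[A] B) ⊗[B] N) K (P.comap Φ.toRingHom) :=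
    hass.comap_map (IsScalarTower.toAlgHom A E E') fun a => (IsScalarTower.algebraMap_apply E E' K a).symm
  haveI := hP
  have hσ' := assAt_of_mem_assPts (mem_assPts_of_assAt (p := u') (hP.comap Φ.toRingHom) hσ)
  letI : Algebra (E ⊗[A] B) (E' ⊗[A] B) := Φ.toRingHom.toAlgebra
  have hc : Φ.toRingHom.comp (algebraMap E (E ⊗[A] B)) = (algebraMap E' (E' ⊗[A] B)).comp (algebraMap E E') :=
    RingHom.ext fun x => by
      change Φ (x ⊗ₜ[A] (1 : B)) = algebraMap E E' x ⊗ₜ[A] (1 : B)
      rw [Algebra.TensorProduct.map_tmul, AlgHom.id_apply]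
      rfl
  haveI : IsScalarTower E (E ⊗[A] B) (E' ⊗[A] B) := IsScalarTower.of_algebraMap_eq' (by
    rw [IsScalarTower.algebraMap_eq E E' (E' ⊗[A] B), ← hc]; rfl)
  haveI hloc : IsLocalization (Algebra.algebraMapSubmonoid (E ⊗[A] B) M) (E' ⊗[A] B) :=
    IsLocalization.tensorProduct_tensorProduct A B M E' (RingHom.ext fun b => by
      change Φ ((1 : E) ⊗ₜ[A] b) = (1 : E') ⊗ₜ[A] b
      rw [Algebra.TensorProduct.map_tmul, map_one, AlgHom.id_apply])
  refine ⟨P.comap Φ.toRingHom, hP.comap _, ?_, hσ', fun P' hP' hle hP't => ?_⟩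
  · rw [Ideal.comap_comap, hc, ← Ideal.comap_comap, hPt]
  haveI := hP'
  have hdis : Disjoint (Algebra.algebraMapSubmonoid (E ⊗[A] B) M : Set (E ⊗[A] B)) (P' : Set (E ⊗[A] B)) := by
    rw [Set.disjoint_left]
    rintro _ ⟨x, hx, rfl⟩ hxP
    exact (‹t.IsPrime›).ne_top (Ideal.eq_top_of_isUnit_mem t (show x ∈ t.comap (algebraMap E E') from hP't ▸ hxP)
      (IsLocalization.map_units E' (⟨x, hx⟩ : M)))
  let Q := P'.map (algebraMap (E ⊗[A] B) (E' ⊗[A] B))
  haveI hQ : Q.IsPrime := IsLocalization.isPrime_of_isPrime_disjoint _ _ P' hP' hdis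
  refine hno Q hQ ?_ ?_
  · rw [← IsLocalization.map_under (Algebra.algebraMapSubmonoid (E ⊗[A] B) M) (E' ⊗[A] B) P]
    exact Ideal.map_mono hle
  · rw [← IsLocalization.map_under M E' (Q.comap (algebraMap E' (E' ⊗[A] B))), ← IsLocalization.map_under M E' t]
    congr 1
    have hQc : Q.comap Φ.toRingHom = P' := IsLocalization.under_map_of_isPrime_disjoint _ _ hP' hdis
    rw [Ideal.under_def, Ideal.under_def, Ideal.comap_comap, ← hc, ← Ideal.comap_comap, hQc, hP't]

/-- impurity data at a closed point of the fibre give quasi-finite ones when the local ring is noetherian -/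
theorem exists_qf_imp_of_local {A B N E : Type u} [CommRing A] [CommRing B] [Algebra A B] [Algebra.FiniteType A B]
    [AddCommGroup N] [Module B N] [Module A N] [IsScalarTower A B N] [Module.Finite B N] [CommRing E] [Algebra A E]
    [Algebra.FiniteType A E] {p : Ideal A} [p.IsPrime] [IsNoetherianRing (Localization.AtPrime p)] {u' m : Ideal E}
    [u'.IsPrime] [m.IsPrime] (hle : u' ≤ m) (hmp : m.comap (algebraMap A E) = p)
    (htop : ∀ r : Ideal E, r.IsPrime → r.comap (algebraMap A E) = p → m ≤ r → r = m)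
    {σ : Ideal (E ⊗[A] B)} (hI : Imp E (E ⊗[A] B) ((E ⊗[A] B) ⊗[B] N) u' m σ) :
    FlatCA.HasImpurity A B N p (fun A' _ _ t => ∃ _ : t.IsPrime, Algebra.FiniteType A A' ∧ Algebra.QuasiFiniteAt A t) := by
  let L := Localization.AtPrime p
  let EL := L ⊗[A] E
  let M := Algebra.algebraMapSubmonoid E p.primeCompl
  haveI : IsLocalization M EL := IsLocalization.tensorRight L p.primeCompl
  have hdisM : Disjoint (M : Set E) (m : Set E) := by
    rw [Set.disjoint_left]
    rintro _ ⟨a, ha, rfl⟩ ham
    exact ha (hmp.le ham)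
  let mL := m.map (algebraMap E EL)
  haveI : mL.IsPrime := IsLocalization.isPrime_of_isPrime_disjoint M EL m inferInstance hdisM
  have hmc : mL.comap (algebraMap E EL) = m := IsLocalization.under_map_of_isPrime_disjoint M EL inferInstance hdisM
  haveI : mL.LiesOver m := ⟨hmc.symm⟩
  haveI : Module.Flat E EL := IsLocalization.flat EL M
  haveI : Module.Flat EL (Localization.AtPrime mL) := IsLocalization.flat _ mL.primeCompl
  haveI : Module.Flat E (Localization.AtPrime mL) := Module.Flat.trans E EL _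
  obtain ⟨s', _, hs'le, Q, hQ⟩ := exists_imp_lift (B := B) (N := N) (A₂ := EL) u' m hle mL ⟨σ, hI⟩
  let pL := IsLocalRing.maximalIdeal L
  have hover : ∀ r : Ideal EL, (r.comap (algebraMap L EL)).comap (algebraMap A L) =
      (r.comap (algebraMap E EL)).comap (algebraMap A E) := fun r => by
    rw [Ideal.comap_comap, Ideal.comap_comap, ← IsScalarTower.algebraMap_eq, ← IsScalarTower.algebraMap_eq]
  have hmpL : mL.comap (algebraMap L EL) = pL := by
    rw [← IsLocalization.map_under p.primeCompl L (mL.comap (algebraMap L EL)), Ideal.under_def, hover, hmc, hmp]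
    exact Localization.AtPrime.map_eq_maximalIdeal
  have htopL : ∀ r : Ideal EL, r.IsPrime → r.comap (algebraMap L EL) = pL → mL ≤ r → r = mL := by
    intro r hr hrp hle'
    rw [← IsLocalization.map_under M EL r, Ideal.under_def, htop (r.comap (algebraMap E EL)) (hr.comap _) ?_ (hmc ▸ Ideal.comap_mono hle')]
    rw [← hover, hrp]
    exact Localization.AtPrime.under_maximalIdeal
  obtain ⟨q, _, t, _, htc, hqf, hP⟩ := exists_qf_imp (L := L) hs'le hmpL htopL hQ
  let q₁ := q.comap (algebraMap E EL)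
  letI : Algebra (E ⧸ q₁) (EL ⧸ q) := (Ideal.quotientMap q (algebraMap E EL) le_rfl).toAlgebra
  haveI : IsScalarTower A (E ⧸ q₁) (EL ⧸ q) := IsScalarTower.of_algebraMap_eq fun a => by
    rw [RingHom.algebraMap_toAlgebra, IsScalarTower.algebraMap_apply A E (E ⧸ q₁), Ideal.Quotient.algebraMap_eq,
      Ideal.quotientMap_mk, ← IsScalarTower.algebraMap_apply]
    rfl
  let M₁ := M.map (Ideal.Quotient.mk q₁)
  haveI : IsLocalization M₁ (EL ⧸ q) :=
    IsLocalization.of_surjective M EL (Ideal.Quotient.mk q₁) Ideal.Quotient.mk_surjective (Ideal.Quotient.mk q)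
      Ideal.Quotient.mk_surjective rfl (by
        rw [Ideal.mk_ker, Ideal.mk_ker]
        exact (IsLocalization.map_under M EL q).ge)
  obtain ⟨P₁, hP₁⟩ := exists_imp_of_localisation (E := E ⧸ q₁) M₁ _ t hP
  let t₁ := t.comap (algebraMap (E ⧸ q₁) (EL ⧸ q))
  have ht₁ : t₁.comap (Ideal.Quotient.mk q₁) = m := by
    rw [Ideal.comap_comap, show (algebraMap (E ⧸ q₁) (EL ⧸ q)).comp (Ideal.Quotient.mk q₁) =
      (Ideal.Quotient.mk q).comp (algebraMap E EL) from rfl, ← Ideal.comap_comap, htc, hmc]
  have hlies : t₁.LiesOver p := ⟨by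
    rw [Ideal.under_def, IsScalarTower.algebraMap_eq A E (E ⧸ q₁), ← Ideal.comap_comap, Ideal.Quotient.algebraMap_eq,
      ht₁, hmp]⟩
  refine hasImpurity_of_imp (Q := fun A' _ _ t => ∃ _ : t.IsPrime, Algebra.FiniteType A A' ∧ Algebra.QuasiFiniteAt A t)
    _ t₁ (Ideal.comap_mono bot_le) hlies hP₁ ⟨inferInstance, inferInstance, ?_⟩
  let T := Localization.AtPrime t
  haveI : Algebra.QuasiFinite L T := hqf
  haveI : Algebra.QuasiFinite A L := Algebra.QuasiFinite.of_isLocalization p.primeCompl
  haveI : Algebra.QuasiFinite A T := Algebra.QuasiFinite.trans A L T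
  haveI : IsLocalization.AtPrime T t₁ :=
    IsLocalization.isLocalization_isLocalization_atPrime_isLocalization M₁ T t
  let e : T ≃ₐ[E ⧸ q₁] Localization.AtPrime t₁ := IsLocalization.algEquiv t₁.primeCompl _ _
  exact Algebra.QuasiFinite.of_surjective_algHom ((e.toAlgHom).restrictScalars A) e.surjective

end Groth.Agent.RG.Pure
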