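import Groth.Agent.RG.Pure.Transfer
import Mathlib.RingTheory.Jacobson.Ring
import Mathlib.RingTheory.FinitePresentation

/-!
# Impurities come from finitely presented base changes and closed points of the fibre
-/

set_option autoImplicit false
set_option linter.style.haveILetI false
set_option backward.isDefEq.respectTransparency false

universe u

open TensorProduct

namespace Groth.Agent.RG.Pure

attribute [local instance] Algebra.TensorProduct.rightAlgebra

/-- finitely many scalars lift a tensor -/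
theorem exists_finset_lift {A A' B : Type u} [CommRing A] [CommRing A'] [CommRing B] [Algebra A A'] [Algebra A B]
    (w : A' ⊗[A] B) : ∃ Z : Finset A', ∀ (E : Type u) [CommRing E] [Algebra A E] (φ : E →ₐ[A] A'),
      (∀ z ∈ Z, z ∈ Set.range φ) → ∃ w₁ : E ⊗[A] B, Algebra.TensorProduct.map φ (AlgHom.id A B) w₁ = w := by
  classical
  induction w using TensorProduct.induction_on with
  | zero => exact ⟨∅, fun E _ _ φ _ => ⟨0, map_zero _⟩⟩
  | tmul a b =>
    refine ⟨{a}, fun E _ _ φ h => ?_⟩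
    obtain ⟨e, he⟩ := h a (Finset.mem_singleton_self a)
    exact ⟨e ⊗ₜ b, by rw [Algebra.TensorProduct.map_tmul, he]; rfl⟩
  | add x y hx hy =>
    obtain ⟨Z₁, h₁⟩ := hx
    obtain ⟨Z₂, h₂⟩ := hy
    refine ⟨Z₁ ∪ Z₂, fun E _ _ φ h => ?_⟩
    obtain ⟨u, hu⟩ := h₁ E φ fun z hz => h z (Finset.mem_union_left _ hz)
    obtain ⟨v, hv⟩ := h₂ E φ fun z hz => h z (Finset.mem_union_right _ hz)
    exact ⟨u + v, by rw [map_add, hu, hv]⟩

/-- finitely many scalars lift an element of an extended ideal -/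
theorem exists_finset_lift_mem {A A' B : Type u} [CommRing A] [CommRing A'] [CommRing B] [Algebra A A'] [Algebra A B]
    (t : Ideal A') {w : A' ⊗[A] B} (hw : w ∈ t.map (algebraMap A' (A' ⊗[A] B))) :
    ∃ Z : Finset A', ∀ (E : Type u) [CommRing E] [Algebra A E] (φ : E →ₐ[A] A'), (∀ z ∈ Z, z ∈ Set.range φ) →
      ∃ w₁ ∈ (t.comap φ.toRingHom).map (algebraMap E (E ⊗[A] B)),
        Algebra.TensorProduct.map φ (AlgHom.id A B) w₁ = w := by
  classical
  induction hw using Submodule.span_induction with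
  | mem w hw =>
    obtain ⟨a, ha, rfl⟩ := hw
    refine ⟨{a}, fun E _ _ φ h => ?_⟩
    obtain ⟨e, he⟩ := h a (Finset.mem_singleton_self a)
    refine ⟨algebraMap E (E ⊗[A] B) e, Ideal.mem_map_of_mem _ (show φ e ∈ t by rwa [he]), ?_⟩
    rw [Algebra.TensorProduct.algebraMap_apply, Algebra.algebraMap_self, RingHom.id_apply,
      Algebra.TensorProduct.map_tmul, he, map_one]
    rfl
  | zero => exact ⟨∅, fun E _ _ φ _ => ⟨0, zero_mem _, map_zero _⟩⟩
  | add x y _ _ hx hy =>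
    obtain ⟨Z₁, h₁⟩ := hx
    obtain ⟨Z₂, h₂⟩ := hy
    refine ⟨Z₁ ∪ Z₂, fun E _ _ φ h => ?_⟩
    obtain ⟨u, hum, hu⟩ := h₁ E φ fun z hz => h z (Finset.mem_union_left _ hz)
    obtain ⟨v, hvm, hv⟩ := h₂ E φ fun z hz => h z (Finset.mem_union_right _ hz)
    exact ⟨u + v, add_mem hum hvm, by rw [map_add, hu, hv]⟩
  | smul c x _ hx =>
    obtain ⟨Z₁, h₁⟩ := hx
    obtain ⟨Z₂, h₂⟩ := exists_finset_lift c
    refine ⟨Z₁ ∪ Z₂, fun E _ _ φ h => ?_⟩
    obtain ⟨u, hum, hu⟩ := h₁ E φ fun z hz => h z (Finset.mem_union_left _ hz)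
    obtain ⟨v, hv⟩ := h₂ E φ fun z hz => h z (Finset.mem_union_right _ hz)
    exact ⟨v * u, Ideal.mul_mem_left _ _ hum, by rw [map_mul, hu, hv, smul_eq_mul]⟩

/-- impurity data over any base change come from data over finitely many variables -/
theorem exists_model_impurity {A B N : Type u} [CommRing A] [CommRing B] [Algebra A B] [AddCommGroup N] [Module B N]
    [Module A N] [IsScalarTower A B N] {A' : Type u} [CommRing A'] [Algebra A A'] (t' t : Ideal A') [t'.IsPrime]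
    [t.IsPrime] (hle : t' ≤ t) (h : ∃ P, Imp A' (A' ⊗[A] B) ((A' ⊗[A] B) ⊗[B] N) t' t P) :
    ∃ Z : Finset A', ∀ (E : Type u) [CommRing E] [Algebra A E] (φ : E →ₐ[A] A'), (∀ z ∈ Z, z ∈ Set.range φ) →
      ∃ (g : E) (σ : Ideal (E ⊗[A] B)), g ∉ t.comap φ.toRingHom ∧ σ.IsPrime ∧
        σ.comap (algebraMap E (E ⊗[A] B)) = t'.comap φ.toRingHom ∧
        AssAt E ((E ⊗[A] B) ⊗[B] N) (t'.comap φ.toRingHom).ResidueField σ ∧
        algebraMap E (E ⊗[A] B) g ∈ σ ⊔ (t.comap φ.toRingHom).map (algebraMap E (E ⊗[A] B)) := by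
  classical
  obtain ⟨P, hP, hPt, hass, hno⟩ := h
  haveI := hP
  let S := A' ⊗[A] B
  obtain ⟨s, hst, π, hπ, μ, hμ, hsum⟩ : ∃ s ∉ t, ∃ π ∈ P, ∃ μ ∈ t.map (algebraMap A' S),
      π + μ = algebraMap A' S s := by
    by_contra hcon
    push Not at hcon
    obtain ⟨P', hP', hle', hdis⟩ := (P ⊔ t.map (algebraMap A' S)).exists_le_prime_disjoint
      (Submonoid.map (algebraMap A' S) t.primeCompl) (by
        rw [Set.disjoint_left]
        rintro z hz ⟨s, hs, rfl⟩
        obtain ⟨u, hu, τ, hτ, e⟩ := Submodule.mem_sup.1 hz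
        exact hcon s hs u hu τ hτ e)
    refine hno P' hP' (le_sup_left.trans hle') (le_antisymm (fun a ha => ?_) fun a ha => ?_)
    · by_contra hat
      exact Set.disjoint_left.1 hdis ha ⟨a, hat, rfl⟩
    · exact hle' (Ideal.mem_sup_right (Ideal.mem_map_of_mem _ ha))
  obtain ⟨Z₁, h₁⟩ := exists_finset_lift (B := B) π
  obtain ⟨Z₂, h₂⟩ := exists_finset_lift_mem t hμ
  refine ⟨insert s (Z₁ ∪ Z₂), fun E _ _ φ hφ => ?_⟩
  obtain ⟨g, hg⟩ := hφ s (Finset.mem_insert_self _ _)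
  obtain ⟨π₁, hπ₁⟩ := h₁ E φ fun z hz => hφ z (Finset.mem_insert_of_mem (Finset.mem_union_left _ hz))
  obtain ⟨μ₁, hμ₁m, hμ₁⟩ := h₂ E φ fun z hz => hφ z (Finset.mem_insert_of_mem (Finset.mem_union_right _ hz))
  let Φ := Algebra.TensorProduct.map φ (AlgHom.id A B)
  let u' := t'.comap φ.toRingHom
  let K := t'.ResidueField
  letI : Algebra u'.ResidueField K := (Ideal.ResidueField.map u' t' φ.toRingHom rfl).toAlgebra
  letI : Algebra E K := ((algebraMap A' K).comp φ.toRingHom).toAlgebra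
  haveI : IsScalarTower A E K := IsScalarTower.of_algebraMap_eq fun a => by
    change _ = algebraMap A' K (φ (algebraMap A E a))
    rw [AlgHom.commutes, ← IsScalarTower.algebraMap_apply]
  haveI : IsScalarTower E u'.ResidueField K := IsScalarTower.of_algebraMap_eq fun a =>
    (Ideal.ResidueField.map_algebraMap u' t' φ.toRingHom rfl a).symm
  have hσ : AssAt E ((E ⊗[A] B) ⊗[B] N) K (P.comap Φ.toRingHom) := hass.comap_map φ fun _ => rfl
  have hc : Φ.toRingHom.comp (algebraMap E (E ⊗[A] B)) = (algebraMap A' S).comp φ.toRingHom := RingHom.ext fun x => by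
    change Φ (x ⊗ₜ[A] (1 : B)) = φ x ⊗ₜ[A] (1 : B)
    rw [Algebra.TensorProduct.map_tmul, map_one]
  refine ⟨g, P.comap Φ.toRingHom, fun h => hst (hg ▸ h), hP.comap _, ?_,
    assAt_of_mem_assPts (mem_assPts_of_assAt (p := u') (hP.comap Φ.toRingHom) hσ), ?_⟩
  · rw [Ideal.comap_comap, hc, ← Ideal.comap_comap, hPt]
  refine Submodule.mem_sup.2 ⟨algebraMap E (E ⊗[A] B) g - μ₁, ?_, μ₁, hμ₁m, sub_add_cancel _ _⟩
  change Φ (algebraMap E (E ⊗[A] B) g - μ₁) ∈ P
  rw [map_sub, show Φ (algebraMap E (E ⊗[A] B) g) = algebraMap A' S (φ g) from RingHom.congr_fun hc g, hg, hμ₁,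
    ← hsum, add_sub_cancel_right]
  exact hπ

/-- points of a finite type fibre avoiding an element specialise to closed ones avoiding it -/
theorem exists_closed_point {A E : Type u} [CommRing A] [CommRing E] [Algebra A E] [Algebra.FiniteType A E] {p : Ideal A}
    [p.IsPrime] (t : Ideal E) [t.IsPrime] (htp : t.comap (algebraMap A E) = p) {g : E} (hg : g ∉ t) :
    ∃ (m : Ideal E) (_ : m.IsPrime), t ≤ m ∧ g ∉ m ∧ m.comap (algebraMap A E) = p ∧ (FlatCA.fiberIdeal p m).IsMaximal := by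
  let F := p.Fiber E
  haveI : IsJacobsonRing F := isJacobsonRing_of_finiteType (A := p.ResidueField)
  let ι := (Algebra.TensorProduct.includeRight : E →ₐ[A] F).toRingHom
  obtain ⟨Q', hQ'⟩ := (PrimeSpectrum.preimageEquivFiber A E ⟨p, inferInstance⟩).symm.surjective
    ⟨⟨t, ‹_›⟩, PrimeSpectrum.ext htp⟩
  have hQc : Q'.asIdeal.comap ι = t := congrArg (fun z => z.1.asIdeal) hQ'
  have hj : Q'.asIdeal.jacobson = Q'.asIdeal :=
    (isJacobsonRing_iff_prime_eq (R := F)).1 inferInstance _ Q'.2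
  have hgQ : ι g ∉ Q'.asIdeal.jacobson := by rw [hj, ← Ideal.mem_comap, hQc]; exact hg
  simp only [Ideal.jacobson, Submodule.mem_sInf, Set.mem_setOf_eq, and_imp, not_forall, exists_prop] at hgQ
  obtain ⟨M, hle, hM, hgM⟩ := hgQ
  haveI := hM.isPrime
  refine ⟨Ideal.comap ι M, hM.isPrime.comap ι, hQc ▸ Ideal.comap_mono hle, hgM, ?_, ?_⟩
  · rw [Ideal.comap_comap]
    have : ι.comp (algebraMap A E) = algebraMap A F := RingHom.ext fun r => Algebra.TensorProduct.includeRight.commutes r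
    rw [this]
    exact (Ideal.over_def M p).symm
  · have : FlatCA.fiberIdeal p (Ideal.comap ι M) = M := fiberIdeal_comap A E p M
    rw [this]
    exact hM

/-- impurities come from finitely presented base changes and closed points -/
theorem exists_fp_impurity {A B N : Type u} [CommRing A] [CommRing B] [Algebra A B] [AddCommGroup N] [Module B N]
    [Module A N] [IsScalarTower A B N] {A' : Type u} [CommRing A'] [Algebra A A'] {p : Ideal A} [p.IsPrime]
    (t' t : Ideal A') [t'.IsPrime] [t.IsPrime] (hle : t' ≤ t) (htp : t.comap (algebraMap A A') = p)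
    (h : ∃ P, Imp A' (A' ⊗[A] B) ((A' ⊗[A] B) ⊗[B] N) t' t P) :
    ∃ (E : Type u) (_ : CommRing E) (_ : Algebra A E) (u' m : Ideal E) (_ : u'.IsPrime) (_ : m.IsPrime)
      (σ : Ideal (E ⊗[A] B)) (_ : σ.IsPrime), Algebra.FinitePresentation A E ∧ (FlatCA.fiberIdeal p m).IsMaximal ∧
      u' ≤ m ∧ m.LiesOver p ∧ Imp E (E ⊗[A] B) ((E ⊗[A] B) ⊗[B] N) u' m σ := by
  classical
  obtain ⟨Z, hZ⟩ := exists_model_impurity t' t hle h
  obtain ⟨E, _, _, hfp, φ, hφ⟩ : ∃ (E : Type u) (_ : CommRing E) (_ : Algebra A E) (_ : Algebra.FinitePresentation A E)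
      (φ : E →ₐ[A] A'), ∀ z ∈ Z, z ∈ Set.range φ :=
    ⟨MvPolynomial Z A, inferInstance, inferInstance, inferInstance, MvPolynomial.aeval fun z => z.1,
      fun z hz => ⟨MvPolynomial.X ⟨z, hz⟩, MvPolynomial.aeval_X _ _⟩⟩
  haveI := hfp
  obtain ⟨g, σ, hg, hσp, hσc, hass, hgmem⟩ := hZ E φ hφ
  haveI := hσp
  obtain ⟨m, hm, htm, hgm, hmp, hmax⟩ := exists_closed_point (p := p) (t.comap φ.toRingHom)
    (by rw [Ideal.comap_comap, AlgHom.toRingHom_eq_coe, AlgHom.comp_algebraMap]; exact htp) hg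
  refine ⟨E, inferInstance, inferInstance, t'.comap φ.toRingHom, m, inferInstance, hm, σ, hσp, inferInstance, hmax,
    (Ideal.comap_mono hle).trans htm, ⟨hmp.symm⟩, hσp, hσc, hass, fun P' hP' hσP' hP'm => hgm ?_⟩
  rw [← hP'm, Ideal.mem_comap]
  exact (sup_le hσP' ((Ideal.map_mono htm).trans (Ideal.map_le_iff_le_comap.2 hP'm.ge))) hgmem

end Groth.Agent.RG.Pure
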