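import Groth.Agent.RG.Pure.GenericKilled
import Groth.Agent.RG.Pure.ModelImpurity
import Groth.Agent.RG.Pure.UnivPure
import Groth.Agent.Curves.Basic
import Mathlib.RingTheory.ZariskisMainTheorem

/-!
Impurities over a noetherian base are already seen at points which are quasi-finite over the base.
-/

set_option autoImplicit false
set_option linter.style.haveILetI false
set_option backward.isDefEq.respectTransparency false

universe u

open TensorProduct

namespace Groth.Agent.RG.Pure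

attribute [local instance] Algebra.TensorProduct.rightAlgebra

/-- Joint kills of a fibre section, read as a kernel on the base change. -/
theorem killed_iff {E D S X : Type u} [CommRing E] [CommRing D] [Algebra E D] [CommRing S] [Algebra E S]
    [AddCommGroup X] [Module S X] [Module E X] [IsScalarTower E S X] {n : ℕ} (h : Fin n → S) (K : Type u) [Field K]
    [Algebra E K] [Algebra D K] [IsScalarTower E D K] :
    ¬ Function.Injective (((LinearMap.pi fun i => LinearMap.lsmul (D ⊗[E] S) ((D ⊗[E] S) ⊗[S] X) ((1 : D) ⊗ₜ[E] h i)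
        : (D ⊗[E] S) ⊗[S] X →ₗ[D ⊗[E] S] (Fin n → (D ⊗[E] S) ⊗[S] X)).restrictScalars D).lTensor K) ↔
      ∃ z : K ⊗[E] X, z ≠ 0 ∧ ∀ i, act E K (h i) z = 0 := by
  classical
  set μ := (LinearMap.pi fun i => LinearMap.lsmul (D ⊗[E] S) ((D ⊗[E] S) ⊗[S] X) ((1 : D) ⊗ₜ[E] h i)
    : (D ⊗[E] S) ⊗[S] X →ₗ[D ⊗[E] S] (Fin n → (D ⊗[E] S) ⊗[S] X)) with hμdef
  have hμ : ∀ (y : K ⊗[D] ((D ⊗[E] S) ⊗[S] X)) (i : Fin n),
      TensorProduct.piRight D K K (fun _ : Fin n => (D ⊗[E] S) ⊗[S] X) ((μ.restrictScalars D).lTensor K y) i =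
        act D K ((1 : D) ⊗ₜ[E] h i) y := by
    intro y i
    induction y using TensorProduct.induction_on with
    | zero => simp
    | tmul k x => simp [hμdef, act_tmul]
    | add a b ha hb => simp only [map_add, Pi.add_apply, ha, hb]
  rw [injective_iff_map_eq_zero]
  push Not
  constructor
  · rintro ⟨y, hy, hy0⟩
    refine ⟨eBC D K y, fun h0 => hy0 ((eBC D K).map_eq_zero_iff.1 h0), fun i => ?_⟩
    have h1 := hμ y i
    rw [hy, map_zero, Pi.zero_apply] at h1
    have h2 := eBC_act D K (1 : D) (h i) y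
    rw [← h1, map_zero, map_one, one_smul] at h2
    exact h2.symm
  · rintro ⟨z, hz, hz0⟩
    refine ⟨(eBC D K).symm z, (TensorProduct.piRight D K K (fun _ : Fin n => (D ⊗[E] S) ⊗[S] X)).injective (funext fun i => ?_),
      fun h0 => hz ((eBC D K).symm.map_eq_zero_iff.1 h0)⟩
    rw [hμ, map_zero, Pi.zero_apply]
    apply (eBC D K).injective
    rw [eBC_act, LinearEquiv.apply_symm_apply, hz0, smul_zero, map_zero]

/-- A fibre section killed by finitely many elements spreads over a neighbourhood in the closure of its point. -/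
theorem exists_killed_open {E S X : Type u} [CommRing E] [IsNoetherianRing E] [CommRing S] [Algebra E S]
    [Algebra.FiniteType E S] [AddCommGroup X] [Module S X] [Module E X] [IsScalarTower E S X] [Module.Finite S X]
    (u' : Ideal E) [u'.IsPrime] {n : ℕ} (h : Fin n → S) (z₀ : u'.ResidueField ⊗[E] X) (hz₀ : z₀ ≠ 0)
    (hk : ∀ i, act E u'.ResidueField (h i) z₀ = 0) :
    ∃ f ∉ u', ∀ (K : Type u) [Field K] [Algebra E K], u' ≤ RingHom.ker (algebraMap E K) → algebraMap E K f ≠ 0 →
      ∃ z : K ⊗[E] X, z ≠ 0 ∧ ∀ i, act E K (h i) z = 0 := by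
  classical
  obtain ⟨f, hf0, hf⟩ := exists_generic_kernel _ u'.ResidueField u'.injective_algebraMap_quotient_residueField
    ((killed_iff (D := E ⧸ u') h _).2 ⟨z₀, hz₀, hk⟩)
  obtain ⟨f, rfl⟩ := Ideal.Quotient.mk_surjective f
  refine ⟨f, fun hf' => hf0 (Ideal.Quotient.eq_zero_iff_mem.2 hf'), fun K _ _ hker hfK => ?_⟩
  letI : Algebra (E ⧸ u') K := (Ideal.Quotient.lift u' (algebraMap E K) fun a ha => hker ha).toAlgebra
  haveI : IsScalarTower E (E ⧸ u') K := IsScalarTower.of_algebraMap_eq fun _ => rfl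
  exact (killed_iff (D := E ⧸ u') h K).1 (hf K hfK)

/-- An impurity passes to a quotient by a prime at which a killed section survives. -/
theorem exists_imp_quotient {A B N E : Type u} [CommRing A] [CommRing B] [Algebra A B] [Algebra.FiniteType A B]
    [AddCommGroup N] [Module B N] [Module A N] [IsScalarTower A B N] [Module.Finite B N] [CommRing E] [Algebra A E]
    {σ : Ideal (E ⊗[A] B)} {n : ℕ} (h : Fin n → E ⊗[A] B) (hspan : σ ≤ Ideal.span (Set.range h)) {m : Ideal E}
    (hno : ∀ P' : Ideal (E ⊗[A] B), P'.IsPrime → σ ≤ P' → P'.comap (algebraMap E (E ⊗[A] B)) ≠ m)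
    (q : Ideal E) [q.IsPrime] (t : Ideal (E ⧸ q)) [t.IsPrime] (ht : t.comap (Ideal.Quotient.mk q) = m)
    (hkill : ∃ z : (⊥ : Ideal (E ⧸ q)).ResidueField ⊗[E] ((E ⊗[A] B) ⊗[B] N), z ≠ 0 ∧
      ∀ i, act E (⊥ : Ideal (E ⧸ q)).ResidueField (h i) z = 0) :
    ∃ P, Imp (E ⧸ q) ((E ⧸ q) ⊗[A] B) (((E ⧸ q) ⊗[A] B) ⊗[B] N) (⊥ : Ideal (E ⧸ q)) t P := by
  classical
  obtain ⟨z, hz, hk⟩ := hkill
  let A'' := E ⧸ q
  let K := (⊥ : Ideal A'').ResidueField
  let φ : E →ₐ[A] A'' := Ideal.Quotient.mkₐ A q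
  let Φ := Algebra.TensorProduct.map φ (AlgHom.id A B)
  let e := (eBC (A := A) (B := B) (N := N) A'' K).trans (eBC (A := A) (B := B) (N := N) E K).symm
  have he : ∀ (s : E ⊗[A] B) y, e (act A'' K (Φ s) y) = act E K s (e y) := by
    intro s y
    apply (eBC (A := A) (B := B) (N := N) E K).injective
    induction s using TensorProduct.induction_on with
    | zero =>
      rw [map_zero, show (0 : A'' ⊗[A] B) = algebraMap A'' _ 0 from (map_zero _).symm, act_algebraMap, map_zero,
        zero_smul, map_zero, map_zero, show (0 : E ⊗[A] B) = algebraMap E _ 0 from (map_zero _).symm, act_algebraMap,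
        map_zero, zero_smul, map_zero]
    | tmul a b =>
      rw [LinearEquiv.trans_apply, LinearEquiv.apply_symm_apply,
        show Φ (a ⊗ₜ[A] b) = φ a ⊗ₜ[A] b from Algebra.TensorProduct.map_tmul .., eBC_act, eBC_act,
        LinearEquiv.trans_apply, LinearEquiv.apply_symm_apply]
      rfl
    | add x y hx hy => simp only [map_add, act_add, hx, hy]
  have hz' : e.symm z ≠ 0 := fun h0 => hz (e.symm.map_eq_zero_iff.1 h0)
  have hk' : ∀ i, act A'' K (Φ (h i)) (e.symm z) = 0 := fun i => e.injective (by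
    rw [he, LinearEquiv.apply_symm_apply, hk, map_zero])
  obtain ⟨P, hPa, hP⟩ : ∃ P ∈ assPts A'' (A'' ⊗[A] B) ((A'' ⊗[A] B) ⊗[B] N) (⊥ : Ideal A''), ∀ i, Φ (h i) ∈ P := by
    by_contra hcon
    push Not at hcon
    exact hz' (Loc.eq_zero_of_assPts (fun i => Φ (h i)) hcon _ hk')
  obtain ⟨hPp, -⟩ := isPrime_of_mem_assPts _ _ _ hPa
  have hass := assAt_of_mem_assPts hPa
  refine ⟨P, hPp, (hass.comap_eq hPp).trans (Ideal.ker_algebraMap_residueField _), hass, fun P' hP' hle hc => ?_⟩
  refine hno (P'.comap Φ.toRingHom) (hP'.comap _) (hspan.trans (Ideal.span_le.2 ?_)) ?_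
  · rintro _ ⟨i, rfl⟩
    exact hle (hP i)
  · rw [Ideal.comap_comap, show Φ.toRingHom.comp (algebraMap E (E ⊗[A] B)) =
      (algebraMap A'' (A'' ⊗[A] B)).comp (Ideal.Quotient.mk q) from RingHom.ext fun x => ?_, ← Ideal.comap_comap, hc, ht]
    change Φ (x ⊗ₜ[A] (1 : B)) = Ideal.Quotient.mk q x ⊗ₜ[A] (1 : B)
    rw [Algebra.TensorProduct.map_tmul, map_one]
    rfl

/-- Over an algebra killed by `p` there is no impurity at a point over `p`. -/
theorem not_imp_of_comap_eq {A B N A' : Type u} [CommRing A] [CommRing B] [Algebra A B] [AddCommGroup N] [Module B N]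
    [Module A N] [IsScalarTower A B N] [CommRing A'] [Algebra A A'] {p : Ideal A} [p.IsPrime]
    (hp : ∀ a ∈ p, algebraMap A A' a = 0) (t' t : Ideal A') [t'.IsPrime] [t.IsPrime] (hle : t' ≤ t)
    (htp : t.comap (algebraMap A A') = p) (P : Ideal (A' ⊗[A] B)) :
    ¬ Imp A' (A' ⊗[A] B) ((A' ⊗[A] B) ⊗[B] N) t' t P := by
  intro hI
  haveI := hI.1
  let L := Localization.AtPrime t
  let κ := p.ResidueField
  let N' := (A' ⊗[A] B) ⊗[B] N
  letI : Algebra κ L := (Ideal.ResidueField.lift p ((algebraMap A' L).comp (algebraMap A A'))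
    (fun a ha => by rw [RingHom.mem_ker, RingHom.comp_apply, hp a ha, map_zero]) fun a ha => by
      show IsUnit _
      rw [RingHom.comp_apply]
      exact IsLocalization.map_units L (⟨algebraMap A A' a, fun h => ha (htp.le h)⟩ : t.primeCompl)).toAlgebra
  haveI : IsScalarTower A κ L := IsScalarTower.of_algebraMap_eq fun a => by
    rw [RingHom.algebraMap_toAlgebra, Ideal.ResidueField.lift_algebraMap]
    exact IsScalarTower.algebraMap_apply A A' L a
  let e₀ : L ⊗[A'] N' ≃ₗ[L] L ⊗[κ] (κ ⊗[A] N) :=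
    ((AlgebraTensorModule.congr (LinearEquiv.refl L L) (Algebra.IsPushout.cancelBaseChange A A' B (A' ⊗[A] B) N)).trans
      (AlgebraTensorModule.cancelBaseChange A A' L L N)).trans (AlgebraTensorModule.cancelBaseChange A κ L L N).symm
  haveI : Module.Projective L (LocalizedModule t.primeCompl N') :=
    Module.Projective.of_equiv (((LocalizedModule.equivTensorProduct t.primeCompl N').trans e₀).symm)
  exact isUnivPureAlong_of_projective (A := A') (B := A' ⊗[A] B) N' t A' (A' ⊗[A] B) N' LinearMap.id t' t P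
    (hI.isImpurity inferInstance (IsBaseChange.ofEquiv (LinearEquiv.refl (A' ⊗[A] B) N')) hle ⟨rfl⟩)

/-- a point which is closed in its fibre is maximal among the primes of the fibre -/
theorem top_of_isMaximal {A E : Type u} [CommRing A] [CommRing E] [Algebra A E] {p : Ideal A} [p.IsPrime] {m : Ideal E}
    [m.IsPrime] (hmp : m.comap (algebraMap A E) = p) (hmax : (FlatCA.fiberIdeal p m).IsMaximal) :
    ∀ r : Ideal E, r.IsPrime → r.comap (algebraMap A E) = p → m ≤ r → r = m := by
  intro r hr hrp hmr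
  haveI := hr
  obtain ⟨Q', hQ'⟩ := (PrimeSpectrum.preimageEquivFiber A E ⟨p, inferInstance⟩).symm.surjective
    ⟨⟨r, hr⟩, PrimeSpectrum.ext hrp⟩
  have hQc : Q'.asIdeal.comap (Algebra.TensorProduct.includeRight : E →ₐ[A] p.Fiber E).toRingHom = r :=
    congrArg (fun z => z.1.asIdeal) hQ'
  have h1 : FlatCA.fiberIdeal p m = Q'.asIdeal := hmax.eq_of_le Q'.2.ne_top (by
    rw [← fiberIdeal_comap A E p Q'.asIdeal, hQc]
    exact Ideal.map_mono hmr)
  refine le_antisymm (fun x hx => ?_) hmr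
  obtain ⟨Q₀, hQ₀⟩ := (PrimeSpectrum.preimageEquivFiber A E ⟨p, inferInstance⟩).symm.surjective
    ⟨⟨m, ‹m.IsPrime›⟩, PrimeSpectrum.ext hmp⟩
  have hQ₀c : Q₀.asIdeal.comap (Algebra.TensorProduct.includeRight : E →ₐ[A] p.Fiber E).toRingHom = m :=
    congrArg (fun z => z.1.asIdeal) hQ₀
  have h2 : FlatCA.fiberIdeal p m = Q₀.asIdeal := by
    conv_lhs => rw [← hQ₀c]
    exact fiberIdeal_comap A E p Q₀.asIdeal
  rw [← hQ₀c, ← h2, h1, hQc]
  exact hx

/-- a point which is maximal in its fibre and minimal over the fibre ideal is quasi-finite -/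
theorem quasiFiniteAt_quotient {A E : Type u} [CommRing A] [IsNoetherianRing A] [CommRing E] [Algebra A E]
    [Algebra.FiniteType A E] {p : Ideal A} [p.IsPrime] {m q : Ideal E} [m.IsPrime] (hmp : m.comap (algebraMap A E) = p)
    (htop : ∀ r : Ideal E, r.IsPrime → r.comap (algebraMap A E) = p → m ≤ r → r = m) (hqm : q ≤ m)
    (hmin : ∀ r : Ideal E, r.IsPrime → q ⊔ p.map (algebraMap A E) ≤ r → r ≤ m → r = m)
    (t : Ideal (E ⧸ q)) [t.IsPrime] (ht : t.comap (Ideal.Quotient.mk q) = m) :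
    Algebra.QuasiFiniteAt A t := by
  classical
  haveI : IsNoetherianRing E := Algebra.FiniteType.isNoetherianRing A E
  let J := q ⊔ p.map (algebraMap A E)
  have hJm : J ≤ m := sup_le hqm (Ideal.map_le_iff_le_comap.2 hmp.ge)
  have hfin : (J.minimalPrimes \ {m}).Finite := J.finite_minimalPrimes_of_isNoetherianRing.subset Set.sdiff_subset
  have hchoose : ∀ r ∈ hfin.toFinset, ∃ x ∈ r, x ∉ m := by
    intro r hr
    obtain ⟨hr, hne⟩ := hfin.mem_toFinset.1 hr
    exact Set.not_subset.1 fun h => hne (hmin r hr.1.1 hr.1.2 h)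
  choose x hxr hxm using hchoose
  let s := ∏ r ∈ hfin.toFinset.attach, x r.1 r.2
  have hsm : s ∉ m := by
    intro h
    obtain ⟨r, -, hr⟩ := (Ideal.IsPrime.prod_mem_iff).1 h
    exact hxm r.1 r.2 hr
  refine Algebra.QuasiFiniteAt.of_isOpen_singleton_fiber (⟨t, inferInstance⟩ : PrimeSpectrum (E ⧸ q)) ?_
  rw [isOpen_induced_iff]
  refine ⟨(PrimeSpectrum.basicOpen (Ideal.Quotient.mk q s) : Set (PrimeSpectrum (E ⧸ q))), PrimeSpectrum.isOpen_basicOpen, ?_⟩
  ext ⟨r, hr⟩
  simp only [Set.mem_preimage, SetLike.mem_coe, PrimeSpectrum.mem_basicOpen, Set.mem_singleton_iff]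
  constructor
  · intro hs
    have hrp : (r.asIdeal.comap (Ideal.Quotient.mk q)).comap (algebraMap A E) = p := by
      rw [← hmp, ← ht, Ideal.comap_comap, Ideal.comap_comap]
      exact congrArg PrimeSpectrum.asIdeal hr
    have hJr : J ≤ r.asIdeal.comap (Ideal.Quotient.mk q) := sup_le
      (fun a ha => by rw [Ideal.mem_comap, Ideal.Quotient.eq_zero_iff_mem.2 ha]; exact zero_mem _)
      (Ideal.map_le_iff_le_comap.2 hrp.ge)
    obtain ⟨r₀, hr₀, hr₀r⟩ := Ideal.exists_minimalPrimes_le hJr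
    have hr₀m : r₀ = m := by
      by_contra hne
      have hmem : r₀ ∈ hfin.toFinset := hfin.mem_toFinset.2 ⟨hr₀, hne⟩
      exact hs (hr₀r (Ideal.prod_mem r₀ (Finset.mem_attach _ ⟨r₀, hmem⟩) (hxr r₀ hmem)))
    refine Subtype.ext (PrimeSpectrum.ext (Ideal.comap_injective_of_surjective _ Ideal.Quotient.mk_surjective ?_))
    exact (htop _ (Ideal.IsPrime.comap _) hrp (hr₀m ▸ hr₀r)).trans ht.symm
  · intro h hs
    apply hsm
    rw [← ht]
    have h2 : r.asIdeal = t := congrArg (fun z => z.1.asIdeal) h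
    exact Ideal.mem_comap.2 (h2 ▸ hs)

/-- impurity data at a closed point of a finite type base change give quasi-finite impurity data -/
theorem exists_qf_imp {A L B N E : Type u} [CommRing A] [CommRing L] [IsNoetherianRing L] [Algebra A L] [CommRing B] [Algebra A B]
    [Algebra.FiniteType A B] [AddCommGroup N] [Module B N] [Module A N] [IsScalarTower A B N] [Module.Finite B N]
    [CommRing E] [Algebra A E] [Algebra L E] [IsScalarTower A L E] [Algebra.FiniteType L E] {p : Ideal L} [p.IsPrime] {u' m : Ideal E} [u'.IsPrime] [m.IsPrime]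
    (hle : u' ≤ m) (hmp : m.comap (algebraMap L E) = p) (htop : ∀ r : Ideal E, r.IsPrime → r.comap (algebraMap L E) = p → m ≤ r → r = m)
    {σ : Ideal (E ⊗[A] B)} (hI : Imp E (E ⊗[A] B) ((E ⊗[A] B) ⊗[B] N) u' m σ) :
    ∃ (q : Ideal E) (_ : q.IsPrime) (t : Ideal (E ⧸ q)) (_ : t.IsPrime),
      t.comap (Ideal.Quotient.mk q) = m ∧ Algebra.QuasiFiniteAt L t ∧
      ∃ P, Imp (E ⧸ q) ((E ⧸ q) ⊗[A] B) (((E ⧸ q) ⊗[A] B) ⊗[B] N) (⊥ : Ideal (E ⧸ q)) t P := by
  classical
  obtain ⟨hσ, hσu, hass, hno⟩ := hI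
  haveI : IsNoetherianRing E := Algebra.FiniteType.isNoetherianRing L E
  haveI : IsNoetherianRing (E ⊗[A] B) := Algebra.FiniteType.isNoetherianRing E _
  obtain ⟨n, h, hh⟩ := Submodule.fg_iff_exists_fin_generating_family.1 (IsNoetherian.noetherian σ)
  have hhσ : ∀ i, h i ∈ σ := fun i => hh.le (Submodule.subset_span ⟨i, rfl⟩)
  obtain ⟨z₀, hk₀, hz₀⟩ : ∃ z : u'.ResidueField ⊗[E] ((E ⊗[A] B) ⊗[B] N),
      (∀ i, act E u'.ResidueField (h i) z = 0) ∧ z ≠ 0 := by
    by_contra hcon
    push Not at hcon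
    obtain ⟨i, hi⟩ := Loc.exists_notMem_of_joint h hcon (mem_assPts_of_assAt hσ hass)
    exact hi (hhσ i)
  obtain ⟨f, hf, hkill⟩ := exists_killed_open u' h z₀ hz₀ hk₀
  have hspan : σ ≤ Ideal.span (Set.range h) := hh.ge
  -- impurities on every quotient between `u'` and `m` avoiding `f`
  have himp : ∀ (q : Ideal E) [q.IsPrime], u' ≤ q → f ∉ q → q ≤ m →
      ∃ (t : Ideal (E ⧸ q)) (_ : t.IsPrime), t.comap (Ideal.Quotient.mk q) = m ∧
        ∃ P, Imp (E ⧸ q) ((E ⧸ q) ⊗[A] B) (((E ⧸ q) ⊗[A] B) ⊗[B] N) (⊥ : Ideal (E ⧸ q)) t P := by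
    intro q _ huq hfq hqm
    have hc : (m.map (Ideal.Quotient.mk q)).comap (Ideal.Quotient.mk q) = m := by
      rw [Ideal.comap_map_of_surjective _ Ideal.Quotient.mk_surjective, ← RingHom.ker_eq_comap_bot, Ideal.mk_ker,
        sup_eq_left.2 hqm]
    haveI : (m.map (Ideal.Quotient.mk q)).IsPrime :=
      Ideal.map_isPrime_of_surjective Ideal.Quotient.mk_surjective (by rwa [Ideal.mk_ker])
    refine ⟨_, inferInstance, hc, exists_imp_quotient h hspan hno q _ hc ?_⟩
    have hker : ∀ a, algebraMap E (⊥ : Ideal (E ⧸ q)).ResidueField a = 0 ↔ a ∈ q := fun a => by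
      rw [IsScalarTower.algebraMap_apply E (E ⧸ q) (⊥ : Ideal (E ⧸ q)).ResidueField,
        Ideal.algebraMap_residueField_eq_zero, Ideal.mem_bot]
      exact Ideal.Quotient.eq_zero_iff_mem
    exact hkill _ (fun a ha => (hker a).2 (huq ha)) fun h0 => hfq ((hker f).1 h0)
  by_cases hpu : p.map (algebraMap L E) ≤ u'
  · exfalso
    obtain ⟨t, _, htc, P, hP⟩ := himp u' le_rfl hf hle
    refine not_imp_of_comap_eq (p := p.comap (algebraMap A L)) (fun a ha => ?_) _ t bot_le ?_ P hP
    · rw [IsScalarTower.algebraMap_apply A E (E ⧸ u'), Ideal.Quotient.algebraMap_eq,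
        Ideal.Quotient.eq_zero_iff_mem]
      rw [IsScalarTower.algebraMap_apply A L E]
      exact hpu (Ideal.mem_map_of_mem _ ha)
    · rw [IsScalarTower.algebraMap_eq A E (E ⧸ u'), ← Ideal.comap_comap, Ideal.Quotient.algebraMap_eq, htc,
        IsScalarTower.algebraMap_eq A L E, ← Ideal.comap_comap, hmp]
  · obtain ⟨π, hπp, hπu⟩ := SetLike.not_le_iff_exists.1 hpu
    have hπm : π ∈ m := Ideal.map_le_iff_le_comap.2 hmp.ge hπp
    let C := Localization.AtPrime m
    haveI : IsNoetherianRing C := IsLocalization.isNoetherianRing m.primeCompl C inferInstance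
    have hdis : Disjoint (m.primeCompl : Set E) (u' : Set E) := Set.disjoint_left.2 fun x hx hxu => hx (hle hxu)
    haveI : (u'.map (algebraMap E C)).IsPrime := IsLocalization.isPrime_of_isPrime_disjoint _ C u' inferInstance hdis
    have hu'c : (u'.map (algebraMap E C)).comap (algebraMap E C) = u' :=
      IsLocalization.under_map_of_isPrime_disjoint _ C inferInstance hdis
    obtain ⟨Q, hQ, huQ, hπQ, hQmax⟩ := Curves.exists_prime_below_maximal (u'.map (algebraMap E C))
      (π := algebraMap E C (π * f)) (fun h => ((Ideal.IsPrime.mem_or_mem ‹u'.IsPrime›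
        (hu'c.le h)).elim hπu hf))
      ((IsLocalization.AtPrime.to_map_mem_maximal_iff C m (π * f)).2 (m.mul_mem_right f hπm))
    haveI := hQ
    let q := Q.comap (algebraMap E C)
    have hqm : q ≤ m := fun a ha => (IsLocalization.AtPrime.to_map_mem_maximal_iff C m a).1
      (IsLocalRing.le_maximalIdeal hQ.ne_top ha)
    have huq : u' ≤ q := Ideal.map_le_iff_le_comap.1 huQ
    have hfq : f ∉ q := fun h => hπQ (by rw [map_mul]; exact Q.mul_mem_left _ h)
    obtain ⟨t, _, htc, hP⟩ := himp q huq hfq hqm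
    refine ⟨q, inferInstance, t, inferInstance, htc, ?_, hP⟩
    refine quasiFiniteAt_quotient hmp htop hqm (fun r hr hJr hrm => ?_) t htc
    have hdr : Disjoint (m.primeCompl : Set E) (r : Set E) := Set.disjoint_left.2 fun x hx hxr => hx (hrm hxr)
    have hrc : (r.map (algebraMap E C)).comap (algebraMap E C) = r :=
      IsLocalization.under_map_of_isPrime_disjoint _ C hr hdr
    rcases hQmax (r.map (algebraMap E C)) (IsLocalization.isPrime_of_isPrime_disjoint _ C r hr hdr) (by
      rw [← IsLocalization.map_under m.primeCompl C Q]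
      exact Ideal.map_mono (le_sup_left.trans hJr)) with h | h
    · exfalso
      apply hπQ
      rw [map_mul]
      exact Q.mul_mem_right _ (h.le (Ideal.mem_map_of_mem _ (le_sup_right.trans hJr hπp)))
    · rw [← hrc, h]
      exact Localization.AtPrime.under_maximalIdeal

/-- impurity data on the canonical model give an impurity -/
theorem hasImpurity_of_imp {A B N A' : Type u} [CommRing A] [CommRing B] [Algebra A B] [AddCommGroup N] [Module B N]
    [Module A N] [IsScalarTower A B N] [CommRing A'] [Algebra A A'] {p : Ideal A} [p.IsPrime]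
    {Q : ∀ (A' : Type u) [CommRing A'] [Algebra A A'], Ideal A' → Prop} (t' t : Ideal A') [t'.IsPrime] [t.IsPrime]
    {P : Ideal (A' ⊗[A] B)} (hle : t' ≤ t) (htp : t.LiesOver p) (h : Imp A' (A' ⊗[A] B) ((A' ⊗[A] B) ⊗[B] N) t' t P)
    (hQ : Q A' t) : FlatCA.HasImpurity A B N p Q := by
  haveI := h.1
  exact ⟨A', A' ⊗[A] B, (A' ⊗[A] B) ⊗[B] N, inferInstance, inferInstance, inferInstance, inferInstance, inferInstance,
    inferInstance, inferInstance, inferInstance, inferInstance, inferInstance, inferInstance, inferInstance,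
    inferInstance, inferInstance, TensorProduct.mk B _ N 1, t', t, inferInstance, inferInstance, P, inferInstance,
    h.isImpurity inferInstance (TensorProduct.isBaseChange B N _) hle htp, hQ⟩

end Groth.Agent.RG.Pure
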