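import Groth.Agent.RG.Pure.DescentFlat
import Mathlib.RingTheory.Etale.QuasiFinite
import Mathlib.RingTheory.Ideal.GoingUp

/-!
# Impurities at quasi-finite points give impurities at elementary étale neighbourhoods
-/

set_option autoImplicit false
set_option linter.style.haveILetI false
set_option backward.isDefEq.respectTransparency false

universe u

open TensorProduct

namespace Groth.Agent.RG.Pure

attribute [local instance] Algebra.TensorProduct.rightAlgebra

theorem finite_map_tensor {A B A₁ A₂ : Type u} [CommRing A] [CommRing B] [Algebra A B] [CommRing A₁] [Algebra A A₁]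
    [CommRing A₂] [Algebra A A₂] [Algebra A₁ A₂] [IsScalarTower A A₁ A₂] [Module.Finite A₁ A₂] :
    (Algebra.TensorProduct.map (IsScalarTower.toAlgHom A A₁ A₂) (AlgHom.id A B)).toRingHom.Finite := by
  classical
  let Φ := Algebra.TensorProduct.map (IsScalarTower.toAlgHom A A₁ A₂) (AlgHom.id A B)
  letI : Algebra (A₁ ⊗[A] B) (A₂ ⊗[A] B) := Φ.toRingHom.toAlgebra
  obtain ⟨n, c, hc⟩ := Module.Finite.exists_fin (R := A₁) (M := A₂)
  rw [RingHom.Finite]
  refine ⟨⟨Finset.univ.image fun j => c j ⊗ₜ[A] (1 : B), eq_top_iff.2 fun z hz => ?_⟩⟩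
  clear hz
  induction z using TensorProduct.induction_on with
  | zero => exact zero_mem _
  | tmul a b =>
    obtain ⟨r, hr⟩ := (Submodule.mem_span_range_iff_exists_fun A₁).1 (show a ∈ Submodule.span A₁ (Set.range c) by
      rw [hc]; trivial)
    rw [← hr, TensorProduct.sum_tmul]
    refine Submodule.sum_mem _ fun j _ => ?_
    have h : (r j • c j) ⊗ₜ[A] b = (r j ⊗ₜ[A] b : A₁ ⊗[A] B) • (c j ⊗ₜ[A] (1 : B)) := by
      rw [Algebra.smul_def (r j ⊗ₜ[A] b)]
      change _ = Φ (r j ⊗ₜ[A] b) * _
      rw [Algebra.TensorProduct.map_tmul, Algebra.TensorProduct.tmul_mul_tmul, mul_one, Algebra.smul_def]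
      rfl
    rw [h]
    exact Submodule.smul_mem _ _ (Submodule.subset_span (by simp))
  | add x y hx hy => exact add_mem hx hy

/-- impurity data descend along a finite map with a single point over `t` -/
theorem exists_imp_finite {A B N : Type u} [CommRing A] [CommRing B] [Algebra A B] [AddCommGroup N] [Module B N]
    [Module A N] [IsScalarTower A B N] {A₁ A₂ : Type u} [CommRing A₁] [Algebra A A₁] [CommRing A₂] [Algebra A A₂]
    [Algebra A₁ A₂] [IsScalarTower A A₁ A₂] [Module.Finite A₁ A₂] (s' s : Ideal A₂) [s'.IsPrime] [s.IsPrime]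
    (huniq : ∀ u : Ideal A₂, u.IsPrime → u.comap (algebraMap A₁ A₂) = s.comap (algebraMap A₁ A₂) → u = s)
    (h : ∃ Q, Imp A₂ (A₂ ⊗[A] B) ((A₂ ⊗[A] B) ⊗[B] N) s' s Q) :
    ∃ P, Imp A₁ (A₁ ⊗[A] B) ((A₁ ⊗[A] B) ⊗[B] N) (s'.comap (algebraMap A₁ A₂)) (s.comap (algebraMap A₁ A₂)) P := by
  obtain ⟨Q, hQ, hQs, hass, hno⟩ := h
  let Φ := Algebra.TensorProduct.map (IsScalarTower.toAlgHom A A₁ A₂) (AlgHom.id A B)
  let t' := s'.comap (algebraMap A₁ A₂)
  let K := s'.ResidueField
  letI : Algebra t'.ResidueField K := (Ideal.ResidueField.map t' s' (algebraMap A₁ A₂) rfl).toAlgebra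
  haveI : IsScalarTower A₁ t'.ResidueField K := IsScalarTower.of_algebraMap_eq fun x => by
    rw [RingHom.algebraMap_toAlgebra, Ideal.ResidueField.map_algebraMap, ← IsScalarTower.algebraMap_apply]
  have hc : Φ.toRingHom.comp (algebraMap A₁ (A₁ ⊗[A] B)) = (algebraMap A₂ (A₂ ⊗[A] B)).comp (algebraMap A₁ A₂) :=
    RingHom.ext fun x => by
      change Φ (x ⊗ₜ[A] (1 : B)) = algebraMap A₁ A₂ x ⊗ₜ[A] (1 : B)
      rw [Algebra.TensorProduct.map_tmul, AlgHom.id_apply]
      rfl
  have hσ : AssAt A₁ ((A₁ ⊗[A] B) ⊗[B] N) K (Q.comap Φ.toRingHom) :=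
    hass.comap_map (IsScalarTower.toAlgHom A A₁ A₂) fun a => (IsScalarTower.algebraMap_apply A₁ A₂ K a).symm
  haveI := hQ
  have hσ' := assAt_of_mem_assPts (mem_assPts_of_assAt (p := t') (hQ.comap Φ.toRingHom) hσ)
  refine ⟨Q.comap Φ.toRingHom, hQ.comap _, ?_, hσ', fun P' hP' hle hP't => ?_⟩
  · rw [Ideal.comap_comap, hc, ← Ideal.comap_comap, hQs]
  letI : Algebra (A₁ ⊗[A] B) (A₂ ⊗[A] B) := Φ.toRingHom.toAlgebra
  haveI : Module.Finite (A₁ ⊗[A] B) (A₂ ⊗[A] B) := finite_map_tensor (A := A) (B := B) (A₁ := A₁) (A₂ := A₂)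
  haveI := hP'
  obtain ⟨Q', hQQ', hQ', hQ'c⟩ := Ideal.exists_ideal_over_prime_of_isIntegral P' Q hle
  haveI := hQ'
  refine hno Q' hQ' hQQ' (huniq _ (hQ'.comap _) ?_)
  rw [Ideal.comap_comap, ← hc, ← Ideal.comap_comap]
  exact (congrArg (Ideal.comap (algebraMap A₁ (A₁ ⊗[A] B))) hQ'c).trans hP't

/-- quasi-finite impurities give étale ones -/
theorem exists_etale_impurity {A B N : Type u} [CommRing A] [CommRing B] [Algebra A B] [Algebra.FiniteType A B]
    [AddCommGroup N] [Module B N] [Module.Finite B N] {p : Ideal A} [p.IsPrime]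
    {A' B' N' : Type u} [CommRing A'] [CommRing B'] [Algebra A A'] [Algebra B B'] [Algebra A' B'] [Algebra A B']
    [IsScalarTower A B B'] [IsScalarTower A A' B'] [AddCommGroup N'] [Module B' N'] [Module B N'] [IsScalarTower B B' N']
    [Module A' N'] [IsScalarTower A' B' N'] {g : N →ₗ[B] N'} {t' t : Ideal A'} [t'.IsPrime] [t.IsPrime] {P : Ideal B'}
    [P.IsPrime] [Algebra.FiniteType A A'] [Algebra.QuasiFiniteAt A t]
    (hI : FlatCA.IsImpurity A B N p A' B' N' g t' t P) :
    ∃ (A₁ : Type u) (_ : CommRing A₁) (_ : Algebra A A₁) (t₁' t₁ : Ideal A₁) (_ : t₁'.IsPrime) (_ : t₁.IsPrime)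
      (σ : Ideal (A₁ ⊗[A] B)) (_ : σ.IsPrime), FlatCA.IsEtaleNhd A A₁ p t₁ ∧
      FlatCA.IsImpurity A B N p A₁ (A₁ ⊗[A] B) ((A₁ ⊗[A] B) ⊗[B] N) (TensorProduct.mk B _ N 1) t₁' t₁ σ := by
  classical
  letI : Module A N := Module.compHom N (algebraMap A B)
  haveI : IsScalarTower A B N := IsScalarTower.of_algebraMap_smul fun _ _ => rfl
  obtain ⟨hpush, hbc, hle, htp, -, -, -⟩ := id hI
  obtain ⟨Φ, e₀, hΦ, he₀⟩ := exists_model_map (A := A) (B := B) (C := B) (C' := A' ⊗[A] B) (fun x => ⟨x, rfl⟩) hpush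
    inferInstance hbc (TensorProduct.isBaseChange B N (A' ⊗[A] B))
  have hcan := (exists_imp_iff Φ hΦ e₀ he₀ t' t).1 ⟨P, imp_of_isImpurity hI⟩
  haveI := htp
  obtain ⟨R₁, _, _, _, P₁, _, hP₁p, e, he, Pt, _, hPtP₁, hPtt, hePt, hbij, hfin, huniq⟩ :=
    Algebra.exists_etale_isIdempotentElem_forall_liesOver_eq p t
  let D := R₁ ⊗[A] A'
  let C := Localization.Away e
  have hd : Disjoint (Submonoid.powers e : Set D) (Pt : Set D) := by
    rwa [Ideal.disjoint_powers_iff_notMem_of_isPrime]
  let s := Pt.map (algebraMap D C)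
  haveI hs : s.IsPrime := IsLocalization.isPrime_of_isPrime_disjoint _ C Pt inferInstance hd
  have hsc : s.comap (algebraMap D C) = Pt := IsLocalization.under_map_of_isPrime_disjoint _ C inferInstance hd
  have hst : s.comap (algebraMap A' C) = t := by
    rw [IsScalarTower.algebraMap_eq A' D C, ← Ideal.comap_comap, hsc]
    exact hPtt
  have hsP : s.comap (algebraMap R₁ C) = P₁ := by
    rw [IsScalarTower.algebraMap_eq R₁ D C, ← Ideal.comap_comap, hsc]
    exact hPtP₁.over.symm
  haveI : IsScalarTower A A' C := IsScalarTower.of_algebraMap_eq fun a => by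
    rw [IsScalarTower.algebraMap_apply A D C, IsScalarTower.algebraMap_apply A' D C]
    congr 1
    change algebraMap A R₁ a ⊗ₜ[A] (1 : A') = (1 : R₁) ⊗ₜ[A] algebraMap A A' a
    rw [Algebra.algebraMap_eq_smul_one, Algebra.algebraMap_eq_smul_one (A := A'), smul_tmul]
  haveI : Algebra.Etale A' D := Algebra.Etale.of_equiv (Algebra.TensorProduct.commRight A A' R₁)
  haveI : Module.Flat D C := IsLocalization.flat C (Submonoid.powers e)
  haveI : Module.Flat A' C := Module.Flat.trans A' D C
  haveI : Module.Flat C (Localization.AtPrime s) := IsLocalization.flat _ s.primeCompl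
  haveI : Module.Flat A' (Localization.AtPrime s) := Module.Flat.trans A' C _
  haveI : s.LiesOver t := ⟨hst.symm⟩
  obtain ⟨s', hs', hs's, hQ⟩ := exists_imp_lift (B := B) (N := N) (A₂ := C) t' t hle s hcan
  haveI := hs'
  haveI := hfin
  obtain ⟨σ, hσ⟩ := exists_imp_finite (A := A) (B := B) (N := N) (A₁ := R₁) s' s (fun u hu hus => by
    haveI := hu
    have h1 : u.comap (algebraMap D C) = Pt := by
      refine huniq _ (hu.comap _) ⟨?_⟩ fun he' => hu.ne_top (Ideal.eq_top_of_isUnit_mem u he'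
        (IsLocalization.map_units C (⟨e, Submonoid.mem_powers e⟩ : Submonoid.powers e)))
      rw [Ideal.under_def, Ideal.comap_comap, ← IsScalarTower.algebraMap_eq, hus, hsP]
    calc u = (u.comap (algebraMap D C)).map (algebraMap D C) :=
          (IsLocalization.map_under (Submonoid.powers e) C u).symm
      _ = s := by rw [h1]) hQ
  haveI := hσ.1
  haveI : (s'.comap (algebraMap R₁ C)).IsPrime := Ideal.IsPrime.comap _
  haveI : (s.comap (algebraMap R₁ C)).IsPrime := Ideal.IsPrime.comap _
  refine ⟨R₁, inferInstance, inferInstance, _, _, inferInstance, inferInstance, σ, hσ.1, ?_,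
    hσ.isImpurity inferInstance (TensorProduct.isBaseChange B N _) (Ideal.comap_mono hs's) ⟨?_⟩⟩
  · simp only [hsP]
    exact ⟨inferInstance, hP₁p, hbij⟩
  · rw [hsP]
    exact hP₁p.over

/-- a base change of a base change being impure at a quasi-finite point gives an étale impurity -/
theorem exists_etale_impurity_of_baseChange {A B N A' B' N' : Type u} [CommRing A] [CommRing B] [Algebra A B]
    [Algebra.FiniteType A B] [AddCommGroup N] [Module B N] [Module.Finite B N] [CommRing A'] [CommRing B'] [Algebra A A']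
    [Algebra B B'] [Algebra A' B'] [Algebra A B'] [IsScalarTower A B B'] [IsScalarTower A A' B']
    [Algebra.IsPushout A B A' B'] [AddCommGroup N'] [Module B' N'] [Module B N'] [IsScalarTower B B' N']
    {f : N →ₗ[B] N'} (hf : IsBaseChange B' f) {p : Ideal A} [p.IsPrime] (p' : Ideal A') [p'.IsPrime] [p'.LiesOver p]
    [Algebra.FiniteType A A'] [Algebra.QuasiFiniteAt A p']
    {A'' B'' N'' : Type u} [CommRing A''] [CommRing B''] [Algebra A' A''] [Algebra B' B''] [Algebra A'' B'']
    [Algebra A' B''] [IsScalarTower A' B' B''] [IsScalarTower A' A'' B''] [AddCommGroup N''] [Module B'' N'']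
    [Module B' N''] [IsScalarTower B' B'' N''] [Module A'' N''] [IsScalarTower A'' B'' N''] {g : N' →ₗ[B'] N''}
    {t' t : Ideal A''} [t'.IsPrime] [t.IsPrime] {P : Ideal B''} [P.IsPrime] (het : FlatCA.IsEtaleNhd A' A'' p' t)
    (hI : FlatCA.IsImpurity A' B' N' p' A'' B'' N'' g t' t P) :
    ∃ (A₁ : Type u) (_ : CommRing A₁) (_ : Algebra A A₁) (t₁' t₁ : Ideal A₁) (_ : t₁'.IsPrime) (_ : t₁.IsPrime)
      (σ : Ideal (A₁ ⊗[A] B)) (_ : σ.IsPrime), FlatCA.IsEtaleNhd A A₁ p t₁ ∧
      FlatCA.IsImpurity A B N p A₁ (A₁ ⊗[A] B) ((A₁ ⊗[A] B) ⊗[B] N) (TensorProduct.mk B _ N 1) t₁' t₁ σ := by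
  obtain ⟨hpush, hbc, hle, htp, hPt, hass, hno⟩ := hI
  haveI := het.1
  haveI := htp
  letI : Algebra A A'' := ((algebraMap A' A'').comp (algebraMap A A')).toAlgebra
  haveI : IsScalarTower A A' A'' := IsScalarTower.of_algebraMap_eq' rfl
  letI : Algebra B B'' := ((algebraMap B' B'').comp (algebraMap B B')).toAlgebra
  haveI : IsScalarTower B B' B'' := IsScalarTower.of_algebraMap_eq' rfl
  letI : Algebra A B'' := ((algebraMap B B'').comp (algebraMap A B)).toAlgebra
  haveI : IsScalarTower A B B'' := IsScalarTower.of_algebraMap_eq' rfl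
  haveI : IsScalarTower A A' B'' := IsScalarTower.of_algebraMap_eq fun a => by
    change algebraMap B' B'' (algebraMap B B' (algebraMap A B a)) = _
    rw [← IsScalarTower.algebraMap_apply A B B', IsScalarTower.algebraMap_apply A A' B',
      ← IsScalarTower.algebraMap_apply A' B' B'']
  haveI : IsScalarTower A A'' B'' := IsScalarTower.of_algebraMap_eq fun a => by
    rw [IsScalarTower.algebraMap_apply A A' A'', IsScalarTower.algebraMap_apply A A' B'',
      ← IsScalarTower.algebraMap_apply A' A'' B'']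
  letI : Module B N'' := Module.compHom N'' (algebraMap B B'')
  haveI : IsScalarTower B B'' N'' := IsScalarTower.of_algebraMap_smul fun _ _ => rfl
  haveI : IsScalarTower B B' N'' := IsScalarTower.of_algebraMap_smul fun b x => by
    rw [← algebraMap_smul B'' (algebraMap B B' b) x, ← IsScalarTower.algebraMap_apply, algebraMap_smul]
  haveI : IsScalarTower A B' B'' := IsScalarTower.of_algebraMap_eq fun a => by
    rw [IsScalarTower.algebraMap_apply A A' B'', IsScalarTower.algebraMap_apply A A' B',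
      ← IsScalarTower.algebraMap_apply A' B' B'']
  haveI : Algebra.IsPushout A A' B B' := Algebra.IsPushout.symm inferInstance
  have h23 : Algebra.IsPushout A' A'' B' B'' := hpush.symm
  have hpush' : Algebra.IsPushout A B A'' B'' :=
    ((Algebra.IsPushout.comp_iff A A' B B' (T := A'') (T' := B'')).2 h23).symm
  haveI : Algebra.FiniteType A A'' := Algebra.FiniteType.trans (R := A) (S := A') (A := A'') inferInstance inferInstance
  letI : Algebra (Localization.AtPrime p') (Localization.AtPrime t) :=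
    (Localization.localRingHom p' t (algebraMap A' A'') htp.over).toAlgebra
  haveI : IsScalarTower A' (Localization.AtPrime p') (Localization.AtPrime t) := IsScalarTower.of_algebraMap_eq fun x => by
    rw [RingHom.algebraMap_toAlgebra, Localization.localRingHom_to_map, ← IsScalarTower.algebraMap_apply]
  haveI : IsScalarTower A (Localization.AtPrime p') (Localization.AtPrime t) := IsScalarTower.of_algebraMap_eq fun x => by
    rw [IsScalarTower.algebraMap_apply A A' (Localization.AtPrime p'),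
      ← IsScalarTower.algebraMap_apply A' (Localization.AtPrime p') (Localization.AtPrime t),
      ← IsScalarTower.algebraMap_apply A A' (Localization.AtPrime t)]
  haveI : Algebra.QuasiFinite A' (Localization.AtPrime t) := inferInstance
  haveI : Algebra.QuasiFinite (Localization.AtPrime p') (Localization.AtPrime t) :=
    Algebra.QuasiFinite.of_restrictScalars A' (Localization.AtPrime p') (Localization.AtPrime t)
  haveI : Algebra.QuasiFiniteAt A t := Algebra.QuasiFinite.trans A (Localization.AtPrime p') (Localization.AtPrime t)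
  exact exists_etale_impurity (A' := A'') (t' := t') (t := t) (P := P) (g := (g.restrictScalars B) ∘ₗ f)
    ⟨hpush', hf.comp hbc, hle, Ideal.LiesOver.trans t p' p, hPt, hass, hno⟩

end Groth.Agent.RG.Pure
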