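import Groth.Agent.RG.Pure.Trivial
import Groth.Agent.RG.Pure.BaseChange

/-!
# Impurities in different models of a base change, and along closed immersions
-/

set_option autoImplicit false
set_option linter.style.haveILetI false
set_option backward.isDefEq.respectTransparency false

universe u

open TensorProduct

namespace Groth.Agent.RG.Pure

/-- the part of an impurity which only sees the base-changed data -/
def Imp (A' B' N' : Type u) [CommRing A'] [CommRing B'] [Algebra A' B'] [AddCommGroup N'] [Module B' N'] [Module A' N']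
    [IsScalarTower A' B' N'] (t' t : Ideal A') [t'.IsPrime] (P : Ideal B') : Prop :=
  P.IsPrime ∧ P.comap (algebraMap A' B') = t' ∧ AssAt A' N' t'.ResidueField P ∧
    ∀ P' : Ideal B', P'.IsPrime → P ≤ P' → P'.comap (algebraMap A' B') ≠ t

theorem imp_of_isImpurity {A B N : Type u} [CommRing A] [CommRing B] [Algebra A B] [AddCommGroup N] [Module B N]
    {p : Ideal A} [p.IsPrime]
    {A' B' N' : Type u} [CommRing A'] [CommRing B'] [Algebra A A'] [Algebra B B'] [Algebra A' B'] [Algebra A B']
    [IsScalarTower A B B'] [IsScalarTower A A' B'] [AddCommGroup N'] [Module B' N'] [Module B N'] [IsScalarTower B B' N']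
    [Module A' N'] [IsScalarTower A' B' N'] {f : N →ₗ[B] N'} {t' t : Ideal A'} [t'.IsPrime] [t.IsPrime] {P : Ideal B'}
    [P.IsPrime] (h : FlatCA.IsImpurity A B N p A' B' N' f t' t P) : Imp A' B' N' t' t P := by
  obtain ⟨-, -, -, -, hP, hass, hno⟩ := h
  exact ⟨inferInstance, hP.over.symm, assAt_of_mem_assPts ((mem_assPts_iff _ _ t' P hP.over.symm).2 hass),
    fun P' hP' hle hc => hno P' hle ⟨hc.symm⟩⟩

theorem Imp.isImpurity {A B N : Type u} [CommRing A] [CommRing B] [Algebra A B] [AddCommGroup N] [Module B N]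
    {p : Ideal A} [p.IsPrime]
    {A' B' N' : Type u} [CommRing A'] [CommRing B'] [Algebra A A'] [Algebra B B'] [Algebra A' B'] [Algebra A B']
    [IsScalarTower A B B'] [IsScalarTower A A' B'] [AddCommGroup N'] [Module B' N'] [Module B N'] [IsScalarTower B B' N']
    [Module A' N'] [IsScalarTower A' B' N'] {f : N →ₗ[B] N'} {t' t : Ideal A'} [t'.IsPrime] [t.IsPrime] {P : Ideal B'}
    [P.IsPrime] (hpush : Algebra.IsPushout A B A' B') (hf : IsBaseChange B' f) (hle : t' ≤ t) (htp : t.LiesOver p)
    (h : Imp A' B' N' t' t P) : FlatCA.IsImpurity A B N p A' B' N' f t' t P :=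
  ⟨hpush, hf, hle, htp, ⟨h.2.1.symm⟩, (mem_assPts_iff _ _ t' P h.2.1).1
    (mem_assPts_of_assAt h.1 h.2.2.1), fun P' _ hle hover => h.2.2.2 P' inferInstance hle hover.over.symm⟩

/-- transfer of impurity data along a surjection -/
theorem exists_imp_iff {A' B₁ B₂ N₁ N₂ : Type u} [CommRing A'] [CommRing B₁] [CommRing B₂] [Algebra A' B₁] [Algebra A' B₂]
    [AddCommGroup N₁] [Module B₁ N₁] [Module A' N₁] [IsScalarTower A' B₁ N₁] [AddCommGroup N₂] [Module B₂ N₂]
    [Module A' N₂] [IsScalarTower A' B₂ N₂] (Φ : B₁ →ₐ[A'] B₂) (hΦ : Function.Surjective Φ) (e : N₁ ≃ₗ[A'] N₂)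
    (he : ∀ (b : B₁) (x : N₁), e (b • x) = Φ b • e x) (t' t : Ideal A') [t'.IsPrime] :
    (∃ P, Imp A' B₁ N₁ t' t P) ↔ ∃ P, Imp A' B₂ N₂ t' t P := by
  let K := t'.ResidueField
  let eK : K ⊗[A'] N₁ ≃ₗ[K] K ⊗[A'] N₂ := AlgebraTensorModule.congr (LinearEquiv.refl K K) e
  have heK : ∀ (s : B₁) y, eK (act A' K s y) = act A' K (Φ s) (eK y) := by
    intro s y
    induction y using TensorProduct.induction_on with
    | zero => simp
    | tmul k n => simp [eK, act_tmul, he]
    | add a b ha hb => simp only [map_add, ha, hb]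
  have hc : ∀ Q : Ideal B₂, (Q.comap Φ.toRingHom).comap (algebraMap A' B₁) = Q.comap (algebraMap A' B₂) := fun Q => by
    rw [Ideal.comap_comap, show Φ.toRingHom.comp (algebraMap A' B₁) = algebraMap A' B₂ from Φ.comp_algebraMap]
  have hsurj : Function.Surjective Φ.toRingHom := hΦ
  constructor
  · rintro ⟨P, hP, hPt, ⟨y, hy⟩, hno⟩
    have hker : RingHom.ker Φ.toRingHom ≤ P := fun s hs => (hy s).2 ⟨1, eK.injective (by
      rw [pow_one, heK, show Φ s = 0 from hs, map_zero, ← map_zero (algebraMap A' B₂), act_algebraMap, map_zero,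
        zero_smul])⟩
    have hmap : (P.map Φ.toRingHom).comap Φ.toRingHom = P := by
      rw [Ideal.comap_map_of_surjective _ hsurj, sup_eq_left.2 (by simpa [RingHom.ker_eq_comap_bot] using hker)]
    haveI := hP
    refine ⟨P.map Φ.toRingHom, Ideal.map_isPrime_of_surjective hsurj hker, by rw [← hc, hmap, hPt], ⟨eK y, ?_⟩, ?_⟩
    · intro s
      obtain ⟨s, rfl⟩ := hsurj s
      rw [← Ideal.mem_comap, hmap, hy]
      refine exists_congr fun k => ?_
      rw [AlgHom.toRingHom_eq_coe, RingHom.coe_coe, ← map_pow, ← heK, LinearEquiv.map_eq_zero_iff]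
    · intro Q hQ hle hQt
      exact hno (Q.comap Φ.toRingHom) (hQ.comap _) (hmap ▸ Ideal.comap_mono hle) ((hc Q).trans hQt)
  · rintro ⟨P, hP, hPt, hass, hno⟩
    refine ⟨P.comap Φ.toRingHom, hP.comap _, (hc P).trans hPt, hass.transfer Φ.toRingHom eK.symm (fun s y => ?_),
      fun Q hQ hle hQt => ?_⟩
    · refine eK.injective ?_
      rw [LinearEquiv.apply_symm_apply, heK, LinearEquiv.apply_symm_apply]
      rfl
    · have hker : RingHom.ker Φ.toRingHom ≤ Q := fun s hs => hle (show Φ.toRingHom s ∈ P by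
        rw [RingHom.mem_ker.1 hs]; exact P.zero_mem)
      have hmap : (Q.map Φ.toRingHom).comap Φ.toRingHom = Q := by
        rw [Ideal.comap_map_of_surjective _ hsurj, sup_eq_left.2 (by simpa [RingHom.ker_eq_comap_bot] using hker)]
      haveI := hQ
      refine hno (Q.map Φ.toRingHom) (Ideal.map_isPrime_of_surjective hsurj hker) ?_ ?_
      · intro x hx
        obtain ⟨x, rfl⟩ := hsurj x
        exact Ideal.mem_map_of_mem _ (hle hx)
      · rw [← hc, hmap, hQt]

attribute [local instance] Algebra.TensorProduct.rightAlgebra in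
theorem isBaseChange_left {A B N A' B' N' : Type u} [CommRing A] [CommRing B] [Algebra A B] [AddCommGroup N] [Module B N]
    [Module A N] [IsScalarTower A B N] [CommRing A'] [CommRing B'] [Algebra A A'] [Algebra B B'] [Algebra A' B']
    [Algebra A B'] [IsScalarTower A B B'] [IsScalarTower A A' B'] [Algebra.IsPushout A A' B B'] [AddCommGroup N']
    [Module B' N'] [Module B N'] [IsScalarTower B B' N'] [Module A' N'] [IsScalarTower A' B' N'] [Module A N']
    [IsScalarTower A B N'] [IsScalarTower A A' N'] {f : N →ₗ[B] N'} (hf : IsBaseChange B' f) :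
    IsBaseChange A' (f.restrictScalars A) :=
  IsBaseChange.of_equiv ((Algebra.IsPushout.cancelBaseChange A A' B B' N).symm ≪≫ₗ hf.equiv.restrictScalars A')
    fun x => by
      simp only [LinearEquiv.trans_apply, Algebra.IsPushout.cancelBaseChange_symm_tmul, LinearEquiv.restrictScalars_apply,
        IsBaseChange.equiv_tmul, map_one, one_smul, LinearMap.coe_restrictScalars]

attribute [local instance] Algebra.TensorProduct.rightAlgebra in
/-- base-change models of a module over a quotient and over the ring correspond -/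
theorem exists_model_map {A B C N : Type u} [CommRing A] [CommRing B] [CommRing C] [Algebra A B] [Algebra B C]
    [Algebra A C] [IsScalarTower A B C] (hBC : Function.Surjective (algebraMap B C)) [AddCommGroup N] [Module C N]
    [Module B N] [IsScalarTower B C N]
    {A' B' N₁ C' N₂ : Type u} [CommRing A'] [Algebra A A'] [CommRing B'] [Algebra B B'] [Algebra A' B'] [Algebra A B']
    [IsScalarTower A B B'] [IsScalarTower A A' B'] [AddCommGroup N₁] [Module B' N₁] [Module B N₁]
    [IsScalarTower B B' N₁] [Module A' N₁] [IsScalarTower A' B' N₁] [CommRing C'] [Algebra C C'] [Algebra A' C']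
    [Algebra A C'] [IsScalarTower A C C'] [IsScalarTower A A' C'] [AddCommGroup N₂] [Module C' N₂] [Module C N₂]
    [IsScalarTower C C' N₂] [Module A' N₂] [IsScalarTower A' C' N₂] (hB : Algebra.IsPushout A B A' B')
    (hC : Algebra.IsPushout A C A' C') {f₁ : N →ₗ[B] N₁} {f₂ : N →ₗ[C] N₂} (h₁ : IsBaseChange B' f₁)
    (h₂ : IsBaseChange C' f₂) :
    ∃ (Φ : B' →ₐ[A'] C') (e : N₁ ≃ₗ[A'] N₂), Function.Surjective Φ ∧ ∀ (b : B') (x : N₁), e (b • x) = Φ b • e x := by
  haveI : Algebra.IsPushout A A' B B' := hB.symm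
  haveI : Algebra.IsPushout A A' C C' := hC.symm
  letI : Module A N := Module.compHom N (algebraMap A C)
  haveI : IsScalarTower A C N := IsScalarTower.of_algebraMap_smul fun _ _ => rfl
  haveI : IsScalarTower A B N := IsScalarTower.of_algebraMap_smul fun a n => by
    rw [← algebraMap_smul C (algebraMap A B a) n, ← IsScalarTower.algebraMap_apply]; rfl
  letI : Module A N₁ := Module.compHom N₁ (algebraMap A A')
  haveI : IsScalarTower A A' N₁ := IsScalarTower.of_algebraMap_smul fun _ _ => rfl
  haveI : IsScalarTower A B N₁ := IsScalarTower.of_algebraMap_smul fun a n => by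
    rw [← algebraMap_smul B' (algebraMap A B a) n, ← IsScalarTower.algebraMap_apply,
      IsScalarTower.algebraMap_apply A A' B', algebraMap_smul]; rfl
  letI : Module A N₂ := Module.compHom N₂ (algebraMap A A')
  haveI : IsScalarTower A A' N₂ := IsScalarTower.of_algebraMap_smul fun _ _ => rfl
  haveI : IsScalarTower A C N₂ := IsScalarTower.of_algebraMap_smul fun a n => by
    rw [← algebraMap_smul C' (algebraMap A C a) n, ← IsScalarTower.algebraMap_apply,
      IsScalarTower.algebraMap_apply A A' C', algebraMap_smul]; rfl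
  let eB : A' ⊗[A] B ≃ₐ[A'] B' := Algebra.IsPushout.equiv A A' B B'
  let eC : A' ⊗[A] C ≃ₐ[A'] C' := Algebra.IsPushout.equiv A A' C C'
  let Φ : B' →ₐ[A'] C' := eC.toAlgHom.comp
    ((Algebra.TensorProduct.map (AlgHom.id A' A') (IsScalarTower.toAlgHom A B C)).comp eB.symm.toAlgHom)
  have hb₁ : IsBaseChange A' (f₁.restrictScalars A) := isBaseChange_left h₁
  have hb₂ : IsBaseChange A' (f₂.restrictScalars A) := isBaseChange_left h₂
  let e : N₁ ≃ₗ[A'] N₂ := hb₁.equiv.symm ≪≫ₗ hb₂.equiv
  have hee : ∀ n, e (f₁ n) = f₂ n := fun n => by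
    have h : hb₁.equiv ((1 : A') ⊗ₜ[A] n) = f₁ n := (hb₁.equiv_tmul _ _).trans (one_smul _ _)
    simp only [e, LinearEquiv.trans_apply, ← h, LinearEquiv.symm_apply_apply]
    exact (hb₂.equiv_tmul _ _).trans (one_smul _ _)
  have hΦ : ∀ (a : A') (b : B), Φ (algebraMap A' B' a * algebraMap B B' b) =
      algebraMap A' C' a * algebraMap C C' (algebraMap B C b) := fun a b => by
    have h : eB (a ⊗ₜ[A] b) = algebraMap A' B' a * algebraMap B B' b := by
      rw [Algebra.IsPushout.equiv_tmul]
    simp only [Φ, AlgHom.comp_apply, ← h, AlgEquiv.toAlgHom_eq_coe, AlgEquiv.coe_toAlgHom, AlgEquiv.symm_apply_apply]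
    rw [Algebra.TensorProduct.map_tmul, Algebra.IsPushout.equiv_tmul]
    rfl
  refine ⟨Φ, e, eC.surjective.comp ((?_ : Function.Surjective
    (Algebra.TensorProduct.map (AlgHom.id A' A') (IsScalarTower.toAlgHom A B C))).comp eB.symm.surjective), fun b x => ?_⟩
  · intro z
    induction z using TensorProduct.induction_on with
    | zero => exact ⟨0, map_zero _⟩
    | tmul a c =>
      obtain ⟨b, rfl⟩ := hBC c
      exact ⟨a ⊗ₜ b, by simp⟩
    | add a b ha hb =>
      obtain ⟨u, rfl⟩ := ha
      obtain ⟨v, rfl⟩ := hb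
      exact ⟨u + v, map_add _ _ _⟩
  obtain ⟨w, rfl⟩ := eB.surjective b
  induction w using TensorProduct.induction_on with
  | zero => simp
  | add u v hu hv => simp only [map_add, add_smul, hu, hv]
  | tmul a b =>
    rw [show eB (a ⊗ₜ[A] b) = algebraMap A' B' a * algebraMap B B' b from Algebra.IsPushout.equiv_tmul .., hΦ,
      mul_smul, mul_smul, algebraMap_smul B' a (algebraMap B B' b • x), map_smul e a,
      algebraMap_smul C' a (algebraMap C C' (algebraMap B C b) • e x)]
    congr 1
    induction x using hb₁.inductionOn with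
    | zero => simp
    | tmul n =>
      rw [LinearMap.coe_restrictScalars, algebraMap_smul B' b (f₁ n), ← map_smul f₁, hee, hee,
        algebraMap_smul C' (algebraMap B C b) (f₂ n), ← map_smul f₂, algebraMap_smul C b n]
    | smul a x hx => rw [smul_comm, map_smul, hx, map_smul, smul_comm]
    | add x y hx hy => simp only [smul_add, map_add, hx, hy]

attribute [local instance] Algebra.TensorProduct.rightAlgebra in
/-- an impurity of a module over a quotient gives one over the ring, on the standard model -/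
theorem isImpurity_of_quot {A B C N : Type u} [CommRing A] [CommRing B] [CommRing C] [Algebra A B] [Algebra B C]
    [Algebra A C] [IsScalarTower A B C] (hBC : Function.Surjective (algebraMap B C)) [AddCommGroup N] [Module C N]
    [Module B N] [IsScalarTower B C N] {p : Ideal A} [p.IsPrime]
    {A' C' N' : Type u} [CommRing A'] [Algebra A A'] [CommRing C'] [Algebra C C'] [Algebra A' C'] [Algebra A C']
    [IsScalarTower A C C'] [IsScalarTower A A' C'] [AddCommGroup N'] [Module C' N'] [Module C N']
    [IsScalarTower C C' N'] [Module A' N'] [IsScalarTower A' C' N'] {g : N →ₗ[C] N'} {t' t : Ideal A'} [t'.IsPrime]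
    [t.IsPrime] {P : Ideal C'} [P.IsPrime] (hI : FlatCA.IsImpurity A C N p A' C' N' g t' t P) :
    ∃ (Q : Ideal (A' ⊗[A] B)) (_ : Q.IsPrime),
      FlatCA.IsImpurity A B N p A' (A' ⊗[A] B) ((A' ⊗[A] B) ⊗[B] N) (TensorProduct.mk B _ N 1) t' t Q := by
  obtain ⟨Φ, e, hΦ, he⟩ := exists_model_map (A := A) (A' := A') (B' := A' ⊗[A] B) (C' := C') hBC inferInstance hI.1
    (TensorProduct.isBaseChange B N (A' ⊗[A] B)) hI.2.1
  obtain ⟨Q, hQ⟩ := (exists_imp_iff Φ hΦ e he t' t).2 ⟨P, imp_of_isImpurity hI⟩
  haveI := hQ.1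
  exact ⟨Q, hQ.1, hQ.isImpurity inferInstance (TensorProduct.isBaseChange B N _) hI.2.2.1 hI.2.2.2.1⟩

attribute [local instance] Algebra.TensorProduct.rightAlgebra in
/-- an impurity of a module over a ring gives one over a quotient it lives on, on the standard model -/
theorem isImpurity_to_quot {A B C N : Type u} [CommRing A] [CommRing B] [CommRing C] [Algebra A B] [Algebra B C]
    [Algebra A C] [IsScalarTower A B C] (hBC : Function.Surjective (algebraMap B C)) [AddCommGroup N] [Module C N]
    [Module B N] [IsScalarTower B C N] {p : Ideal A} [p.IsPrime]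
    {A' B' N' : Type u} [CommRing A'] [Algebra A A'] [CommRing B'] [Algebra B B'] [Algebra A' B'] [Algebra A B']
    [IsScalarTower A B B'] [IsScalarTower A A' B'] [AddCommGroup N'] [Module B' N'] [Module B N']
    [IsScalarTower B B' N'] [Module A' N'] [IsScalarTower A' B' N'] {f : N →ₗ[B] N'} {t' t : Ideal A'} [t'.IsPrime]
    [t.IsPrime] {P : Ideal B'} [P.IsPrime] (hI : FlatCA.IsImpurity A B N p A' B' N' f t' t P) :
    ∃ (Q : Ideal (A' ⊗[A] C)) (_ : Q.IsPrime),
      FlatCA.IsImpurity A C N p A' (A' ⊗[A] C) ((A' ⊗[A] C) ⊗[C] N) (TensorProduct.mk C _ N 1) t' t Q := by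
  obtain ⟨Φ, e, hΦ, he⟩ := exists_model_map (A := A) (A' := A') (B' := B') (C' := A' ⊗[A] C) hBC hI.1 inferInstance
    hI.2.1 (TensorProduct.isBaseChange C N (A' ⊗[A] C))
  obtain ⟨Q, hQ⟩ := (exists_imp_iff Φ hΦ e he t' t).1 ⟨P, imp_of_isImpurity hI⟩
  haveI := hQ.1
  exact ⟨Q, hQ.1, hQ.isImpurity inferInstance (TensorProduct.isBaseChange C N _) hI.2.2.1 hI.2.2.2.1⟩

end Groth.Agent.RG.Pure
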